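import Groth.Agent.SHEss.Basic
import Groth.Agent.S16448
import Groth.Agent.Hensel.Henselization
import Mathlib.RingTheory.Artinian.Module

/-!
# Subalgebras of a strict henselization inside essentially étale ones
-/

set_option autoImplicit false
set_option linter.style.haveILetI false

universe u

open IsLocalRing nonZeroDivisors

namespace Groth.Agent.SHEss

variable {A S : Type u} [CommRing A] [IsLocalRing A] [CommRing S] [IsLocalRing S] [Algebra A S]
  [IsLocalHom (algebraMap A S)]

/-- A finite subset of a strict henselization lies in an essentially étale local subalgebra. -/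
theorem exists_essEtale_subalgebra [Hensel.IsStrictHenselization A S] (s : Finset S) :
    ∃ E : Subalgebra A S, (↑s : Set S) ⊆ (E : Set S) ∧ ∃ _ : IsLocalRing E,
      IsLocalHom (algebraMap E S) ∧ EGA4loc.IsEssentiallyEtale A E := by
  classical
  obtain ⟨e⟩ := Hensel.exists_algEquiv_strictHenz A S
  obtain ⟨N, -, hN⟩ := Hensel.Henz.exists_of_finset (Classical.arbitrary _) (s.image e.symm)
  haveI := N.etale
  let φ : N.B →ₐ[A] S := e.toAlgHom.comp ((Hensel.Henz.of N).comp (IsScalarTower.toAlgHom A N.B N.Stage))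
  let P : Ideal N.B := (maximalIdeal S).comap φ
  have hPA : P.comap (algebraMap A N.B) = maximalIdeal A := by
    ext a
    show φ (algebraMap A N.B a) ∈ maximalIdeal S ↔ _
    rw [AlgHom.commutes, mem_maximalIdeal, mem_maximalIdeal, mem_nonunits_iff, mem_nonunits_iff,
      isUnit_map_iff (algebraMap A S)]
  let E₀ := Localization.AtPrime P
  have hE₀ : EGA4loc.IsEssentiallyEtale A E₀ :=
    ⟨N.B, inferInstance, inferInstance, P, inferInstance, inferInstance, hPA, ⟨AlgEquiv.refl⟩⟩
  haveI : IsLocalHom (algebraMap A E₀) := ⟨fun a ha => by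
    by_contra hna
    rw [IsScalarTower.algebraMap_apply A N.B E₀, IsLocalization.AtPrime.isUnit_to_map_iff E₀ P] at ha
    exact ha (show a ∈ P.comap (algebraMap A N.B) from hPA.symm ▸ hna)⟩
  have hu : ∀ y : P.primeCompl, IsUnit (φ y) := fun y => by
    by_contra h
    exact y.2 h
  let π : E₀ →ₐ[A] S := IsLocalization.liftAlgHom (M := P.primeCompl) (f := φ) hu
  have hπ : ∀ x, π (algebraMap N.B E₀ x) = φ x := fun x => IsLocalization.lift_eq _ x
  have hinj : Function.Injective π := injective_algHom hE₀ π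
  let ε : E₀ ≃ₐ[A] π.range := AlgEquiv.ofInjective π hinj
  haveI : IsLocalRing π.range := ε.toRingEquiv.isLocalRing
  refine ⟨π.range, fun x hx => ?_, inferInstance, ⟨fun y hy => ?_⟩, ?_⟩
  · obtain ⟨z, hz⟩ := hN (e.symm x) (Finset.mem_image_of_mem _ hx)
    obtain ⟨⟨b, t⟩, hbt⟩ := IsLocalization.surj N.S z
    have ht : IsUnit (φ (t : N.B)) := ((IsLocalization.map_units N.Stage t).map (Hensel.Henz.of N)).map e
    refine ⟨IsLocalization.mk' E₀ b (⟨t, fun h => h ht⟩ : P.primeCompl), ?_⟩
    refine ht.mul_right_cancel ?_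
    show π _ * φ (t : N.B) = x * φ t
    rw [← hπ, ← map_mul, show IsLocalization.mk' E₀ b (⟨t, fun h => h ht⟩ : P.primeCompl) * algebraMap N.B E₀ t = algebraMap N.B E₀ b from IsLocalization.mk'_spec E₀ b ⟨t, fun h => h ht⟩, hπ, hπ]
    show e (Hensel.Henz.of N (algebraMap N.B N.Stage b)) = x * e (Hensel.Henz.of N (algebraMap N.B N.Stage t))
    rw [← hbt, map_mul, map_mul, hz, AlgEquiv.apply_symm_apply]
  · obtain ⟨w, rfl⟩ := ε.surjective y
    haveI : IsLocalHom π.toRingHom := EtAlg7.isLocalHom_algHom hE₀ π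
    exact ((isUnit_of_map_unit π.toRingHom w hy).map ε : _)
  · exact ⟨N.B, inferInstance, inferInstance, P, inferInstance, inferInstance, hPA, ⟨ε.symm⟩⟩

/-- A non-zero-divisor of a subalgebra of an essentially étale algebra divides one of the base. -/
theorem exists_mul_eq_algebraMap [IsReduced A] (hmin : (minimalPrimes A).Finite) {E : Type u} [CommRing E]
    [IsLocalRing E] [Algebra A E] [IsLocalHom (algebraMap A E)] (hE : EGA4loc.IsEssentiallyEtale A E)
    (D : Subalgebra A E) :
    (∀ d : D, d ∈ D⁰ → ∃ a ∈ A⁰, ∃ d' : D, (d : E) * d' = algebraMap A E a) ∧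
      ∃ t : Finset D, ∀ x : D, ∃ a ∈ A⁰, algebraMap A D a * x ∈ Submodule.span A (t : Set D) := by
  classical
  obtain ⟨hloc, t, ht⟩ := Groth.Agent.S16448.result A E hmin hE
  haveI := hloc
  haveI := EssEtFrac5.isArtinianRing_fractionRing hmin
  let K := FractionRing A
  let KE := FractionRing E
  have hu : ∀ a : A⁰, IsUnit (algebraMap A KE a) := fun a => by
    rw [IsScalarTower.algebraMap_apply A E KE]
    exact IsLocalization.map_units KE (⟨_, a, a.2, rfl⟩ : (A⁰).map (algebraMap A E))
  let g : K →ₐ[A] KE := IsLocalization.liftAlgHom (M := A⁰) (f := Algebra.ofId A KE) hu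
  letI : Algebra K KE := g.toRingHom.toAlgebra
  haveI : IsScalarTower A K KE := IsScalarTower.of_algebraMap_eq fun a => (g.commutes a).symm
  haveI : Module.Finite K KE := ⟨⟨t, eq_top_iff.2 fun x _ => by
    obtain ⟨a, ha, hx⟩ := ht x
    have h1 : algebraMap A KE a * x ∈ Submodule.span K (t : Set KE) := Submodule.span_le_restrictScalars A K _ hx
    have h2 := Submodule.smul_mem _ (IsLocalization.mk' K (1 : A) ⟨a, ha⟩) h1
    rwa [Algebra.smul_def, ← mul_assoc, IsScalarTower.algebraMap_apply A K KE, ← map_mul,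
      IsLocalization.mk'_spec, map_one, map_one, one_mul] at h2⟩⟩
  haveI : IsNoetherian K KE := inferInstance
  let j : D →ₐ[A] KE := (IsScalarTower.toAlgHom A E KE).comp D.val
  have hj : Function.Injective j := (IsFractionRing.injective E KE).comp Subtype.val_injective
  let V : Submodule K KE := Submodule.span K (Set.range j)
  -- every element of `V` is `j(x)/a`
  have hV : ∀ v ∈ V, ∃ a ∈ A⁰, ∃ x : D, algebraMap A KE a * v = j x := by
    intro v hv
    induction hv using Submodule.span_induction with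
    | mem v hv => obtain ⟨x, rfl⟩ := hv; exact ⟨1, one_mem _, x, by simp⟩
    | zero => exact ⟨1, one_mem _, 0, by simp⟩
    | add v w _ _ hv hw =>
      obtain ⟨a, ha, x, hx⟩ := hv
      obtain ⟨b, hb, y, hy⟩ := hw
      refine ⟨a * b, mul_mem ha hb, algebraMap A D b * x + algebraMap A D a * y, ?_⟩
      rw [map_add, map_mul, map_mul, map_mul, AlgHom.commutes, AlgHom.commutes, ← hx, ← hy]
      ring
    | smul k v _ hv =>
      obtain ⟨a, ha, x, hx⟩ := hv
      obtain ⟨⟨r, s⟩, hrs⟩ := IsLocalization.surj A⁰ k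
      refine ⟨s * a, mul_mem s.2 ha, algebraMap A D r * x, ?_⟩
      have h1 : algebraMap K KE k * algebraMap A KE s = algebraMap A KE r := by
        rw [IsScalarTower.algebraMap_apply A K KE, IsScalarTower.algebraMap_apply A K KE, ← map_mul, hrs]
      rw [map_mul, map_mul, AlgHom.commutes, ← hx, Algebra.smul_def, ← h1]
      ring
  refine ⟨fun d hd => ?_, ?_⟩
  · have hmem : ∀ v ∈ V, j d * v ∈ V := fun v hv => by
      induction hv using Submodule.span_induction with
      | mem v hv => obtain ⟨x, rfl⟩ := hv; exact Submodule.subset_span ⟨d * x, map_mul j d x⟩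
      | zero => simp
      | add v w _ _ hv hw => rw [mul_add]; exact add_mem hv hw
      | smul k v _ hv => rw [mul_smul_comm]; exact Submodule.smul_mem _ _ hv
    let μ : V →ₗ[K] V :=
      { toFun := fun v => ⟨j d * v, hmem v v.2⟩
        map_add' := fun v w => Subtype.ext (mul_add (j d) v.1 w.1)
        map_smul' := fun c v => Subtype.ext (mul_smul_comm c (j d) v.1) }
    have hμ : Function.Injective μ := by
      rw [injective_iff_map_eq_zero]
      intro v hv
      obtain ⟨a, ha, x, hx⟩ := hV v v.2
      have h0 : j (x * d) = 0 := by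
        rw [map_mul, ← hx, mul_assoc, mul_comm (v : KE), show j d * (v : KE) = 0 from congrArg Subtype.val hv, mul_zero]
      have hx0 : x = 0 := (mem_nonZeroDivisors_iff_right.1 hd) x (hj (h0.trans (map_zero j).symm))
      rw [hx0, map_zero] at hx
      exact Subtype.ext ((hu ⟨a, ha⟩).mul_right_eq_zero.1 hx)
    haveI : IsArtinian K V := inferInstance
    obtain ⟨⟨v, hv⟩, hv'⟩ := (IsArtinian.bijective_of_injective_endomorphism μ hμ).2
      ⟨1, Submodule.subset_span ⟨1, map_one j⟩⟩
    obtain ⟨a, ha, x, hx⟩ := hV v hv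
    refine ⟨a, ha, x, IsFractionRing.injective E KE ?_⟩
    have h1 : j d * v = 1 := congrArg Subtype.val hv'
    rw [map_mul, ← IsScalarTower.algebraMap_apply A E KE]
    show j d * j x = _
    rw [← hx, mul_left_comm, h1, mul_one]
  · obtain ⟨G, hG⟩ := IsNoetherian.noetherian V
    choose a ha x hx using fun v : G => hV v (hG ▸ Submodule.subset_span v.2)
    refine ⟨Finset.univ.image x, fun y => ?_⟩
    have hy : j y ∈ Submodule.span K (G : Set KE) := hG ▸ Submodule.subset_span ⟨y, rfl⟩
    have key : ∀ v ∈ Submodule.span K (G : Set KE), ∃ b ∈ A⁰, ∃ w ∈ Submodule.span A ((Finset.univ.image x : Finset D) : Set D),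
        algebraMap A KE b * v = j w := by
      intro v hv
      induction hv using Submodule.span_induction with
      | mem v hv => exact ⟨a ⟨v, hv⟩, ha _, x ⟨v, hv⟩, Submodule.subset_span (by simp), hx ⟨v, hv⟩⟩
      | zero => exact ⟨1, one_mem _, 0, zero_mem _, by simp⟩
      | add v w _ _ hv hw =>
        obtain ⟨b, hb, p, hp, hp'⟩ := hv
        obtain ⟨c, hc, q, hq, hq'⟩ := hw
        refine ⟨b * c, mul_mem hb hc, c • p + b • q, add_mem (Submodule.smul_mem _ _ hp) (Submodule.smul_mem _ _ hq), ?_⟩
        rw [map_add, map_mul, map_smul, map_smul, Algebra.smul_def, Algebra.smul_def, ← hp', ← hq']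
        ring
      | smul k v _ hv =>
        obtain ⟨b, hb, p, hp, hp'⟩ := hv
        obtain ⟨⟨r, s⟩, hrs⟩ := IsLocalization.surj A⁰ k
        refine ⟨s * b, mul_mem s.2 hb, r • p, Submodule.smul_mem _ _ hp, ?_⟩
        have h1 : algebraMap K KE k * algebraMap A KE s = algebraMap A KE r := by
          rw [IsScalarTower.algebraMap_apply A K KE, IsScalarTower.algebraMap_apply A K KE, ← map_mul, hrs]
        rw [map_mul, map_smul, Algebra.smul_def, Algebra.smul_def, ← hp', ← h1]
        ring
    obtain ⟨b, hb, w, hw, hw'⟩ := key _ hy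
    refine ⟨b, hb, ?_⟩
    rwa [show algebraMap A D b * y = w from hj (by rw [map_mul, AlgHom.commutes, hw'])]

end Groth.Agent.SHEss
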