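import Groth.Agent.SHEss.Saturated
import Groth.Agent.SHEss.Contain
import Groth.Prelude.Def_Hensel

/-!
# Normal intermediate rings of a strict henselization of a normal local domain
-/

set_option autoImplicit false
set_option linter.style.haveILetI false

universe u

open IsLocalRing nonZeroDivisors

namespace Groth.Agent.SHEss

variable {A S : Type u} [CommRing A] [IsLocalRing A] [IsDomain A] [IsIntegrallyClosed A] [IsNoetherianRing A]
  [CommRing S] [IsLocalRing S] [Algebra A S] [IsLocalHom (algebraMap A S)]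

/-- The trace of a dominated normal intermediate ring on an essentially étale local subalgebra is essentially
étale. -/
theorem exists_essEtale_inf [Hensel.IsStrictHenselization A S] (D : Subalgebra A S) [IsLocalRing D]
    [IsLocalHom (algebraMap D S)] [IsDomain D] [IsIntegrallyClosed D] {E : Subalgebra A S} [IsLocalRing E]
    [IsLocalHom (algebraMap E S)] (hE : EGA4loc.IsEssentiallyEtale A E) :
    ∃ D' : Subalgebra A S, D' ≤ D ∧ D ⊓ E ≤ D' ∧
      ∃ _ : IsLocalRing D', IsLocalHom (algebraMap D' S) ∧ EGA4loc.IsEssentiallyEtale A D' := by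
  obtain ⟨_, _⟩ := isDomain_normal_sh A S
  let T : Subalgebra A S :=
    { carrier := {x | x ∈ E ∧ ∃ b ∈ D, ∃ c ∈ D, c ≠ 0 ∧ x * c = b}
      mul_mem' := by
        rintro x y ⟨hx, b, hb, c, hc, hc0, h⟩ ⟨hy, b', hb', c', hc', hc0', h'⟩
        exact ⟨E.mul_mem hx hy, _, D.mul_mem hb hb', _, D.mul_mem hc hc', mul_ne_zero hc0 hc0',
          by rw [← h, ← h']; ring⟩
      add_mem' := by
        rintro x y ⟨hx, b, hb, c, hc, hc0, h⟩ ⟨hy, b', hb', c', hc', hc0', h'⟩
        exact ⟨E.add_mem hx hy, _, D.add_mem (D.mul_mem hb hc') (D.mul_mem hb' hc), _, D.mul_mem hc hc',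
          mul_ne_zero hc0 hc0', by rw [← h, ← h']; ring⟩
      algebraMap_mem' := fun a => ⟨E.algebraMap_mem a, _, D.algebraMap_mem a, 1, D.one_mem, one_ne_zero, mul_one _⟩ }
  have hsat : ∀ b ∈ T, ∀ c ∈ T, c ≠ 0 → ∀ x ∈ E, x * c = b → x ∈ T := by
    rintro p ⟨-, b₁, hb₁, c₁, hc₁, hc₁0, h₁⟩ q ⟨-, b₂, hb₂, c₂, hc₂, hc₂0, h₂⟩ hq x hx hxq
    have hb₂0 : b₂ ≠ 0 := h₂ ▸ mul_ne_zero hq hc₂0
    exact ⟨hx, _, D.mul_mem hb₁ hc₂, _, D.mul_mem hc₁ hb₂, mul_ne_zero hc₁0 hb₂0,
      by rw [← h₁, ← h₂, ← hxq]; ring⟩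
  obtain ⟨hloc, hlh, het, hfrac⟩ := saturated hE T (fun x hx => hx.1) hsat
  have hint : ∀ x ∈ T, IsIntegral A x → x ∈ D := by
    rintro x ⟨-, b, hb, c, hc, hc0, h⟩ hx
    let j : FractionRing D →ₐ[D] FractionRing S :=
      IsFractionRing.liftAlgHom (g := Algebra.ofId D (FractionRing S))
        ((IsFractionRing.injective S (FractionRing S)).comp Subtype.val_injective)
    let z : FractionRing D := algebraMap D _ ⟨b, hb⟩ / algebraMap D _ ⟨c, hc⟩
    have hjz : j z = algebraMap S (FractionRing S) x := by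
      rw [map_div₀, j.commutes, j.commutes]
      show algebraMap S (FractionRing S) b / algebraMap S (FractionRing S) c = algebraMap S _ x
      rw [div_eq_iff (fun h0 => hc0 (IsFractionRing.injective S (FractionRing S) (h0.trans (map_zero _).symm)))]
      rw [← map_mul, h]
    have hz : IsIntegral D z := by
      rw [← isIntegral_algHom_iff j j.injective, hjz, isIntegral_algebraMap_iff (IsFractionRing.injective S _)]
      exact hx.tower_top
    obtain ⟨d, hd⟩ := IsIntegrallyClosed.isIntegral_iff.1 hz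
    have h1 : algebraMap S (FractionRing S) (d : S) = algebraMap S _ x := by rw [← hjz, ← hd, j.commutes]; rfl
    exact IsFractionRing.injective S (FractionRing S) h1 ▸ d.2
  refine ⟨T, fun x hx => ?_, fun x hx => ⟨hx.2, x, hx.1, 1, D.one_mem, one_ne_zero, mul_one _⟩, hloc, hlh, het⟩
  obtain ⟨b, hb, c, hc, hbi, hci, hu, h⟩ := hfrac x hx
  obtain ⟨v, hv⟩ := (isUnit_of_map_unit (algebraMap D S) ⟨c, hint c hc hci⟩ hu).exists_right_inv
  have h1 : c * (v : S) = 1 := congrArg Subtype.val hv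
  have : x = b * (v : S) := by rw [← h, mul_assoc, h1, mul_one]
  exact this ▸ D.mul_mem (hint b hb hbi) v.2

end Groth.Agent.SHEss
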