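import Groth.Agent.SHEss.Root
import Groth.Agent.SHEss.Contain
import Mathlib.FieldTheory.PrimitiveElement
import Mathlib.FieldTheory.IsSepClosed
import Mathlib.RingTheory.Localization.Integral

/-!
# Traces of finitely generated subfields on a strict henselization that is a domain
-/

set_option autoImplicit false
set_option linter.style.haveILetI false

universe u

open IsLocalRing Polynomial nonZeroDivisors

namespace Groth.Agent.SHEss

variable {A S : Type u} [CommRing A] [HenselianLocalRing A] [IsDomain A] [CommRing S] [IsLocalRing S] [IsDomain S]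
  [Algebra A S] [IsLocalHom (algebraMap A S)] [Hensel.IsStrictHenselization A S]
  (K K' : Type u) [Field K] [Field K'] [Algebra A K] [IsFractionRing A K] [Algebra S K'] [IsFractionRing S K']
  [Algebra A K'] [IsScalarTower A S K'] [Algebra K K'] [IsScalarTower A K K']

/-- An element of a strict henselization algebraic over the adjunction field of a root lies in the adjunction. -/
theorem mem_adjoin_of_mem_field (f : A[X]) (hf : f.Monic) (hirr : Irreducible (f.map (residue A)))
    (hsep : (f.map (residue A)).Separable) (θ : S) (hθ : aeval θ f = 0) (x : S)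
    (hx : algebraMap S K' x ∈ IntermediateField.adjoin K {algebraMap S K' θ}) :
    x ∈ Algebra.adjoin A ({θ} : Set S) := by
  obtain ⟨⟨hloc, hlh, hE, -⟩, -⟩ := adjoin_root_props f hf hirr hsep θ hθ
  haveI := EssEtLib.isLocalHom_algebraMap hE
  haveI := isStrictHenselization_of_intermediate (S := S) hE
  haveI := Hensel.faithfullyFlat_of_isStrictHenselization (Algebra.adjoin A ({θ} : Set S)) S
  haveI := Hensel.faithfullyFlat_of_isStrictHenselization A S
  have hint : IsIntegral K (algebraMap S K' θ) := by
    refine IsIntegral.tower_top (R := A) ⟨f, hf, ?_⟩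
    rw [← aeval_def, aeval_algebraMap_apply, hθ, map_zero]
  rw [← IntermediateField.mem_toSubalgebra, IntermediateField.adjoin_simple_toSubalgebra_of_isAlgebraic hint.isAlgebraic,
    Algebra.adjoin_singleton_eq_range_aeval] at hx
  obtain ⟨p, hp⟩ := hx
  obtain ⟨⟨b, hb⟩, hbp⟩ := IsLocalization.integerNormalization_map_to_map A⁰ p
  let q := IsLocalization.integerNormalization A⁰ p
  have h1 : algebraMap A S b * x = aeval θ q := by
    apply IsFractionRing.injective S K'
    have hap : aeval (algebraMap S K' θ) p = algebraMap S K' x := hp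
    rw [map_mul, ← IsScalarTower.algebraMap_apply, ← aeval_algebraMap_apply, ← aeval_map_algebraMap K, hbp,
      ← algebraMap_smul K b p, map_smul, algebraMap_smul, hap, Algebra.smul_def]
  have h2 : (⟨aeval θ q, aeval_mem_adjoin_singleton A θ⟩ : Algebra.adjoin A ({θ} : Set S)) ∈
      Ideal.span {algebraMap A (Algebra.adjoin A ({θ} : Set S)) b} := by
    rw [← Ideal.comap_map_eq_self_of_faithfullyFlat (B := S) (Ideal.span {algebraMap A (Algebra.adjoin A ({θ} : Set S)) b}),
      Ideal.mem_comap, Ideal.map_span, Set.image_singleton, Ideal.mem_span_singleton']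
    exact ⟨x, (mul_comm _ _).trans h1⟩
  obtain ⟨d, hd⟩ := Ideal.mem_span_singleton'.1 h2
  have : (d : S) = x := mul_right_cancel₀
    (fun h => nonZeroDivisors.ne_zero hb (FaithfulSMul.algebraMap_injective A S (h.trans (map_zero _).symm)))
    (((congrArg Subtype.val hd).trans h1.symm).trans (mul_comm _ _))
  exact this ▸ d.2

/-- The degree of the field generated by a root with irreducible separable reduction. -/
theorem finrank_adjoin_root (f : A[X]) (hf : f.Monic) (hirr : Irreducible (f.map (residue A)))
    (hsep : (f.map (residue A)).Separable) (θ : S) (hθ : aeval θ f = 0) :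
    IsIntegral K (algebraMap S K' θ) ∧
      Module.finrank K (IntermediateField.adjoin K {algebraMap S K' θ}) = f.natDegree := by
  obtain ⟨-, hdvd⟩ := adjoin_root_props f hf hirr hsep θ hθ
  have h0 : aeval (algebraMap S K' θ) (f.map (algebraMap A K)) = 0 := by
    rw [aeval_map_algebraMap, aeval_algebraMap_apply, hθ, map_zero]
  have hint : IsIntegral K (algebraMap S K' θ) := ⟨_, hf.map _, by rwa [← aeval_def]⟩
  refine ⟨hint, ?_⟩
  rw [IntermediateField.adjoin.finrank hint]
  refine le_antisymm ((natDegree_le_of_dvd (minpoly.dvd K _ h0) (hf.map _).ne_zero).trans natDegree_map_le) ?_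
  set p := minpoly K (algebraMap S K' θ)
  obtain ⟨⟨b, hb⟩, hbp⟩ := IsLocalization.integerNormalization_map_to_map A⁰ p
  set q := IsLocalization.integerNormalization A⁰ p
  have hq : aeval θ q = 0 := by
    apply IsFractionRing.injective S K'
    rw [map_zero, ← aeval_algebraMap_apply, ← aeval_map_algebraMap K, hbp, ← algebraMap_smul K b p, map_smul, minpoly.aeval, smul_zero]
  have hinj : Function.Injective (algebraMap A K) := IsFractionRing.injective A K
  have hq0 : q ≠ 0 := fun h => by
    rw [h, Polynomial.map_zero, eq_comm, ← algebraMap_smul K b p, smul_eq_zero] at hbp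
    exact hbp.elim (fun h0 => nonZeroDivisors.ne_zero hb (hinj (h0.trans (map_zero _).symm)))
      (minpoly.ne_zero hint)
  refine (natDegree_le_of_dvd (hdvd q hq) hq0).trans ?_
  rw [← natDegree_map_eq_of_injective hinj q, hbp]
  exact natDegree_smul_le b p

/-- The trace on a strict henselization (a domain) of a finitely generated subfield is generated by a root with
irreducible separable reduction. -/
theorem exists_root_generating (t : Finset K') :
    ∃ (f : A[X]) (θ : S), f.Monic ∧ Irreducible (f.map (residue A)) ∧ (f.map (residue A)).Separable ∧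
      aeval θ f = 0 ∧ IntermediateField.adjoin K {algebraMap S K' θ} = IntermediateField.adjoin K (t : Set K') := by
  classical
  let k := ResidueField A
  let ks := ResidueField S
  haveI := Hensel.faithfullyFlat_of_isStrictHenselization A S
  have hH : Hensel.IsStrictHenselization A S := inferInstance
  haveI := hH.isSepClosure
  haveI hSh : HenselianLocalRing S := hH.henselian
  haveI : IsSepClosed ks := IsSepClosure.sep_closed k
  haveI : Algebra.IsSeparable k ks := IsSepClosure.separable
  choose num den hden heq using fun x : t => IsFractionRing.div_surjective (A := S) (x : K')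
  obtain ⟨E₀, hsE, hE₀loc, hE₀l, hE₀⟩ := exists_essEtale_subalgebra (A := A)
    (Finset.univ.image num ∪ Finset.univ.image den)
  haveI := hE₀l
  haveI := EssEtLib.isLocalHom_algebraMap hE₀
  haveI := EtAlg7.formallyUnramified hE₀
  haveI := EtAlg7.essFiniteType hE₀
  -- the residue field of `E₀` inside that of `S`
  let ρ : ResidueField E₀ →ₐ[k] ks :=
    { ResidueField.map (algebraMap E₀ S) with
      commutes' := fun c => by
        obtain ⟨a, rfl⟩ := residue_surjective c
        rfl }
  let l : IntermediateField k ks := ρ.fieldRange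
  haveI : Module.Finite k (ResidueField E₀) := inferInstance
  haveI : FiniteDimensional k l := Module.Finite.equiv
    (AlgEquiv.ofInjectiveField ρ).toLinearEquiv
  haveI : Algebra.IsSeparable k l := Algebra.isSeparable_tower_bot_of_isSeparable k l ks
  obtain ⟨z, hz⟩ := Field.exists_primitive_element k l
  have hzsep : IsSeparable k (z : ks) := Algebra.IsSeparable.isSeparable k _
  obtain ⟨f, hfm, -, hf⟩ := lifts_and_natDegree_eq_and_monic
    ((lifts_iff_coeff_lifts (minpoly k (z : ks))).mpr fun n => residue_surjective ((minpoly k (z : ks)).coeff n))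
    (minpoly.monic hzsep.isIntegral)
  have hirr : Irreducible (f.map (residue A)) := by rw [hfm]; exact minpoly.irreducible hzsep.isIntegral
  have hsep : (f.map (residue A)).Separable := by rw [hfm]; exact hzsep
  haveI : IsLocalRing (⊤ : Subalgebra A S) := (Subalgebra.topEquiv (R := A) (A := S)).symm.toRingEquiv.isLocalRing
  haveI : HenselianLocalRing (⊤ : Subalgebra A S) := Hensel.henselianLocalRing_of_ringEquiv (Subalgebra.topEquiv).symm.toRingEquiv
  haveI : IsLocalHom (algebraMap (⊤ : Subalgebra A S) S) := ⟨fun d hd => hd.map (Subalgebra.topEquiv (R := A) (A := S)).symm⟩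
  obtain ⟨s₀, hs₀⟩ := residue_surjective (z : ks)
  obtain ⟨θ, -, hθ, hθz⟩ := exists_root (D := (⊤ : Subalgebra A S)) ⟨s₀, trivial⟩ f hf hsep
    (by rw [hfm]; show aeval (residue S s₀) _ = 0; rw [hs₀]; exact minpoly.aeval k _)
  replace hθz : residue S θ = z := hθz.trans hs₀
  obtain ⟨⟨hEloc, hEl, hE, hEfin⟩, -⟩ := adjoin_root_props f hf hirr hsep θ hθ
  let E := Algebra.adjoin A ({θ} : Set S)
  haveI : Module.Finite A E := hEfin
  haveI : HenselianLocalRing E := Hensel.henselianLocalRing_of_isIntegral_local A E
  -- `E₀ ≤ E`
  have hres : ∀ x : E₀, ∃ e : E, residue S (e : S) = residue S (x : S) := fun x => by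
    have hxl : residue S (x : S) ∈ l := ⟨residue E₀ x, rfl⟩
    have : (⟨_, hxl⟩ : l) ∈ Algebra.adjoin k ({z} : Set l) := by
      rw [← IntermediateField.adjoin_simple_toSubalgebra_of_isAlgebraic (Algebra.IsAlgebraic.isAlgebraic z), hz]
      trivial
    rw [Algebra.adjoin_singleton_eq_range_aeval] at this
    obtain ⟨p, hp⟩ := this
    obtain ⟨p, rfl⟩ := map_surjective (residue A) residue_surjective p
    refine ⟨⟨aeval θ p, aeval_mem_adjoin_singleton A θ⟩, ?_⟩
    have h1 : aeval (z : ks) (p.map (residue A)) = residue S (x : S) :=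
      (aeval_algHom_apply l.val z _).trans (congrArg l.val hp)
    rw [← h1, ← hθz]
    show residue S (aeval θ p) = _
    rw [aeval_def, hom_eval₂, aeval_def, eval₂_map]
    rfl
  have hle : E₀ ≤ E := by
    haveI := hEl
    let ρE : ResidueField E →+* ks := ResidueField.map (algebraMap E S)
    let ρ₀ : ResidueField E₀ →+* ks := ResidueField.map (algebraMap E₀ S)
    have hmem : ∀ w, ρ₀ w ∈ ρE.range := fun w => by
      obtain ⟨x, rfl⟩ := residue_surjective w
      obtain ⟨e, he⟩ := hres x
      exact ⟨residue E e, he⟩
    let α : ResidueField E₀ →+* ResidueField E :=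
      (RingEquiv.ofBijective ρE.rangeRestrict
        ⟨fun a b h => ρE.injective (congrArg Subtype.val h), ρE.rangeRestrict_surjective⟩).symm.toRingHom.comp
        (ρ₀.codRestrict ρE.range hmem)
    have hα : ∀ w, ρE (α w) = ρ₀ w := fun w =>
      congrArg Subtype.val ((RingEquiv.ofBijective ρE.rangeRestrict
        ⟨fun a b h => ρE.injective (congrArg Subtype.val h), ρE.rangeRestrict_surjective⟩).apply_symm_apply
        (ρ₀.codRestrict ρE.range hmem w))
    haveI := EssEtLib.isLocalHom_algebraMap hE
    obtain ⟨ψ, hψ, -⟩ := EtAlg7.existsUnique_algHom hE₀ (B := E) α fun a => ρE.injective (by rw [hα]; rfl)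
    have h := EtAlg7.algHom_ext_residue hE₀ (E.val.comp ψ) E₀.val fun x => by
      show ρE (residue E (ψ x)) = ρ₀ (residue E₀ x)
      rw [hψ, hα]
    intro x hx
    have : ((ψ ⟨x, hx⟩ : E) : S) = x := AlgHom.congr_fun h ⟨x, hx⟩
    exact this ▸ (ψ ⟨x, hx⟩).2
  let F := IntermediateField.adjoin K {algebraMap S K' θ}
  have hEF : ∀ e ∈ E, algebraMap S K' e ∈ F := fun e he' => by
    have he : e ∈ Algebra.adjoin A ({θ} : Set S) := he'
    rw [Algebra.adjoin_singleton_eq_range_aeval] at he
    obtain ⟨p, rfl⟩ := he
    show algebraMap S K' (aeval θ p) ∈ F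
    rw [← aeval_algebraMap_apply, ← aeval_map_algebraMap K]
    exact IntermediateField.algebra_adjoin_le_adjoin K _ (aeval_mem_adjoin_singleton K _)
  let L := IntermediateField.adjoin K (t : Set K')
  have hLF : L ≤ F := IntermediateField.adjoin_le_iff.mpr fun x hx => by
    have := heq ⟨x, hx⟩
    show x ∈ F
    refine (show algebraMap S K' (num ⟨x, hx⟩) / algebraMap S K' (den ⟨x, hx⟩) = x from this) ▸ ?_
    exact F.div_mem (hEF _ (hle (hsE (Finset.mem_union_left _ (Finset.mem_image_of_mem _ (Finset.mem_univ _))))))
      (hEF _ (hle (hsE (Finset.mem_union_right _ (Finset.mem_image_of_mem _ (Finset.mem_univ _))))))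
  haveI : IsScalarTower A L K' := IsScalarTower.of_algebraMap_eq fun a => by
    rw [IsScalarTower.algebraMap_apply A K L, ← IsScalarTower.algebraMap_apply K L K', ← IsScalarTower.algebraMap_apply A K K']
  -- `D = L ∩ S` is henselian local
  let D : Subalgebra A S := (L.toSubalgebra.restrictScalars A).comap (IsScalarTower.toAlgHom A S K')
  have hDE : D ≤ E := fun x hx => mem_adjoin_of_mem_field K K' f hf hirr hsep θ hθ x (hLF hx)
  haveI : Module.IsTorsionFree A S := inferInstance
  haveI : Algebra.IsIntegral A D := ⟨fun d =>
    (isIntegral_algHom_iff D.val Subtype.val_injective).1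
      ((Algebra.IsIntegral.isIntegral (R := A) (⟨d, hDE d.2⟩ : E)).map E.val)⟩
  haveI : IsLocalRing D := Hensel.isLocalRing_of_isIntegral_domain A D
  haveI : HenselianLocalRing D := Hensel.henselianLocalRing_of_isIntegral_local A D
  haveI hDl : IsLocalHom (algebraMap D S) := ⟨fun d hd => by
    obtain ⟨v, hv⟩ := hd.exists_right_inv
    have hvD : v ∈ D := by
      show algebraMap S K' v ∈ L
      have h1 : algebraMap S K' (d : S) * algebraMap S K' v = 1 := by
        rw [← map_mul]
        exact (congrArg _ hv).trans (map_one _)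
      rw [← inv_eq_of_mul_eq_one_right h1]
      exact L.inv_mem d.2
    exact IsUnit.of_mul_eq_one (⟨v, hvD⟩ : D) (Subtype.ext hv)⟩
  -- its residue field
  let δ : D →ₐ[A] ks := (IsScalarTower.toAlgHom A S ks).comp D.val
  let k₀ : IntermediateField k ks :=
    Subalgebra.toIntermediateField
      ({ δ.range.toSubsemiring with
          algebraMap_mem' := fun c => by
            obtain ⟨a, rfl⟩ := residue_surjective c
            exact δ.range.algebraMap_mem a } : Subalgebra k ks)
      (fun w hw => by
        obtain ⟨d, rfl⟩ := hw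
        by_cases hd : δ d = 0
        · rw [show δ.toRingHom d = δ d from rfl, hd, inv_zero]; exact zero_mem _
        · have hu : IsUnit d := isUnit_of_map_unit (algebraMap D S) d (by
            by_contra h
            exact hd ((residue_eq_zero_iff _).2 h))
          refine ⟨(hu.unit⁻¹ : Dˣ), (inv_eq_of_mul_eq_one_right ?_).symm⟩
          show δ d * δ _ = 1
          rw [← map_mul, hu.mul_val_inv, map_one])
  have hk₀l : k₀ ≤ IntermediateField.adjoin k {(z : ks)} := by
    rintro _ ⟨d, rfl⟩
    have h' : (d : S) ∈ Algebra.adjoin A ({θ} : Set S) := hDE d.2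
    rw [Algebra.adjoin_singleton_eq_range_aeval] at h'
    obtain ⟨p, hp⟩ := h'
    show residue S (d : S) ∈ _
    rw [← hp]
    show residue S (aeval θ p) ∈ _
    rw [aeval_def, hom_eval₂, hθz]
    have : eval₂ ((residue S).comp (algebraMap A S)) (z : ks) p = aeval (z : ks) (p.map (residue A)) := by
      rw [aeval_def, eval₂_map]; rfl
    rw [this]
    exact IntermediateField.algebra_adjoin_le_adjoin k _ (aeval_mem_adjoin_singleton k _)
  haveI : FiniteDimensional k (IntermediateField.adjoin k {(z : ks)}) :=
    IntermediateField.adjoin.finiteDimensional hzsep.isIntegral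
  haveI : FiniteDimensional k k₀ := FiniteDimensional.of_injective (IntermediateField.inclusion hk₀l).toLinearMap
    (IntermediateField.inclusion_injective hk₀l)
  haveI : Algebra.IsSeparable k k₀ := Algebra.isSeparable_tower_bot_of_isSeparable k k₀ ks
  obtain ⟨z₀, hz₀⟩ := Field.exists_primitive_element k k₀
  have hz₀sep : IsSeparable k (z₀ : ks) := Algebra.IsSeparable.isSeparable k _
  obtain ⟨f₀, hfm₀, -, hf₀⟩ := lifts_and_natDegree_eq_and_monic
    ((lifts_iff_coeff_lifts (minpoly k (z₀ : ks))).mpr fun n => residue_surjective ((minpoly k (z₀ : ks)).coeff n))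
    (minpoly.monic hz₀sep.isIntegral)
  have hirr₀ : Irreducible (f₀.map (residue A)) := by rw [hfm₀]; exact minpoly.irreducible hz₀sep.isIntegral
  have hsep₀ : (f₀.map (residue A)).Separable := by rw [hfm₀]; exact hz₀sep
  obtain ⟨d₀, hd₀⟩ := z₀.2
  obtain ⟨θ₀, hθ₀D, hθ₀, hθ₀z⟩ := exists_root d₀ f₀ hf₀ hsep₀ (by
    rw [hfm₀, show residue S (d₀ : S) = (z₀ : ks) from hd₀]; exact minpoly.aeval k _)
  -- degrees
  obtain ⟨hθint, hn⟩ := finrank_adjoin_root K K' f hf hirr hsep θ hθ
  obtain ⟨hθ₀int, hr⟩ := finrank_adjoin_root K K' f₀ hf₀ hirr₀ hsep₀ θ₀ hθ₀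
  haveI : FiniteDimensional K F := IntermediateField.adjoin.finiteDimensional hθint
  haveI : FiniteDimensional K L := FiniteDimensional.of_injective (IntermediateField.inclusion hLF).toLinearMap
    (IntermediateField.inclusion_injective hLF)
  have hθL : IsIntegral L (algebraMap S K' θ) := hθint.tower_top
  let g := minpoly L (algebraMap S K' θ)
  have htow : Module.finrank K L * g.natDegree = f.natDegree := by
    rw [← hn, ← IntermediateField.adjoin.finrank hθL, Module.finrank_mul_finrank]
    have : (IntermediateField.adjoin L {algebraMap S K' θ}).restrictScalars K = F := by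
      refine le_antisymm ?_ ?_
      · rw [IntermediateField.restrictScalars_adjoin]
        exact IntermediateField.adjoin_le_iff.mpr (Set.union_subset hLF
          (Set.singleton_subset_iff.2 (IntermediateField.mem_adjoin_simple_self K _)))
      · exact IntermediateField.adjoin_le_iff.mpr (Set.singleton_subset_iff.2
          (IntermediateField.mem_adjoin_simple_self L _))
    exact (IntermediateField.equivOfEq this).toLinearEquiv.finrank_eq
  -- the roots of `f` in `S`
  have hfd : f.natDegree = (minpoly k (z : ks)).natDegree := by rw [← hfm, hf.natDegree_map]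
  have hcoeff : ∀ i, ∃ d : D, algebraMap S K' (d : S) = ((g.coeff i : L) : K') := by
    intro i
    obtain ⟨s, hs⟩ : ∃ s : S, algebraMap S K' s = ((g.coeff i : L) : K') := by
      obtain ⟨m, hm, hm'⟩ : ∃ m : Multiset S, m.card = f.natDegree ∧
          f.map (algebraMap A S) = (m.map fun a => X - C a).prod := by
        have hsplit : ((f.map (residue A)).map (algebraMap k ks)).Splits :=
          IsSepClosed.splits_of_separable _ (hsep.map)
        have hnd : ((f.map (residue A)).map (algebraMap k ks)).roots.Nodup :=
          nodup_roots hsep.map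
        choose! rt hrt using fun w (hw : w ∈ ((f.map (residue A)).map (algebraMap k ks)).roots) =>
          (show ∃ s : S, aeval s f = 0 ∧ residue S s = w from by
            obtain ⟨s, hs⟩ := residue_surjective w
            rw [mem_roots ((hf.map _).map _).ne_zero, IsRoot, eval_map, ← aeval_def] at hw
            obtain ⟨r, -, hr, hr'⟩ := exists_root (D := (⊤ : Subalgebra A S)) ⟨s, trivial⟩ f hf hsep
              (by show aeval (residue S s) _ = 0; rwa [hs])
            exact ⟨r, hr, hr'.trans hs⟩)
        let R := ((f.map (residue A)).map (algebraMap k ks)).roots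
        refine ⟨R.map rt, ?_, ?_⟩
        · rw [Multiset.card_map, ← hsplit.natDegree_eq_card_roots, natDegree_map, hf.natDegree_map]
        · have hnd' : (R.map rt).Nodup := Multiset.Nodup.map_on (fun a ha b hb hab => by
            rw [← (hrt a ha).2, ← (hrt b hb).2, hab]) hnd
          have hsub : R.map rt ≤ (f.map (algebraMap A S)).roots := by
            refine (Multiset.le_iff_subset hnd').2 fun a ha => ?_
            obtain ⟨w, hw, rfl⟩ := Multiset.mem_map.1 ha
            rw [mem_roots (hf.map _).ne_zero, IsRoot, eval_map, ← aeval_def]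
            exact (hrt w hw).1
          have hcard : (R.map rt).card = (f.map (algebraMap A S)).natDegree := by
            rw [Multiset.card_map, ← hsplit.natDegree_eq_card_roots, natDegree_map, hf.natDegree_map, hf.natDegree_map]
          have heq' : R.map rt = (f.map (algebraMap A S)).roots :=
            Multiset.eq_of_le_of_card_le hsub (hcard ▸ card_roots' _)
          rw [heq'] at hcard ⊢
          exact ((Polynomial.splits_iff_card_roots.2 hcard).eq_prod_roots_of_monic (hf.map _))
      have hgd : g.map (algebraMap L K') ∣ f.map (algebraMap A K') := by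
        have : g ∣ f.map (algebraMap A L) := minpoly.dvd _ _ (by
          rw [aeval_map_algebraMap, aeval_algebraMap_apply, hθ, map_zero])
        have := Polynomial.map_dvd (algebraMap L K') this
        rwa [Polynomial.map_map, ← IsScalarTower.algebraMap_eq] at this
      have hgm : (g.map (algebraMap L K')).Monic := (minpoly.monic hθL).map _
      have hfs : f.map (algebraMap A K') = ((m.map (algebraMap S K')).map fun a => X - C a).prod := by
        rw [IsScalarTower.algebraMap_eq A S K', ← Polynomial.map_map, hm', Polynomial.map_multiset_prod,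
          Multiset.map_map, Multiset.map_map]
        simp [Function.comp_def]
      have hgs : (g.map (algebraMap L K')).Splits := by
        refine Polynomial.Splits.of_dvd ?_ (hf.map _).ne_zero hgd
        rw [hfs]
        exact Polynomial.Splits.multisetProd fun q hq => by
          obtain ⟨a, -, rfl⟩ := Multiset.mem_map.1 hq
          exact Polynomial.Splits.X_sub_C a
      have hlift : g.map (algebraMap L K') ∈ lifts (algebraMap S K') := by
        rw [hgs.eq_prod_roots_of_monic hgm]
        refine Subsemiring.multiset_prod_mem _ _ fun q hq => ?_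
        obtain ⟨a, ha, rfl⟩ := Multiset.mem_map.1 hq
        have ha' := Multiset.mem_of_le (roots.le_of_dvd (hf.map _).ne_zero hgd) ha
        rw [hfs, roots_multiset_prod_X_sub_C] at ha'
        obtain ⟨s, -, rfl⟩ := Multiset.mem_map.1 ha'
        exact ⟨X - C s, by simp⟩
      obtain ⟨s, hs⟩ := (lifts_iff_coeff_lifts _).1 hlift i
      exact ⟨s, by rw [hs, coeff_map]; rfl⟩
    exact ⟨⟨s, by show algebraMap S K' s ∈ L; rw [hs]; exact SetLike.coe_mem _⟩, hs⟩
  choose cd hcd using hcoeff
  let gb : k₀[X] := ∑ i ∈ Finset.range (g.natDegree + 1), C (⟨δ (cd i), cd i, rfl⟩ : k₀) * X ^ i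
  have hgb0 : aeval (z : ks) gb = 0 := by
    have h1 : (∑ i ∈ Finset.range (g.natDegree + 1), (cd i : S) * θ ^ i) = 0 := by
      apply IsFractionRing.injective S K'
      rw [map_zero, map_sum]
      refine Eq.trans (Finset.sum_congr rfl fun i _ => ?_) (minpoly.aeval L (algebraMap S K' θ) |> fun h =>
        (aeval_eq_sum_range (p := g) (algebraMap S K' θ)).symm.trans h)
      rw [map_mul, map_pow, hcd]
      rfl
    have h2 := congrArg (residue S) h1
    rw [map_sum, map_zero] at h2
    rw [map_sum]
    refine Eq.trans (Finset.sum_congr rfl fun i _ => ?_) h2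
    rw [map_mul, aeval_C, map_pow, aeval_X, map_mul, map_pow, hθz]
    rfl
  have hgbne : gb ≠ 0 := fun h => by
    have h1 := congrArg (fun p => coeff p g.natDegree) h
    simp only [gb, finset_sum_coeff, coeff_C_mul, coeff_X_pow, coeff_zero] at h1
    rw [Finset.sum_eq_single g.natDegree (fun i _ hi => by rw [if_neg (Ne.symm hi), mul_zero])
      (fun h => absurd (Finset.self_mem_range_succ _) h), if_pos rfl, mul_one] at h1
    have h2 : residue S (cd g.natDegree : S) = 0 := congrArg Subtype.val h1
    have h3 : (cd g.natDegree : S) = 1 := IsFractionRing.injective S K' (by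
      rw [hcd, map_one, (minpoly.monic hθL).coeff_natDegree]; rfl)
    rw [h3, map_one] at h2
    exact one_ne_zero h2
  have hzk : IsIntegral k₀ (z : ks) := hzsep.isIntegral.tower_top
  have hdeg : (minpoly k₀ (z : ks)).natDegree ≤ g.natDegree :=
    (natDegree_le_of_dvd (minpoly.dvd _ _ hgb0) hgbne).trans
      (natDegree_sum_le_of_forall_le _ _ fun i hi => (natDegree_C_mul_X_pow_le _ _).trans (Finset.mem_range_succ_iff.1 hi))
  have htow' : Module.finrank k k₀ * (minpoly k₀ (z : ks)).natDegree = (minpoly k (z : ks)).natDegree := by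
    rw [← IntermediateField.adjoin.finrank hzsep.isIntegral, ← IntermediateField.adjoin.finrank hzk,
      Module.finrank_mul_finrank]
    have : (IntermediateField.adjoin k₀ {(z : ks)}).restrictScalars k = IntermediateField.adjoin k {(z : ks)} := by
      refine le_antisymm ?_ ?_
      · rw [IntermediateField.restrictScalars_adjoin]
        exact IntermediateField.adjoin_le_iff.mpr (Set.union_subset hk₀l
          (Set.singleton_subset_iff.2 (IntermediateField.mem_adjoin_simple_self k _)))
      · exact IntermediateField.adjoin_le_iff.mpr (Set.singleton_subset_iff.2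
          (IntermediateField.mem_adjoin_simple_self k₀ _))
    exact (IntermediateField.equivOfEq this).toLinearEquiv.finrank_eq
  have hrk : f₀.natDegree = Module.finrank k k₀ := by
    rw [← hf₀.natDegree_map (residue A), hfm₀, ← IntermediateField.finrank_top' (F := k) (E := k₀), ← hz₀,
      IntermediateField.adjoin.finrank (IsIntegral.of_finite k z₀)]
    exact congrArg natDegree (minpoly.algHom_eq k₀.val (RingHom.injective _) z₀)
  have hle₀ : IntermediateField.adjoin K {algebraMap S K' θ₀} ≤ L :=
    IntermediateField.adjoin_le_iff.mpr (Set.singleton_subset_iff.2 hθ₀D)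
  refine ⟨f₀, θ₀, hf₀, hirr₀, hsep₀, hθ₀, IntermediateField.eq_of_le_of_finrank_le hle₀ ?_⟩
  rw [hr, hrk]
  refine Nat.le_of_mul_le_mul_right ?_ (minpoly.natDegree_pos hθL)
  calc Module.finrank K L * g.natDegree = (minpoly k (z : ks)).natDegree := htow.trans hfd
    _ = Module.finrank k k₀ * (minpoly k₀ (z : ks)).natDegree := htow'.symm
    _ ≤ Module.finrank k k₀ * g.natDegree := Nat.mul_le_mul_left _ hdeg

end Groth.Agent.SHEss
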