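import Groth.Agent.SHEss.EtUnionBranch
import Mathlib.FieldTheory.PrimitiveElement

/-!
# Subalgebras of a strict henselization with bounded branch residues
-/

set_option autoImplicit false
set_option linter.style.haveILetI false
set_option maxHeartbeats 1000000
set_option synthInstance.maxHeartbeats 200000

universe u

open IsLocalRing Polynomial

namespace Groth.Agent.SHEss

/-- A finite residue extension gives a finite separable closure. -/
theorem finiteDimensional_separableClosure {D N : Type*} [CommRing D] [CommRing N] [Algebra D N] (M : Ideal N)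
    [M.IsMaximal] [Module.Finite D (N ⧸ M)] :
    FiniteDimensional (Subfield.closure (Set.range ((algebraMap N M.ResidueField).comp (algebraMap D N))))
      (separableClosure (Subfield.closure (Set.range ((algebraMap N M.ResidueField).comp (algebraMap D N))))
        M.ResidueField) := by
  let k₀ := Subfield.closure (Set.range ((algebraMap N M.ResidueField).comp (algebraMap D N)))
  obtain ⟨G, hG⟩ := Module.Finite.fg_top (R := D) (M := N ⧸ M)
  classical
  let π := algebraMap (N ⧸ M) M.ResidueField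
  haveI : FiniteDimensional k₀ M.ResidueField := by
    refine ⟨⟨G.image π, eq_top_iff.2 fun w _ => ?_⟩⟩
    obtain ⟨x, rfl⟩ := (Ideal.bijective_algebraMap_quotient_residueField M).2 w
    have hx : x ∈ Submodule.span D (G : Set (N ⧸ M)) := hG ▸ trivial
    clear * - hx
    induction hx using Submodule.span_induction with
    | mem y hy => exact Submodule.subset_span (Finset.mem_image_of_mem _ hy)
    | zero => rw [map_zero]; exact zero_mem _
    | add y z _ _ hy hz => rw [map_add]; exact add_mem hy hz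
    | smul r y _ hy =>
      have : algebraMap (N ⧸ M) M.ResidueField (r • y) =
          (⟨_, Subfield.subset_closure ⟨r, rfl⟩⟩ : k₀) • algebraMap (N ⧸ M) M.ResidueField y := by
        rw [Algebra.smul_def, map_mul]
        show _ = algebraMap N M.ResidueField (algebraMap D N r) * _
        rw [IsScalarTower.algebraMap_apply N (N ⧸ M) M.ResidueField, IsScalarTower.algebraMap_apply D N (N ⧸ M)]
      rw [this]
      exact Submodule.smul_mem _ _ hy
  exact inferInstance

variable {A S : Type u} [CommRing A] [HenselianLocalRing A] [IsNoetherianRing A] [CommRing S] [IsLocalRing S]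
  [Algebra A S] [IsLocalHom (algebraMap A S)] [Hensel.IsStrictHenselization A S]

/-- Bounded degree residues of branch elements lie in a simple extension of the residue field of the subalgebra. -/
theorem exists_residue_generator (D : Subalgebra A S) (Q : Ideal S) [Q.IsPrime] (n : ℕ)
    (hn : ∀ u : S, algebraMap (S ⧸ Q) (FractionRing (S ⧸ Q)) (Ideal.Quotient.mk Q u) ∈
      Subfield.closure (Set.range (((algebraMap (S ⧸ Q) (FractionRing (S ⧸ Q))).comp (Ideal.Quotient.mk Q)).comp D.val.toRingHom)) →
      ∃ p : D[X], p.Monic ∧ p.natDegree ≤ n ∧ residue S (aeval u p) = 0) :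
    ∃ z : ResidueField S, ∀ u : S, algebraMap (S ⧸ Q) (FractionRing (S ⧸ Q)) (Ideal.Quotient.mk Q u) ∈
      Subfield.closure (Set.range (((algebraMap (S ⧸ Q) (FractionRing (S ⧸ Q))).comp (Ideal.Quotient.mk Q)).comp D.val.toRingHom)) →
      residue S u ∈ resField D ⊔ IntermediateField.adjoin (ResidueField A) {z} := by
  classical
  haveI := isSeparable_residue (A := A) (S := S)
  let F := resField D
  let πS : S →+* FractionRing (S ⧸ Q) := (algebraMap (S ⧸ Q) (FractionRing (S ⧸ Q))).comp (Ideal.Quotient.mk Q)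
  let C := Subfield.closure (Set.range (πS.comp D.val.toRingHom))
  have hDC : ∀ d : S, d ∈ D → πS d ∈ C := fun d hd => Subfield.subset_closure ⟨⟨d, hd⟩, rfl⟩
  let SC : Subalgebra A S :=
    { (C.toSubring.comap πS).toSubsemiring with algebraMap_mem' := fun a => hDC _ (D.algebraMap_mem a) }
  haveI : Algebra.IsSeparable F (ResidueField S) := Algebra.isSeparable_tower_top_of_isSeparable (ResidueField A) F (ResidueField S)
  have hdeg : ∀ u ∈ SC, (minpoly F (residue S u)).natDegree ≤ n := fun u hu => by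
    obtain ⟨p, hp, hpn, hp0⟩ := hn u hu
    let g : D →+* F := ((residue S).comp D.val.toRingHom).codRestrict F fun d =>
      IntermediateField.subset_adjoin _ _ ⟨d, d.2, rfl⟩
    refine le_trans ?_ ((natDegree_map_le (f := g) (p := p)).trans hpn)
    refine natDegree_le_of_dvd (minpoly.dvd _ _ ?_) (hp.map g).ne_zero
    rw [aeval_def, eval₂_map]
    rw [aeval_def, hom_eval₂] at hp0
    exact hp0
  let T : Set ℕ := (fun u => (minpoly F (residue S u)).natDegree) '' (SC : Set S)
  have hTb : BddAbove T := ⟨n, by rintro _ ⟨u, hu, rfl⟩; exact hdeg u hu⟩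
  obtain ⟨u₀, hu₀, hmax⟩ := Nat.sSup_mem (s := T) ⟨_, 1, SC.one_mem, rfl⟩ hTb
  refine ⟨residue S u₀, fun u hu => ?_⟩
  let z := residue S u₀
  let r := residue S u
  let G := IntermediateField.adjoin F ({z, r} : Set (ResidueField S))
  haveI : FiniteDimensional F G :=
    IntermediateField.finiteDimensional_adjoin fun x _ => Algebra.IsSeparable.isIntegral _ x
  haveI : Algebra.IsSeparable F G := Algebra.IsSeparable.of_algHom F (ResidueField S) G.val
  obtain ⟨w, hw⟩ := Field.exists_primitive_element F G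
  have hG : G = IntermediateField.adjoin F ({(w : ResidueField S)} : Set (ResidueField S)) := by
    have := congrArg IntermediateField.lift hw
    rw [IntermediateField.lift_adjoin, IntermediateField.lift_top, Set.image_singleton] at this
    exact this.symm
  obtain ⟨v, hv, hvw⟩ : ∃ v ∈ SC, residue S v = w := by
    refine exists_residue_of_mem_adjoin SC ((residue S '' (D : Set S)) ∪ {z, r}) ?_ _ ?_
    · rintro y (⟨d, hd, rfl⟩ | rfl | rfl)
      · exact ⟨d, hDC d hd, rfl⟩
      · exact ⟨u₀, hu₀, rfl⟩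
      · exact ⟨u, hu, rfl⟩
    · rw [← IntermediateField.adjoin_adjoin_left, IntermediateField.mem_restrictScalars]
      exact w.2
  have hle : IntermediateField.adjoin F ({z} : Set (ResidueField S)) ≤ G :=
    IntermediateField.adjoin.mono _ _ _ (Set.singleton_subset_iff.2 (Set.mem_insert _ _))
  have heq : IntermediateField.adjoin F ({z} : Set (ResidueField S)) = G := by
    refine IntermediateField.eq_of_le_of_finrank_le hle ?_
    rw [hG, IntermediateField.adjoin.finrank (Algebra.IsSeparable.isIntegral _ _),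
      IntermediateField.adjoin.finrank (Algebra.IsSeparable.isIntegral _ _), ← hvw]
    exact (le_csSup hTb ⟨v, hv, rfl⟩).trans hmax.ge
  have hr : r ∈ IntermediateField.adjoin F ({z} : Set (ResidueField S)) :=
    heq ▸ IntermediateField.subset_adjoin _ _ (Set.mem_insert_of_mem _ rfl)
  rw [← IntermediateField.mem_restrictScalars (K := ResidueField A),
    IntermediateField.restrictScalars_adjoin_eq_sup] at hr
  exact hr

/-- An element congruent to the subalgebra on each branch lies in it, if the branches are extended from it. -/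
theorem mem_of_branches [IsReduced A] (E : Subalgebra A S) [Module.FaithfullyFlat E S] (x : S)
    [Finite (minimalPrimes S)] (hE : ∀ Q : minimalPrimes S, Q.1 = (Q.1.comap (algebraMap E S)).map (algebraMap E S))
    (hxQ : ∀ Q : minimalPrimes S, ∃ e : E, x - e ∈ Q.1) : x ∈ E := by
  classical
  haveI := isReduced_sh A S
  haveI := Fintype.ofFinite (minimalPrimes S)
  have hsep : ∀ Q Q' : minimalPrimes S, Q' ≠ Q → ∃ w : E, (w : S) ∈ Q'.1 ∧ (w : S) ∉ Q.1 := fun Q Q' hne => by
    by_contra h
    push Not at h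
    have : Q'.1 ≤ Q.1 := by
      rw [hE Q', Ideal.map_le_iff_le_comap]
      exact fun w hw => h w hw
    exact hne (Subtype.ext (le_antisymm this (Q.2.2 Q'.2.1 this)))
  choose w hw hw' using hsep
  let eQ : minimalPrimes S → E := fun Q => ∏ Q' : {Q' : minimalPrimes S // Q' ≠ Q}, w Q Q'.1 Q'.2
  have heQ' : ∀ Q Q', Q' ≠ Q → (eQ Q : S) ∈ Q'.1 := fun Q Q' hne => by
    show E.val (∏ _, _) ∈ Q'.1
    rw [map_prod, (Q'.2.1.1).prod_mem_iff]
    exact ⟨⟨Q', hne⟩, Finset.mem_univ _, hw Q Q' hne⟩
  have heQ : ∀ Q, (eQ Q : S) ∉ Q.1 := fun Q h => by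
    change E.val (∏ _, _) ∈ Q.1 at h
    rw [map_prod, (Q.2.1.1).prod_mem_iff] at h
    obtain ⟨Q', -, hQ'⟩ := h
    exact hw' Q Q'.1 Q'.2 hQ'
  choose dQ hdQ using hxQ
  let c : E := ∑ Q, eQ Q
  let r : E := ∑ Q, eQ Q * dQ Q
  have hmem : ∀ y : S, (∀ Q : minimalPrimes S, y ∈ Q.1) → y = 0 := fun y hy => by
    have h1 : y ∈ sInf (minimalPrimes S) := Submodule.mem_sInf.2 fun Q hQ => hy ⟨Q, hQ⟩
    rw [minimalPrimes_eq_minimals] at h1
    have h2 : y ∈ nilradical S := by
      rw [nilradical, Submodule.zero_eq_bot, ← Ideal.sInf_minimalPrimes]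
      exact Submodule.mem_sInf.2 fun Q hQ => hy ⟨Q, hQ⟩
    rwa [nilradical_eq_zero, Ideal.zero_eq_bot, Ideal.mem_bot] at h2
  have hxc : x * (c : S) = r := by
    rw [← sub_eq_zero]
    refine hmem _ fun Q => ?_
    show x * E.val (∑ _, _) - E.val (∑ _, _) ∈ Q.1
    rw [map_sum, map_sum, Finset.mul_sum, ← Finset.sum_sub_distrib]
    refine Q.1.sum_mem fun Q' _ => ?_
    show x * (eQ Q' : S) - (eQ Q' : S) * (dQ Q' : S) ∈ Q.1
    rw [mul_comm x, ← mul_sub]
    by_cases h : Q' = Q
    · subst h; exact Q'.1.mul_mem_left _ (hdQ Q')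
    · exact Q.1.mul_mem_right _ (heQ' Q' Q (Ne.symm h))
  have hc : ∀ y : S, y * (c : S) = 0 → y = 0 := fun y hy => hmem y fun Q => by
    refine ((Q.2.1.1).mem_or_mem (show y * (c : S) ∈ Q.1 from hy ▸ Q.1.zero_mem)).resolve_right fun hcQ => heQ Q ?_
    have hsplit : E.val c = (eQ Q : S) + ∑ Q' ∈ Finset.univ.erase Q, (eQ Q' : S) := by
      rw [map_sum]
      exact (Finset.add_sum_erase _ _ (Finset.mem_univ Q)).symm
    change E.val c ∈ Q.1 at hcQ
    rw [hsplit] at hcQ
    exact (Q.1.add_mem_iff_left (Q.1.sum_mem fun Q' hQ' => heQ' Q' Q (Finset.ne_of_mem_erase hQ').symm)).1 hcQ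
  have h1 : r ∈ Ideal.span {c} := by
    rw [← Ideal.comap_map_eq_self_of_faithfullyFlat (B := S) (Ideal.span {c}), Ideal.mem_comap,
      Ideal.map_span, Set.image_singleton, Ideal.mem_span_singleton']
    exact ⟨x, hxc⟩
  obtain ⟨v, hv⟩ := Ideal.mem_span_singleton'.1 h1
  have : (v : S) = x := sub_eq_zero.1 (hc _ (by
    rw [sub_mul, hxc]
    exact sub_eq_zero.2 (congrArg Subtype.val hv)))
  exact this ▸ v.2

/-- A subalgebra lies in the ind-étale subalgebra given by residues of elements rational over it on the branches. -/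
theorem le_etUnion_of_residues [IsReduced A] (hA : EGA4.IsExcellent A) (D : Subalgebra A S)
    (k' : IntermediateField (ResidueField A) (ResidueField S))
    (hres : ∀ (Q : Ideal S), Q ∈ minimalPrimes S → [Q.IsPrime] → ∀ u : S,
      algebraMap (S ⧸ Q) (FractionRing (S ⧸ Q)) (Ideal.Quotient.mk Q u) ∈
        Subfield.closure (Set.range (((algebraMap (S ⧸ Q) (FractionRing (S ⧸ Q))).comp (Ideal.Quotient.mk Q)).comp D.val.toRingHom)) →
      residue S u ∈ k') :
    D ≤ etUnion A k' := by
  classical
  haveI := isReduced_sh A S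
  let U := etUnion A k'
  have hUres : ∀ y ∈ k', ∃ e ∈ U, residue S e = y := fun y hy => by
    obtain ⟨θ, hθ, hθy⟩ := exists_etRoot k' y hy
    exact ⟨θ, Algebra.subset_adjoin hθ, hθy⟩
  have hbranch : ∀ Q ∈ minimalPrimes S, ∃ θ : S, IsEtRoot A k' θ ∧
      (Q.comap (algebraMap (Algebra.adjoin A ({θ} : Set S)) S)).map (algebraMap (Algebra.adjoin A ({θ} : Set S)) S) = Q ∧
      ∀ x : D, ∃ e ∈ U, (x : S) - e ∈ Q := by
    intro Q hQ
    haveI : Q.IsPrime := hQ.1.1
    obtain ⟨f, θ, hf, hirr, hsep, hθ, hPQ, hθK⟩ := exists_geom_base A S hA Q hQ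
    let πS : S →+* FractionRing (S ⧸ Q) := (algebraMap (S ⧸ Q) (FractionRing (S ⧸ Q))).comp (Ideal.Quotient.mk Q)
    let C := Subfield.closure (Set.range (πS.comp D.val.toRingHom))
    have hAC : Subfield.closure (Set.range (algebraMap A (FractionRing (S ⧸ Q)))) ≤ C := Subfield.closure_le.2 (by
      rintro _ ⟨a, rfl⟩; exact Subfield.subset_closure ⟨algebraMap A D a, rfl⟩)
    have hθ' : IsEtRoot A k' θ := ⟨hres Q hQ θ (hAC hθK), f, hf, hirr, hsep, hθ⟩
    refine ⟨θ, hθ', hPQ, fun x => ?_⟩
    obtain ⟨hH, hl, hE, hfinE, -⟩ := piece_props k' θ hθ'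
    haveI := hH
    haveI := hl
    haveI := hfinE
    haveI : IsNoetherianRing (Algebra.adjoin A ({θ} : Set S)) := IsNoetherianRing.of_finite A _
    haveI := EssEtLib.isLocalHom_algebraMap hE
    haveI := isStrictHenselization_of_intermediate (S := S) hE
    let SC : Subalgebra A S :=
      { (C.toSubring.comap πS).toSubsemiring with algebraMap_mem' := fun a => hAC (Subfield.subset_closure ⟨a, rfl⟩) }
    refine exists_sub_mem_branch_sub (Algebra.adjoin A ({θ} : Set S)) D U (fun e => adjoin_le_etUnion k' θ hθ' e.2)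
      Q hPQ (fun u hu => ?_) (fun e => ?_) x
    · obtain ⟨e, he, her⟩ := hUres _ (hres Q hQ u hu)
      exact ⟨e, he, her.symm⟩
    · exact (Algebra.adjoin_le (Set.singleton_subset_iff.2 (show θ ∈ SC from hAC hθK))) e.2
  choose θ hθ hθQ hx using fun Q : minimalPrimes S => hbranch Q.1 Q.2
  intro x hxD
  haveI : IsNoetherianRing S := (S0540.result A S).1 inferInstance
  haveI : Finite (minimalPrimes S) := (minimalPrimes.finite_of_isNoetherianRing S).to_subtype
  haveI := Fintype.ofFinite (minimalPrimes S)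
  choose dQ hdQU hdQ using fun Q => hx Q ⟨x, hxD⟩
  obtain ⟨η, hη, hmem⟩ := exists_etRoot_finset k' (Finset.univ.image θ ∪ Finset.univ.image dQ) fun y hy => by
    rcases Finset.mem_union.1 hy with hy | hy <;> obtain ⟨Q, -, rfl⟩ := Finset.mem_image.1 hy
    · exact Algebra.subset_adjoin (hθ Q)
    · exact hdQU Q
  let E := Algebra.adjoin A ({η} : Set S)
  obtain ⟨_, -, -, -, hff⟩ := piece_props k' η hη
  haveI : Module.FaithfullyFlat E S := hff
  refine adjoin_le_etUnion k' η hη (mem_of_branches E x (fun Q => ?_) fun Q =>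
    ⟨⟨dQ Q, hmem _ (Finset.mem_union_right _ (Finset.mem_image_of_mem _ (Finset.mem_univ Q)))⟩, hdQ Q⟩)
  refine le_antisymm ((hθQ Q).symm.le.trans (Ideal.map_le_iff_le_comap.2 fun y hy => ?_)) Ideal.map_comap_le
  exact Ideal.mem_map_of_mem (algebraMap E S) (show (⟨y, Algebra.adjoin_le (Set.singleton_subset_iff.2
    (hmem _ (Finset.mem_union_left _ (Finset.mem_image_of_mem _ (Finset.mem_univ Q))))) y.2⟩ : E) ∈
      Q.1.comap (algebraMap E S) from hy)

end Groth.Agent.SHEss
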