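import Groth.Agent.UnibConn.Fibre
import Groth.Agent.EssEtFrac5.Basic

/-!
# Residue fields of the normalization of a Noetherian reduced local ring are finite
-/

set_option autoImplicit false
set_option linter.style.haveILetI false
set_option maxHeartbeats 1000000

universe u

open IsLocalRing

namespace Groth.Agent.SHEss

/-- The residue rings of the normalization of a Noetherian local domain at maximal ideals are finite. -/
theorem finite_quotient_normalisation_domain (A : Type u) [CommRing A] [IsDomain A] [IsNoetherianRing A]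
    [IsLocalRing A] (K : Type u) [Field K] [Algebra A K] [IsFractionRing A K]
    (M : Ideal (integralClosure A K)) [hM : M.IsMaximal] : Module.Finite A (integralClosure A K ⧸ M) := by
  classical
  let R' := AdicCompletion (maximalIdeal A) A
  haveI : IsNoetherianRing R' := UnibConn.isNoetherianRing_completion (A := A)
  haveI : ∀ Q : Ideal R', ∀ [Q.IsPrime], IsLocalRing (UnibConn.NQ Q) := fun Q _ => UnibConn.isLocalRing_NQ Q
  -- a formal component over `M`
  obtain ⟨Q, hQp, hQ, hMQ⟩ : ∃ (Q : Ideal R') (_ : Q.IsPrime) (hQ : Q ∈ minimalPrimes R'),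
      M = (maximalIdeal (UnibConn.NQ Q)).comap (UnibConn.thetaQ K hQ) := by
    by_contra hno
    push Not at hno
    let T := {Q : Ideal R' // Q ∈ minimalPrimes R'}
    haveI : Finite T := (minimalPrimes.finite_of_isNoetherianRing R').to_subtype
    haveI : Fintype T := Fintype.ofFinite T
    haveI : ∀ Q : T, (Q.1).IsPrime := fun Q => Q.2.1.1
    let c : T → Ideal (integralClosure A K) := fun Q => (maximalIdeal (UnibConn.NQ Q.1)).comap (UnibConn.thetaQ K Q.2)
    have hsub : (M : Set (integralClosure A K)) ⊆ ⋃ Q ∈ (↑(Finset.univ : Finset T) : Set T), (c Q : Set _) := by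
      intro y hy
      by_contra hnu
      simp only [Finset.coe_univ, Set.mem_univ, Set.iUnion_true, Set.mem_iUnion, not_exists] at hnu
      have hu : ∀ Q : T, IsUnit (UnibConn.thetaQ K Q.2 y) := fun Q => by
        by_contra hn
        exact hnu Q ((mem_maximalIdeal _).2 hn)
      have hy0 : (y : K) ≠ 0 := by
        intro h0
        obtain ⟨m, hm⟩ := Ideal.exists_maximal R'
        haveI := hm.isPrime
        obtain ⟨Q, hQ, -⟩ := Ideal.exists_minimalPrimes_le (I := (⊥ : Ideal R')) (J := m) bot_le
        have hh := hu ⟨Q, hQ⟩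
        rw [show y = 0 from Subtype.ext h0, map_zero] at hh
        exact not_isUnit_zero hh
      have hint : IsIntegral A (y : K)⁻¹ := UnibConn.isIntegral_of_forall_toFQ K fun Q _ hQ => by
        obtain ⟨v, hv⟩ := hu ⟨Q, hQ⟩
        have e : UnibConn.toFQ K hQ (y : K)⁻¹ = ((v⁻¹ : (UnibConn.NQ Q)ˣ) : UnibConn.NQ Q).1 := by
          rw [map_inv₀, ← UnibConn.coe_thetaQ K hQ y, ← hv]
          refine inv_eq_of_mul_eq_one_left ?_
          exact (congrArg Subtype.val v.inv_mul)
        rw [e]
        exact ((v⁻¹ : (UnibConn.NQ Q)ˣ) : UnibConn.NQ Q).2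
      exact hM.ne_top (Ideal.eq_top_of_isUnit_mem _ hy
        ⟨⟨y, ⟨_, hint⟩, Subtype.ext (mul_inv_cancel₀ hy0), Subtype.ext (inv_mul_cancel₀ hy0)⟩, rfl⟩)
    obtain ⟨m, hm⟩ := Ideal.exists_maximal R'
    haveI := hm.isPrime
    obtain ⟨Q, hQ, -⟩ := Ideal.exists_minimalPrimes_le (I := (⊥ : Ideal R')) (J := m) bot_le
    obtain ⟨Q', -, hle⟩ := (Ideal.subset_union_prime (f := c) ⟨Q, hQ⟩ ⟨Q, hQ⟩
      fun Q' _ _ _ => Ideal.comap_isPrime _ _).1 hsub
    exact hno Q'.1 Q'.2.1.1 Q'.2 (hM.eq_of_le (Ideal.IsPrime.ne_top (Ideal.comap_isPrime _ _)) hle)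
  haveI := hQp
  let N := UnibConn.NQ Q
  let kN := ResidueField N
  haveI : Module.Finite (R' ⧸ Q) N := UnibConn.finite_NQ (A := A) Q
  haveI : Module.Finite R' (R' ⧸ Q) := Module.Finite.of_surjective (Algebra.linearMap R' (R' ⧸ Q)) Ideal.Quotient.mk_surjective
  haveI : Module.Finite R' N := Module.Finite.trans (R' ⧸ Q) N
  obtain ⟨G, hG⟩ := Module.Finite.fg_top (R := R') (M := N)
  haveI hfin : Module.Finite A kN := by
    refine ⟨⟨G.image (residue N), eq_top_iff.2 fun x _ => ?_⟩⟩
    obtain ⟨x, rfl⟩ := residue_surjective x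
    have hx : x ∈ Submodule.span R' (G : Set N) := hG ▸ trivial
    have hkill : ∀ α ∈ (maximalIdeal A).map (algebraMap A R'), residue N (algebraMap R' N α) = 0 := by
      intro α hα
      haveI : Algebra.IsIntegral (R' ⧸ Q) N := Algebra.IsIntegral.of_finite _ _
      haveI : IsLocalRing R' := (BrnchLib.henselianLocalRing_completion A).toIsLocalRing
      have h1 : α ∈ maximalIdeal R' := by
        haveI : IsLocalHom (algebraMap A R') := AdicCompletion.algebraMap_isLocalHom_of_fg (IsNoetherian.noetherian _)
        exact (Ideal.map_le_iff_le_comap.2 fun a ha => Ideal.mem_comap.2 (map_nonunit (algebraMap A R') a ha)) hα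
      haveI : IsLocalHom (algebraMap R' N) := by
        haveI : Algebra.IsIntegral R' N := Algebra.IsIntegral.of_finite _ _
        exact ((local_hom_TFAE _).out 0 4).2 (IsLocalRing.eq_maximalIdeal
          (Ideal.isMaximal_comap_of_isIntegral_of_isMaximal (maximalIdeal N)))
      rw [residue_eq_zero_iff]
      exact map_nonunit (algebraMap R' N) α h1
    clear * - hx hkill
    induction hx using Submodule.span_induction with
    | mem y hy => exact Submodule.subset_span (Finset.mem_image_of_mem _ hy)
    | zero => rw [map_zero]; exact zero_mem _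
    | add y z _ _ hy hz => rw [map_add]; exact add_mem hy hz
    | smul r y _ hy =>
      obtain ⟨a, ha⟩ := UnibConn.exists_approx (A := A) r 1
      rw [pow_one] at ha
      have : residue N (r • y) = a • residue N y := by
        have h0 := hkill _ ha
        rw [map_sub, map_sub, sub_eq_zero] at h0
        rw [Algebra.smul_def, map_mul, h0, Algebra.smul_def, ← IsScalarTower.algebraMap_apply A R' N]
        rfl
      rw [this]
      exact Submodule.smul_mem _ a hy
  let f : (integralClosure A K ⧸ M) →ₐ[A] kN := Ideal.Quotient.liftₐ M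
    { (residue N).comp (UnibConn.thetaQ K hQ) with
      commutes' := fun a => by
        show residue N (UnibConn.thetaQ K hQ (algebraMap A _ a)) = residue N (algebraMap A N a)
        congr 1
        exact Subtype.ext ((UnibConn.coe_thetaQ K hQ _).trans ((UnibConn.toFQ K hQ).commutes a)) }
    fun y hy => (residue_eq_zero_iff _).2 (hMQ.le hy)
  letI := Ideal.Quotient.field M
  exact Module.Finite.of_injective f.toLinearMap fun x y h => (RingHom.injective f.toRingHom) h

/-- The residue rings of the normalization of a Noetherian reduced local ring at maximal ideals are finite. -/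
theorem finite_quotient_normalisation (D : Type u) [CommRing D] [IsReduced D] [IsNoetherianRing D] [IsLocalRing D]
    (M : Ideal (integralClosure D (FractionRing D))) [M.IsMaximal] :
    Module.Finite D (integralClosure D (FractionRing D) ⧸ M) := by
  classical
  let F := FractionRing D
  haveI : IsArtinianRing F := EssEtFrac5.isArtinianRing_fractionRing (minimalPrimes.finite_of_isNoetherianRing D)
  let N := integralClosure D F
  obtain ⟨P, hP, hPM⟩ := Ideal.exists_minimalPrimes_le (I := (⊥ : Ideal N)) (J := M) bot_le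
  obtain ⟨q, hq, hqP⟩ := Ideal.exists_comap_eq_of_mem_minimalPrimes_of_injective (f := N.val.toRingHom)
    Subtype.val_injective P hP
  haveI := hq
  haveI hqmax : q.IsMaximal := IsArtinianRing.isMaximal_of_isPrime q
  letI : Field (F ⧸ q) := Ideal.Quotient.field q
  let p : Ideal D := q.comap (algebraMap D F)
  haveI : p.IsPrime := Ideal.IsPrime.comap _
  haveI : IsLocalRing (D ⧸ p) := .of_surjective' (Ideal.Quotient.mk p) Ideal.Quotient.mk_surjective
  letI : Algebra (D ⧸ p) (F ⧸ q) := (Ideal.quotientMap q (algebraMap D F) le_rfl).toAlgebra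
  haveI : IsScalarTower D (D ⧸ p) (F ⧸ q) := IsScalarTower.of_algebraMap_eq fun d => rfl
  haveI : IsFractionRing (D ⧸ p) (F ⧸ q) := by
    have hinj : Function.Injective (algebraMap (D ⧸ p) (F ⧸ q)) := Ideal.quotientMap_injective
    haveI : FaithfulSMul (D ⧸ p) (F ⧸ q) := (faithfulSMul_iff_algebraMap_injective _ _).2 hinj
    refine IsFractionRing.of_field (R := D ⧸ p) (K := F ⧸ q) fun z => ?_
    obtain ⟨z, rfl⟩ := Ideal.Quotient.mk_surjective z
    obtain ⟨⟨a, b⟩, h⟩ := IsLocalization.surj (nonZeroDivisors D) z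
    refine ⟨Ideal.Quotient.mk p a, Ideal.Quotient.mk p b, ?_⟩
    have hu : IsUnit (Ideal.Quotient.mk q (algebraMap D F b)) := (IsLocalization.map_units F b).map _
    show Ideal.Quotient.mk q z = Ideal.Quotient.mk q (algebraMap D F a) / Ideal.Quotient.mk q (algebraMap D F b)
    rw [eq_div_iff hu.ne_zero, ← map_mul, h]
  let N' := integralClosure (D ⧸ p) (F ⧸ q)
  let g : N →+* N' := RingHom.codRestrict ((Ideal.Quotient.mk q).comp N.val.toRingHom) N'.toSubring fun x =>
    IsIntegral.tower_top (R := D) (x.2.map (Ideal.Quotient.mkₐ D q))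
  have hgker : RingHom.ker g = P := by
    rw [← hqP]
    ext x
    rw [RingHom.mem_ker, Ideal.mem_comap, ← Ideal.Quotient.eq_zero_iff_mem]
    exact ⟨fun h => congrArg Subtype.val h, fun h => Subtype.ext h⟩
  haveI : Algebra.IsIntegral D (D ⧸ p) := ⟨fun x => by
    obtain ⟨d, rfl⟩ := Ideal.Quotient.mk_surjective x
    exact isIntegral_algebraMap⟩
  letI : Algebra N N' := g.toAlgebra
  haveI : IsScalarTower D N N' := IsScalarTower.of_algebraMap_eq fun d => Subtype.ext rfl
  haveI : Algebra.IsIntegral N N' := ⟨fun y => by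
    have h1 : IsIntegral (D ⧸ p) (y : F ⧸ q) := y.2
    have h2 : IsIntegral D (y : F ⧸ q) := isIntegral_trans (A := D ⧸ p) _ h1
    exact IsIntegral.tower_top (R := D) ((isIntegral_algHom_iff (N'.val.restrictScalars D) Subtype.val_injective).1 h2)⟩
  obtain ⟨M', -, hM', hM'M⟩ := Ideal.exists_ideal_over_prime_of_isIntegral (S := N') M ⊥ (by
    rw [← RingHom.ker_eq_comap_bot]
    exact hgker.le.trans hPM)
  haveI := hM'
  haveI : M'.IsMaximal := Ideal.isMaximal_of_isIntegral_of_isMaximal_comap (R := N) M' (hM'M ▸ inferInstance)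
  haveI : IsNoetherianRing (D ⧸ p) := inferInstance
  haveI : Module.Finite (D ⧸ p) (N' ⧸ M') := finite_quotient_normalisation_domain (D ⧸ p) (F ⧸ q) M'
  haveI : Module.Finite D (D ⧸ p) := Module.Finite.of_surjective (Algebra.linearMap D (D ⧸ p)) Ideal.Quotient.mk_surjective
  haveI : Module.Finite D (N' ⧸ M') := Module.Finite.trans (D ⧸ p) (N' ⧸ M')
  let f : (N ⧸ M) →ₐ[D] (N' ⧸ M') := Ideal.quotientMapₐ M' (IsScalarTower.toAlgHom D N N') hM'M.ge
  exact Module.Finite.of_injective f.toLinearMap (Ideal.quotientMap_injective' (H := hM'M.ge) hM'M.le)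

end Groth.Agent.SHEss
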