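import Groth.Agent.SHEss.FiniteSub
import Groth.Agent.S0540

/-!
# A degree bound for residues of branch elements rational over a subalgebra
-/

set_option autoImplicit false
set_option linter.style.haveILetI false
set_option maxHeartbeats 1600000
set_option synthInstance.maxHeartbeats 200000

universe u

open IsLocalRing Polynomial nonZeroDivisors

namespace Groth.Agent.SHEss

variable {A S : Type u} [CommRing A] [HenselianLocalRing A] [IsNoetherianRing A] [CommRing S] [IsLocalRing S]
  [Algebra A S] [IsLocalHom (algebraMap A S)] [Hensel.IsStrictHenselization A S]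

/-- Subalgebras of the strict henselization have finitely many minimal primes. -/
theorem finite_minimalPrimes_sub (D : Subalgebra A S) : (minimalPrimes D).Finite := by
  haveI : IsNoetherianRing S := (S0540.result A S).1 inferInstance
  haveI := isIntegral_sh A S
  haveI : Algebra.IsIntegral D S := Algebra.IsIntegral.tower_top (R := A)
  refine ((minimalPrimes.finite_of_isNoetherianRing S).image (Ideal.comap (algebraMap D S))).subset fun P hP => ?_
  haveI := hP.1.1
  obtain ⟨P', -, hP', hP'P⟩ := Ideal.exists_ideal_over_prime_of_isIntegral (S := S) P ⊥ (by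
    rw [Ideal.comap_bot_of_injective _ (show Function.Injective (algebraMap D S) from Subtype.val_injective)]
    exact bot_le)
  haveI := hP'
  obtain ⟨Q, hQ, hQle⟩ := Ideal.exists_minimalPrimes_le (I := (⊥ : Ideal S)) (J := P') bot_le
  haveI := hQ.1.1
  exact ⟨Q, hQ, le_antisymm (hP'P ▸ Ideal.comap_mono hQle)
    (hP.2 ⟨Ideal.IsPrime.comap _, bot_le⟩ (hP'P ▸ Ideal.comap_mono hQle))⟩

/-- Non-zero-divisors of a subalgebra avoid minimal primes of the strict henselization. -/
theorem notMem_of_nonZeroDivisor [IsReduced A] (D : Subalgebra A S) (Q : Ideal S) (hQ : Q ∈ minimalPrimes S)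
    (d : D⁰) : ((d : D) : S) ∉ Q := by
  classical
  intro hdQ
  haveI := Hensel.faithfullyFlat_of_isStrictHenselization A S
  obtain ⟨E, hsE, hEloc, hEl, hE⟩ := exists_essEtale_subalgebra (A := A) ({((d : D) : S)} : Finset S)
  haveI := EssEtLib.isLocalHom_algebraMap hE
  haveI := hEloc
  let dE : E := ⟨_, hsE (Finset.mem_singleton_self _)⟩
  let D₁ : Subalgebra A E := Algebra.adjoin A ({dE} : Set E)
  have hle : D₁ ≤ D.comap E.val := Algebra.adjoin_le (Set.singleton_subset_iff.2 (d : D).2)
  obtain ⟨a, ha, d', hd'⟩ := (exists_mul_eq_algebraMap (minimalPrimes.finite_of_isNoetherianRing A) hE D₁).1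
    ⟨dE, Algebra.self_mem_adjoin_singleton A dE⟩
    (mem_nonZeroDivisors_iff_right.2 fun w hw => by
      have h1 : (⟨((w : E) : S), hle w.2⟩ : D) * (d : D) = 0 :=
        Subtype.ext (congrArg (fun t : D₁ => ((t : E) : S)) hw)
      have h2 := (mem_nonZeroDivisors_iff_right.1 d.2) _ h1
      exact Subtype.ext (Subtype.ext (congrArg (fun t : D => (t : S)) h2)))
  have h1 : ((d : D) : S) * ((d' : E) : S) = algebraMap A S a := congrArg Subtype.val hd'
  have h2 : algebraMap A S a ∈ Q := by rw [← h1]; exact Q.mul_mem_right _ hdQ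
  have h3 : algebraMap A S a ∈ S⁰ := by
    refine mem_nonZeroDivisors_iff_right.2 fun w hw => ?_
    have hreg : IsSMulRegular S a := Module.Flat.isSMulRegular_of_nonZeroDivisors ha
    refine hreg ?_
    show a • w = a • (0 : S)
    rw [smul_zero, Algebra.smul_def, mul_comm, hw]
  exact Set.disjoint_left.1 (Ideal.disjoint_nonZeroDivisors_of_mem_minimalPrimes (p := Q) hQ) h2 h3

section

/-- The degree bound for one element, for an abstract integral algebra mapping to the branch field. -/
theorem exists_monic_le_residue (D : Subalgebra A S) (Q : Ideal S) [Q.IsPrime] (N : Type u) [CommRing N] [Algebra D N]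
    [Algebra.IsIntegral D N] (ψ : N →+* FractionRing (S ⧸ Q))
    (hψ : ∀ d : D, ψ (algebraMap D N d) = algebraMap (S ⧸ Q) (FractionRing (S ⧸ Q)) (Ideal.Quotient.mk Q (d : S)))
    (M : Ideal N) [M.IsMaximal] (hMle : RingHom.ker ψ ≤ M)
    [FiniteDimensional (Subfield.closure (Set.range ((algebraMap N M.ResidueField).comp (algebraMap D N))))
      (separableClosure (Subfield.closure (Set.range ((algebraMap N M.ResidueField).comp (algebraMap D N)))) M.ResidueField)]
    (u : S) (y : N) (hy : ψ y = algebraMap (S ⧸ Q) (FractionRing (S ⧸ Q)) (Ideal.Quotient.mk Q u)) :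
    ∃ p : D[X], p.Monic ∧ p.natDegree ≤ Module.finrank
        (Subfield.closure (Set.range ((algebraMap N M.ResidueField).comp (algebraMap D N))))
        (separableClosure (Subfield.closure (Set.range ((algebraMap N M.ResidueField).comp (algebraMap D N)))) M.ResidueField) ∧
      residue S (aeval u p) = 0 := by
  classical
  obtain ⟨hD, hDl, hDint⟩ := henselian_sub D
  haveI := hD
  haveI := hDl
  haveI := hDint
  haveI := isIntegral_sh A S
  let Kb := FractionRing (S ⧸ Q)
  let πS : S →+* Kb := (algebraMap (S ⧸ Q) Kb).comp (Ideal.Quotient.mk Q)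
  let l := M.ResidueField
  let k₀ := Subfield.closure (Set.range ((algebraMap N l).comp (algebraMap D N)))
  -- the local ring generated by the branch element
  let Sb := S ⧸ Q
  haveI : IsLocalRing Sb := .of_surjective' (Ideal.Quotient.mk Q) Ideal.Quotient.mk_surjective
  let R := Algebra.adjoin D ({Ideal.Quotient.mk Q u} : Set Sb)
  haveI : Algebra.IsIntegral A Sb := ⟨fun x => by
    obtain ⟨s, rfl⟩ := Ideal.Quotient.mk_surjective x
    exact (Algebra.IsIntegral.isIntegral (R := A) s).map (Ideal.Quotient.mkₐ A Q)⟩
  haveI : Algebra.IsIntegral D Sb := Algebra.IsIntegral.tower_top (R := A)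
  haveI : Algebra.IsIntegral D R := ⟨fun x =>
    (isIntegral_algHom_iff R.val Subtype.val_injective).1 (Algebra.IsIntegral.isIntegral _)⟩
  haveI : IsLocalRing R := Hensel.isLocalRing_of_isIntegral_domain D R
  haveI : Algebra.IsIntegral R Sb := Algebra.IsIntegral.tower_top (R := D)
  haveI : IsLocalHom (algebraMap R Sb) := Hensel.isLocalHom_of_isIntegral_local R Sb
  let uR : R := ⟨_, Algebra.self_mem_adjoin_singleton D _⟩
  let r : D[X] →ₐ[D] R := aeval uR
  have hrs : Function.Surjective r := fun x => by
    obtain ⟨x, hx⟩ := x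
    have hx' : x ∈ Algebra.adjoin D ({Ideal.Quotient.mk Q u} : Set Sb) := hx
    rw [Algebra.adjoin_singleton_eq_range_aeval] at hx'
    obtain ⟨p, hp⟩ := hx'
    exact ⟨p, Subtype.ext ((aeval_algHom_apply R.val uR p).symm.trans hp)⟩
  let yl : D[X] →+* l := (algebraMap N l).comp (aeval (R := D) y).toRingHom
  have hker : RingHom.ker r.toRingHom ≤ RingHom.ker yl := fun p hp => by
    rw [RingHom.mem_ker]
    show algebraMap N l (aeval y p) = 0
    rw [Ideal.algebraMap_residueField_eq_zero]
    refine hMle ?_
    rw [RingHom.mem_ker, aeval_def, hom_eval₂, hy,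
      show ψ.comp (algebraMap D N) = πS.comp D.val.toRingHom from RingHom.ext hψ]
    have h1 : (R.val (r p) : Sb) = 0 := by rw [show r p = 0 from hp, map_zero]
    rw [show R.val (r p) = eval₂ (algebraMap D Sb) (Ideal.Quotient.mk Q u) p from (aeval_algHom_apply R.val uR p).symm] at h1
    have h2 := congrArg (algebraMap Sb Kb) h1
    rw [map_zero, hom_eval₂] at h2
    exact h2
  let χ : R →+* l := RingHom.liftOfSurjective r.toRingHom hrs ⟨yl, hker⟩
  have hχ : ∀ p, χ (r p) = yl p := RingHom.liftOfRightInverse_comp_apply r.toRingHom _ _ ⟨yl, hker⟩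
  have hχD : ∀ d : D, χ (algebraMap D R d) = algebraMap N l (algebraMap D N d) := fun d => by
    rw [show algebraMap D R d = r (C d) from (aeval_C uR d).symm, hχ]
    show algebraMap N l (aeval y (C d)) = _
    rw [aeval_C]
  have hmax : RingHom.ker χ = maximalIdeal R := by
    refine IsLocalRing.eq_maximalIdeal ?_
    haveI : (RingHom.ker χ).IsPrime := RingHom.ker_isPrime χ
    refine Ideal.isMaximal_of_isIntegral_of_isMaximal_comap (R := D) _ ?_
    have : (RingHom.ker χ).comap (algebraMap D R) = M.comap (algebraMap D N) := by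
      ext d
      rw [Ideal.mem_comap, RingHom.mem_ker, hχD, Ideal.algebraMap_residueField_eq_zero, Ideal.mem_comap]
    rw [this]
    exact Ideal.isMaximal_comap_of_isIntegral_of_isMaximal M
  have hyk : χ uR ∈ separableClosure k₀ l := by
    obtain ⟨g, hgm, -, hg⟩ := lifts_and_natDegree_eq_and_monic
      ((lifts_iff_coeff_lifts (minpoly (ResidueField A) (residue S u))).mpr fun n => residue_surjective _)
      (minpoly.monic (by
        haveI := (inferInstance : Hensel.IsStrictHenselization A S).isSepClosure
        haveI : Algebra.IsSeparable (ResidueField A) (ResidueField S) := IsSepClosure.separable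
        exact Algebra.IsSeparable.isIntegral (ResidueField A) _))
    have hsepg : (g.map (residue A)).Separable := by
      haveI := (inferInstance : Hensel.IsStrictHenselization A S).isSepClosure
      haveI : Algebra.IsSeparable (ResidueField A) (ResidueField S) := IsSepClosure.separable
      rw [hgm]; exact Algebra.IsSeparable.isSeparable (ResidueField A) _
    have hgS : residue S (aeval u g) = 0 := by
      rw [aeval_def, hom_eval₂]
      have := minpoly.aeval (ResidueField A) (residue S u)
      rw [← hgm, aeval_def, eval₂_map] at this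
      exact this
    have hgχ : χ (aeval uR g) = 0 := by
      rw [← RingHom.mem_ker, hmax]
      intro hunit
      have h1 : IsUnit (algebraMap R Sb (aeval uR g)) := hunit.map _
      have h2 : algebraMap R Sb (aeval uR g) = Ideal.Quotient.mk Q (aeval u g) :=
        (aeval_algHom_apply (R.val.restrictScalars A) uR g).symm.trans (aeval_algHom_apply (Ideal.Quotient.mkₐ A Q) u g)
      rw [h2] at h1
      haveI : IsLocalHom (Ideal.Quotient.mk Q) := .of_surjective _ Ideal.Quotient.mk_surjective
      exact (residue_eq_zero_iff _).1 hgS (isUnit_of_map_unit _ _ h1)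
    -- coefficients in `k₀`
    have hAk : ∀ a : A, algebraMap N l (algebraMap D N (algebraMap A D a)) ∈ k₀ := fun a =>
      Subfield.subset_closure ⟨_, rfl⟩
    let ck : A →+* k₀ := ((algebraMap N l).comp ((algebraMap D N).comp (algebraMap A D))).codRestrict k₀ hAk
    have hckm : ∀ a ∈ maximalIdeal A, ck a = 0 := fun a ha => Subtype.ext (by
      show algebraMap N l (algebraMap D N (algebraMap A D a)) = 0
      rw [← hχD, ← RingHom.mem_ker, hmax, mem_maximalIdeal, mem_nonunits_iff]
      intro hu'
      have hq : IsUnit (algebraMap R Sb (algebraMap D R (algebraMap A D a))) := hu'.map _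
      haveI : IsLocalHom (Ideal.Quotient.mk Q) := .of_surjective _ Ideal.Quotient.mk_surjective
      exact ha (isUnit_of_map_unit (algebraMap A S) a (isUnit_of_map_unit (Ideal.Quotient.mk Q) _ hq)))
    let kk : ResidueField A →+* k₀ := Ideal.Quotient.lift _ ck hckm
    have hroot : aeval (χ uR) ((g.map (residue A)).map kk) = 0 := by
      rw [aeval_def, eval₂_map, eval₂_map]
      rw [aeval_def, hom_eval₂] at hgχ
      refine Eq.trans ?_ hgχ
      congr 1
      ext a
      exact (hχD (algebraMap A D a)).symm
    have hsep' : IsSeparable k₀ (χ uR) := hsepg.map.of_dvd (minpoly.dvd _ _ hroot)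
    exact mem_separableClosure_iff.2 hsep'
  -- `k₀` is the image of the residue field
  have hk₀ : ∀ w ∈ k₀, ∃ d : D, algebraMap N l (algebraMap D N d) = w :=
    exists_of_mem_closure_range ((algebraMap N l).comp (algebraMap D N)) fun a ha => by
      by_contra hn
      refine ha ?_
      show algebraMap N l (algebraMap D N a) = 0
      rw [Ideal.algebraMap_residueField_eq_zero]
      exact (IsLocalRing.eq_maximalIdeal (Ideal.isMaximal_comap_of_isIntegral_of_isMaximal (R := D) M)).ge hn
  let c : D →+* k₀ := ((algebraMap N l).comp (algebraMap D N)).codRestrict k₀ fun a => Subfield.subset_closure ⟨a, rfl⟩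
  have hcs : Function.Surjective c := fun w => by
    obtain ⟨a, ha⟩ := hk₀ _ w.2
    exact ⟨a, Subtype.ext ha⟩
  let v : separableClosure k₀ l := ⟨χ uR, hyk⟩
  have hvint : IsIntegral k₀ v := IsIntegral.of_finite k₀ v
  obtain ⟨p, hpm, hpdeg, hp⟩ := lifts_and_natDegree_eq_and_monic
    ((lifts_iff_coeff_lifts (f := c) (minpoly k₀ v)).mpr fun n => hcs _) (minpoly.monic hvint)
  refine ⟨p, hp, hpdeg.le.trans (minpoly.natDegree_le v), ?_⟩
  have h0 : aeval uR p ∈ RingHom.ker χ := by
    rw [RingHom.mem_ker, aeval_def, hom_eval₂]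
    have h1 : aeval (χ uR) (minpoly k₀ v) = 0 := by
      have := congrArg (separableClosure k₀ l).val (minpoly.aeval k₀ v)
      rw [← aeval_algHom_apply, map_zero] at this
      exact this
    rw [← hpm, aeval_def, eval₂_map] at h1
    refine Eq.trans ?_ h1
    congr 1
    exact RingHom.ext hχD
  rw [hmax, mem_maximalIdeal, mem_nonunits_iff] at h0
  rw [residue_eq_zero_iff, mem_maximalIdeal, mem_nonunits_iff]
  intro hu'
  have hval : R.val (aeval uR p) = Ideal.Quotient.mk Q (aeval u p) :=
    (aeval_algHom_apply R.val uR p).symm.trans (aeval_algHom_apply (Ideal.Quotient.mkₐ D Q) u p)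
  have hq : IsUnit (algebraMap R Sb (aeval uR p)) := hval.symm ▸ hu'.map (Ideal.Quotient.mk Q)
  exact h0 (isUnit_of_map_unit (algebraMap R Sb) _ hq)

end

section

variable [IsReduced A] (D : Subalgebra A S) (Q : Ideal S) [Q.IsPrime]

/-- Residues of branch elements rational over a subalgebra with finite separable residue closures have
bounded degree over that of the subalgebra. -/
theorem exists_residue_degree_bound (hQ : Q ∈ minimalPrimes S)
    (hfin : ∀ (M : Ideal (integralClosure D (FractionRing D))) [M.IsMaximal],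
      FiniteDimensional (Subfield.closure (Set.range ((algebraMap (integralClosure D (FractionRing D)) M.ResidueField).comp (algebraMap D (integralClosure D (FractionRing D)))))) (separableClosure (Subfield.closure (Set.range ((algebraMap (integralClosure D (FractionRing D)) M.ResidueField).comp (algebraMap D (integralClosure D (FractionRing D)))))) M.ResidueField)) :
    ∃ n : ℕ, ∀ u : S, algebraMap (S ⧸ Q) (FractionRing (S ⧸ Q)) (Ideal.Quotient.mk Q u) ∈
      Subfield.closure (Set.range (((algebraMap (S ⧸ Q) (FractionRing (S ⧸ Q))).comp (Ideal.Quotient.mk Q)).comp D.val.toRingHom)) →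
      ∃ p : D[X], p.Monic ∧ p.natDegree ≤ n ∧ residue S (aeval u p) = 0 := by
  classical
  obtain ⟨hD, hDl, hDint⟩ := henselian_sub D
  haveI := hD
  haveI := hDl
  haveI := hDint
  haveI := isReduced_sh A S
  haveI := isIntegral_sh A S
  haveI := Hensel.faithfullyFlat_of_isStrictHenselization A S
  haveI : IsReduced D := isReduced_of_injective D.val Subtype.val_injective
  let KD := FractionRing D
  let Kb := FractionRing (S ⧸ Q)
  haveI : IsArtinianRing KD := EssEtFrac5.isArtinianRing_fractionRing (finite_minimalPrimes_sub D)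
  let πS : S →+* Kb := (algebraMap (S ⧸ Q) Kb).comp (Ideal.Quotient.mk Q)
  have hπS : ∀ s, πS s = 0 ↔ s ∈ Q := fun s =>
    (map_eq_zero_iff _ (IsFractionRing.injective (S ⧸ Q) Kb)).trans Ideal.Quotient.eq_zero_iff_mem
  have hnzd : ∀ d : D⁰, IsUnit ((πS.comp D.val.toRingHom) d) := by
    intro d
    rw [isUnit_iff_ne_zero]
    exact fun h0 => notMem_of_nonZeroDivisor D Q hQ d ((hπS _).1 h0)
  let π : KD →+* Kb := IsLocalization.lift hnzd
  have hπ : ∀ d : D, π (algebraMap D KD d) = πS d := fun d => IsLocalization.lift_eq hnzd d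
  have hreg : ∀ x : KD, ∃ v, x = v * (x * x) := fun x => by
    obtain ⟨n, y, hy⟩ := IsArtinian.exists_pow_succ_smul_dvd x (1 : KD)
    simp only [smul_eq_mul, mul_one] at hy
    refine ⟨y, sub_eq_zero.1 (IsNilpotent.eq_zero ⟨n + 1, ?_⟩)⟩
    calc (x - y * (x * x)) ^ (n + 1) = (x ^ n - x ^ (n + 1) * y) * x * (1 - y * x) ^ n := by
          rw [show x - y * (x * x) = x * (1 - y * x) by ring, mul_pow]; ring
      _ = 0 := by rw [← hy, sub_self, zero_mul, zero_mul]
  have hfield : ∀ w ∈ Subfield.closure (Set.range (πS.comp D.val.toRingHom)), ∃ z, π z = w := by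
    intro w hw
    induction hw using Subfield.closure_induction with
    | mem w hw => obtain ⟨d, rfl⟩ := hw; exact ⟨_, hπ d⟩
    | one => exact ⟨1, map_one π⟩
    | add x y _ _ hx hy =>
      obtain ⟨a, rfl⟩ := hx
      obtain ⟨b, rfl⟩ := hy
      exact ⟨a + b, map_add π a b⟩
    | neg x _ hx => obtain ⟨a, rfl⟩ := hx; exact ⟨-a, map_neg π a⟩
    | inv x _ hx =>
      obtain ⟨a, rfl⟩ := hx
      obtain ⟨v, hv⟩ := hreg a
      by_cases h0 : π a = 0
      · exact ⟨0, by rw [h0, inv_zero, map_zero]⟩
      · refine ⟨v, eq_inv_of_mul_eq_one_left (mul_right_cancel₀ h0 ?_)⟩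
        rw [one_mul, mul_assoc, ← map_mul, ← map_mul, ← hv]
    | mul x y _ _ hx hy =>
      obtain ⟨a, rfl⟩ := hx
      obtain ⟨b, rfl⟩ := hy
      exact ⟨a * b, map_mul π a b⟩
  -- cut down to the component
  obtain ⟨e, he, hI⟩ := (Ideal.isIdempotentElem_iff_of_fg (RingHom.ker π) (IsNoetherian.noetherian _)).1
    (le_antisymm Ideal.mul_le_right fun x hx => by
      obtain ⟨v, hv⟩ := hreg x
      rw [hv, ← mul_assoc]
      exact Ideal.mul_mem_mul (Ideal.mul_mem_left _ v hx) hx)
  have hπe : π e = 0 := hI.ge (Submodule.mem_span_singleton_self e)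
  let ε := 1 - e
  have hε : IsIdempotentElem ε := he.one_sub
  let N := integralClosure D KD
  obtain ⟨M, hM, hMle⟩ := Ideal.exists_le_maximal (RingHom.ker (π.comp N.val.toRingHom)) (RingHom.ker_ne_top _)
  haveI := hM
  let l := M.ResidueField
  let k₀ := Subfield.closure (Set.range ((algebraMap N l).comp (algebraMap D N)))
  haveI : FiniteDimensional k₀ (separableClosure k₀ l) := hfin M
  refine ⟨Module.finrank k₀ (separableClosure k₀ l), fun u hu => ?_⟩
  obtain ⟨z, hz⟩ := hfield _ hu
  replace hz : π z = πS u := hz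
  obtain ⟨h, hh, hhu⟩ := Algebra.IsIntegral.isIntegral (R := A) u
  let hD' : D[X] := h.map (algebraMap A D)
  have hzero : π (aeval z hD') = 0 := by
    rw [aeval_def, hom_eval₂, hz, show π.comp (algebraMap D KD) = πS.comp D.val.toRingHom from RingHom.ext hπ,
      eval₂_map]
    have : (πS.comp D.val.toRingHom).comp (algebraMap A D) = πS.comp (algebraMap A S) := rfl
    rw [this, ← hom_eval₂, hhu, map_zero]
  have hεh : ε * aeval (ε * z) hD' = 0 := by
    have hid : ∀ p : D[X], ε * aeval (ε * z) p = ε * aeval z p := fun p => by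
      induction p using Polynomial.induction_on' with
      | add p q hp hq => rw [map_add, map_add, mul_add, mul_add, hp, hq]
      | monomial n c =>
        rw [aeval_monomial, aeval_monomial, mul_pow]
        have : ε * ε ^ n = ε := by rw [← pow_succ', hε.pow_succ_eq]
        linear_combination (algebraMap D KD c * z ^ n) * this
    rw [hid]
    obtain ⟨c, hc⟩ := Ideal.mem_span_singleton'.1 (hI.le (RingHom.mem_ker.2 hzero))
    have : ε * e = 0 := by rw [sub_mul, one_mul, he.eq, sub_self]
    rw [← hc, mul_left_comm, this, mul_zero]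
  have hyint : IsIntegral D (ε * z) := by
    refine ⟨X * hD', monic_X.mul (hh.map _), ?_⟩
    rw [← aeval_def, map_mul, aeval_X, mul_right_comm, hεh, zero_mul]
  let y : N := ⟨ε * z, hyint⟩
  have hπy : π (y : KD) = πS u := by
    show π (ε * z) = _
    rw [map_mul, map_sub, map_one, hπe, sub_zero, one_mul, hz]
  exact exists_monic_le_residue D Q N (π.comp N.val.toRingHom)
    (fun d => (congrArg π (N.val.commutes d)).trans (hπ d)) M hMle u y hπy

end

end Groth.Agent.SHEss
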