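import Groth.Agent.SHEss.RangeHens
import Groth.Agent.SHEss.Saturate2
import Groth.Agent.Hensel.HenselizationFibre
import Groth.Agent.EssEtFrac5.Basic

/-!
# Finite subalgebras of a strict henselization of a henselian ring
-/

set_option autoImplicit false
set_option linter.style.haveILetI false
set_option maxHeartbeats 1600000
set_option synthInstance.maxHeartbeats 200000

universe u

open IsLocalRing Polynomial nonZeroDivisors

namespace Groth.Agent.SHEss

/-- The image of a local ring with field image is the subfield it generates. -/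
theorem exists_of_mem_closure_range {D L : Type*} [CommRing D] [Field L] (f : D →+* L)
    (hf : ∀ a, f a ≠ 0 → IsUnit a) (w : L) (hw : w ∈ Subfield.closure (Set.range f)) : ∃ d, f d = w := by
  induction hw using Subfield.closure_induction with
  | mem w hw => exact hw
  | one => exact ⟨1, map_one f⟩
  | add x y _ _ hx hy =>
    obtain ⟨a, rfl⟩ := hx
    obtain ⟨b, rfl⟩ := hy
    exact ⟨a + b, map_add f a b⟩
  | neg x _ hx => obtain ⟨a, rfl⟩ := hx; exact ⟨-a, map_neg f a⟩
  | inv x _ hx =>
    obtain ⟨a, rfl⟩ := hx
    by_cases h0 : f a = 0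
    · exact ⟨0, by rw [h0, inv_zero, map_zero]⟩
    · obtain ⟨v, hv⟩ := (hf a h0).exists_left_inv
      exact ⟨v, eq_inv_of_mul_eq_one_left (by rw [← map_mul, hv, map_one])⟩
  | mul x y _ _ hx hy =>
    obtain ⟨a, rfl⟩ := hx
    obtain ⟨b, rfl⟩ := hy
    exact ⟨a * b, map_mul f a b⟩

variable (A S : Type u) [CommRing A] [HenselianLocalRing A] [IsNoetherianRing A] [CommRing S] [IsLocalRing S]
  [Algebra A S] [IsLocalHom (algebraMap A S)] [Hensel.IsStrictHenselization A S]

/-- A strict henselization of a Noetherian henselian local ring is integral. -/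
theorem isIntegral_sh : Algebra.IsIntegral A S := by
  refine ⟨fun x => ?_⟩
  obtain ⟨E, hsE, hEloc, hEl, hE⟩ := exists_essEtale_subalgebra (A := A) ({x} : Finset S)
  haveI := EssEtLib.isLocalHom_algebraMap hE
  haveI := finite_of_essEtale hE E.val
  exact (Algebra.IsIntegral.isIntegral (R := A) (⟨x, hsE (Finset.mem_singleton_self x)⟩ : E)).map E.val

/-- A strict henselization of a reduced local ring is reduced. -/
theorem isReduced_sh [IsReduced A] : IsReduced S := by
  haveI := (Hensel.isHenzLike_of_isStrictHenselization A S).isReduced_tensor A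
  exact isReduced_of_injective (Algebra.TensorProduct.rid A A S).symm (Algebra.TensorProduct.rid A A S).symm.injective

variable {A S}

/-- Subalgebras of a strict henselization of a henselian local ring are henselian local with local inclusion. -/
theorem henselian_sub (D : Subalgebra A S) :
    ∃ _ : HenselianLocalRing D, IsLocalHom (algebraMap D S) ∧ Algebra.IsIntegral A D := by
  haveI := isIntegral_sh A S
  haveI hDi : Algebra.IsIntegral A D := ⟨fun x =>
    (isIntegral_algHom_iff D.val Subtype.val_injective).1 (Algebra.IsIntegral.isIntegral _)⟩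
  haveI : Algebra.IsIntegral D S := Algebra.IsIntegral.tower_top (R := A)
  haveI : IsLocalRing D := by
    refine IsLocalRing.of_unique_max_ideal ⟨(maximalIdeal S).comap (algebraMap D S),
      Ideal.isMaximal_comap_of_isIntegral_of_isMaximal _, fun M hM => ?_⟩
    haveI := hM
    obtain ⟨Q, -, hQ, hQc⟩ := Ideal.exists_ideal_over_prime_of_isIntegral (S := S) M ⊥ (by
      intro x hx
      rw [show x = 0 from Subtype.ext hx]
      exact zero_mem M)
    haveI := hQ
    haveI : Q.IsMaximal := Ideal.isMaximal_of_isIntegral_of_isMaximal_comap (R := D) Q (hQc ▸ hM)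
    rw [← hQc, IsLocalRing.eq_maximalIdeal this]
  exact ⟨Hensel.henselianLocalRing_of_isIntegral_local A D, Hensel.isLocalHom_of_isIntegral_local D S, hDi⟩

/-- In a subalgebra with the same residue field, the root with given residue is found. -/
theorem mem_of_root_residue (D : Subalgebra A S) (f : A[X]) (hf : f.Monic)
    (hsep : (f.map (residue A)).Separable) (θ : S) (hθ : aeval θ f = 0) (d₀ : D)
    (h : residue S θ = residue S (d₀ : S)) : θ ∈ D := by
  obtain ⟨hD, hDl, -⟩ := henselian_sub D
  haveI := hD
  haveI := hDl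
  obtain ⟨θ', hθ'D, hθ', hθ'r⟩ := exists_root d₀ f hf hsep (by
    rw [← h, aeval_def, eval₂_map, show (algebraMap (ResidueField A) (ResidueField S)).comp (residue A) =
      (residue S).comp (algebraMap A S) from rfl, ← hom_eval₂, ← aeval_def, hθ, map_zero])
  rwa [eq_of_residue_eq f hsep θ θ' hθ hθ' (h.trans hθ'r.symm)]

section

variable [IsReduced A] (D : Subalgebra A S) [Module.Finite A D] (Q : Ideal S) [Q.IsPrime]

/-- Elements of a branch rational over a finite subalgebra with separably closed normal residue fields have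
residues in that of the subalgebra. -/
theorem residue_mem_of_sep_closed (hQ : Q ∈ minimalPrimes S)
    (hcond : ∀ (M : Ideal (integralClosure D (FractionRing D))) [M.IsMaximal],
      separableClosure (Subfield.closure (Set.range ((algebraMap (integralClosure D (FractionRing D)) M.ResidueField).comp (algebraMap D (integralClosure D (FractionRing D)))))) M.ResidueField = ⊥)
    (u : S) (hu : algebraMap (S ⧸ Q) (FractionRing (S ⧸ Q)) (Ideal.Quotient.mk Q u) ∈
      Subfield.closure (Set.range (((algebraMap (S ⧸ Q) (FractionRing (S ⧸ Q))).comp (Ideal.Quotient.mk Q)).comp D.val.toRingHom))) :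
    ∃ d : D, residue S u = residue S (d : S) := by
  classical
  obtain ⟨hD, hDl, hDint⟩ := henselian_sub D
  haveI := hD
  haveI := hDl
  haveI := hDint
  haveI : IsNoetherianRing D := IsNoetherianRing.of_finite A D
  haveI := isReduced_sh A S
  haveI := isIntegral_sh A S
  haveI := Hensel.faithfullyFlat_of_isStrictHenselization A S
  haveI : IsReduced D := isReduced_of_injective D.val Subtype.val_injective
  let KD := FractionRing D
  let Kb := FractionRing (S ⧸ Q)
  haveI : IsArtinianRing KD :=
    EssEtFrac5.isArtinianRing_fractionRing (minimalPrimes.finite_of_isNoetherianRing D)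
  let πS : S →+* Kb := (algebraMap (S ⧸ Q) Kb).comp (Ideal.Quotient.mk Q)
  have hπS : ∀ s, πS s = 0 ↔ s ∈ Q := fun s =>
    (map_eq_zero_iff _ (IsFractionRing.injective (S ⧸ Q) Kb)).trans Ideal.Quotient.eq_zero_iff_mem
  obtain ⟨E, hsE, hEloc, hEl, hE⟩ := exists_essEtale_subalgebra (A := A) ((Module.Finite.fg_top (R := A) (M := D)).choose.image Subtype.val)
  have hDE : D ≤ E := fun x hx => by
    have h1 : (⟨x, hx⟩ : D) ∈ Submodule.span A ((Module.Finite.fg_top (R := A) (M := D)).choose : Set D) :=
      by rw [(Module.Finite.fg_top (R := A) (M := D)).choose_spec]; trivial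
    have h2 : Submodule.span A ((Module.Finite.fg_top (R := A) (M := D)).choose : Set D) ≤
        (Subalgebra.toSubmodule E).comap D.val.toLinearMap :=
      Submodule.span_le.2 fun y hy => hsE (Finset.mem_image_of_mem _ hy)
    exact h2 h1
  have hnzd : ∀ d : D⁰, IsUnit ((πS.comp D.val.toRingHom) d) := by
    intro d
    haveI := EssEtLib.isLocalHom_algebraMap hE
    haveI := hEloc
    let D₁ : Subalgebra A E := D.comap E.val
    let e : D ≃ₐ[A] D₁ :=
      { toFun := fun x => ⟨⟨x.1, hDE x.2⟩, x.2⟩
        invFun := fun x => ⟨x.1.1, x.2⟩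
        left_inv := fun _ => rfl
        right_inv := fun _ => rfl
        map_mul' := fun _ _ => rfl
        map_add' := fun _ _ => rfl
        commutes' := fun _ => rfl }
    obtain ⟨a, ha, d', hd'⟩ := (exists_mul_eq_algebraMap (minimalPrimes.finite_of_isNoetherianRing A) hE D₁).1 (e d.1)
      (mem_nonZeroDivisors_iff_right.2 fun w hw => e.symm.injective (by
        rw [map_zero]
        exact (mem_nonZeroDivisors_iff_right.1 d.2) _ (by rw [← e.symm_apply_apply d.1, ← map_mul, hw, map_zero])))
    rw [isUnit_iff_ne_zero]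
    intro h0
    have h1 : ((d.1 : D) : S) * ((d' : E) : S) = algebraMap A S a := congrArg Subtype.val hd'
    have h2 : algebraMap A S a ∈ Q := by
      rw [← h1]
      exact Q.mul_mem_right _ ((hπS _).1 h0)
    have h3 : algebraMap A S a ∈ S⁰ := by
      refine mem_nonZeroDivisors_iff_right.2 fun w hw => ?_
      have hreg : IsSMulRegular S a := Module.Flat.isSMulRegular_of_nonZeroDivisors ha
      refine hreg ?_
      show a • w = a • (0 : S)
      rw [smul_zero, Algebra.smul_def, mul_comm, hw]
    exact Set.disjoint_left.1 (Ideal.disjoint_nonZeroDivisors_of_mem_minimalPrimes (p := Q) hQ) h2 h3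
  let π : KD →+* Kb := IsLocalization.lift hnzd
  have hπ : ∀ d : D, π (algebraMap D KD d) = πS d := fun d => IsLocalization.lift_eq hnzd d
  have hreg : ∀ x : KD, ∃ v, x = v * (x * x) := fun x => by
    obtain ⟨n, y, hy⟩ := IsArtinian.exists_pow_succ_smul_dvd x (1 : KD)
    simp only [smul_eq_mul, mul_one] at hy
    refine ⟨y, sub_eq_zero.1 (IsNilpotent.eq_zero ⟨n + 1, ?_⟩)⟩
    calc (x - y * (x * x)) ^ (n + 1) = (x ^ n - x ^ (n + 1) * y) * x * (1 - y * x) ^ n := by
          rw [show x - y * (x * x) = x * (1 - y * x) by ring, mul_pow]; ring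
      _ = 0 := by rw [← hy, sub_self, zero_mul, zero_mul]
  have hfield : ∀ w ∈ Subfield.closure (Set.range (πS.comp D.val.toRingHom)), ∃ z, π z = w := by
    intro w hw
    induction hw using Subfield.closure_induction with
    | mem w hw => obtain ⟨d, rfl⟩ := hw; exact ⟨_, hπ d⟩
    | one => exact ⟨1, map_one π⟩
    | add x y _ _ hx hy =>
      obtain ⟨a, rfl⟩ := hx
      obtain ⟨b, rfl⟩ := hy
      exact ⟨a + b, map_add π a b⟩
    | neg x _ hx => obtain ⟨a, rfl⟩ := hx; exact ⟨-a, map_neg π a⟩
    | inv x _ hx =>
      obtain ⟨a, rfl⟩ := hx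
      obtain ⟨v, hv⟩ := hreg a
      by_cases h0 : π a = 0
      · exact ⟨0, by rw [h0, inv_zero, map_zero]⟩
      · refine ⟨v, eq_inv_of_mul_eq_one_left (mul_right_cancel₀ h0 ?_)⟩
        rw [one_mul, mul_assoc, ← map_mul, ← map_mul, ← hv]
    | mul x y _ _ hx hy =>
      obtain ⟨a, rfl⟩ := hx
      obtain ⟨b, rfl⟩ := hy
      exact ⟨a * b, map_mul π a b⟩
  obtain ⟨z, hz⟩ := hfield _ hu
  replace hz : π z = πS u := hz
  -- cut down to the component
  obtain ⟨e, he, hI⟩ := (Ideal.isIdempotentElem_iff_of_fg (RingHom.ker π) (IsNoetherian.noetherian _)).1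
    (le_antisymm Ideal.mul_le_right fun x hx => by
      obtain ⟨v, hv⟩ := hreg x
      rw [hv, ← mul_assoc]
      exact Ideal.mul_mem_mul (Ideal.mul_mem_left _ v hx) hx)
  have hπe : π e = 0 := hI.ge (Submodule.mem_span_singleton_self e)
  let ε := 1 - e
  have hε : IsIdempotentElem ε := he.one_sub
  obtain ⟨h, hh, hhu⟩ := Algebra.IsIntegral.isIntegral (R := A) u
  let hD' : D[X] := h.map (algebraMap A D)
  have hzero : π (aeval z hD') = 0 := by
    rw [aeval_def, hom_eval₂, hz, show π.comp (algebraMap D KD) = πS.comp D.val.toRingHom from RingHom.ext hπ,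
      eval₂_map]
    have : (πS.comp D.val.toRingHom).comp (algebraMap A D) = πS.comp (algebraMap A S) := rfl
    rw [this, ← hom_eval₂, hhu, map_zero]
  have hεh : ε * aeval (ε * z) hD' = 0 := by
    have hid : ∀ p : D[X], ε * aeval (ε * z) p = ε * aeval z p := fun p => by
      induction p using Polynomial.induction_on' with
      | add p q hp hq => rw [map_add, map_add, mul_add, mul_add, hp, hq]
      | monomial n c =>
        rw [aeval_monomial, aeval_monomial, mul_pow]
        have : ε * ε ^ n = ε := by rw [← pow_succ', hε.pow_succ_eq]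
        linear_combination (algebraMap D KD c * z ^ n) * this
    rw [hid]
    obtain ⟨c, hc⟩ := Ideal.mem_span_singleton'.1 (hI.le (RingHom.mem_ker.2 hzero))
    have : ε * e = 0 := by rw [sub_mul, one_mul, he.eq, sub_self]
    rw [← hc, mul_left_comm, this, mul_zero]
  have hyint : IsIntegral D (ε * z) := by
    refine ⟨X * hD', monic_X.mul (hh.map _), ?_⟩
    rw [← aeval_def, map_mul, aeval_X, mul_right_comm, hεh, zero_mul]
  let N := integralClosure D KD
  let y : N := ⟨ε * z, hyint⟩
  have hπy : π (y : KD) = πS u := by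
    show π (ε * z) = _
    rw [map_mul, map_sub, map_one, hπe, sub_zero, one_mul, hz]
  obtain ⟨M, hM, hMle⟩ := Ideal.exists_le_maximal (RingHom.ker (π.comp N.val.toRingHom)) (RingHom.ker_ne_top _)
  haveI := hM
  let l := M.ResidueField
  -- the local ring generated by the branch element
  let Sb := S ⧸ Q
  haveI : IsLocalRing Sb := .of_surjective' (Ideal.Quotient.mk Q) Ideal.Quotient.mk_surjective
  let R := Algebra.adjoin D ({Ideal.Quotient.mk Q u} : Set Sb)
  haveI : Algebra.IsIntegral A Sb := ⟨fun x => by
    obtain ⟨s, rfl⟩ := Ideal.Quotient.mk_surjective x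
    exact (Algebra.IsIntegral.isIntegral (R := A) s).map (Ideal.Quotient.mkₐ A Q)⟩
  haveI : Algebra.IsIntegral D Sb := Algebra.IsIntegral.tower_top (R := A)
  haveI : Algebra.IsIntegral D R := ⟨fun x =>
    (isIntegral_algHom_iff R.val Subtype.val_injective).1 (Algebra.IsIntegral.isIntegral _)⟩
  haveI : IsLocalRing R := Hensel.isLocalRing_of_isIntegral_domain D R
  haveI : Algebra.IsIntegral R Sb := Algebra.IsIntegral.tower_top (R := D)
  haveI : IsLocalHom (algebraMap R Sb) := Hensel.isLocalHom_of_isIntegral_local R Sb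
  let uR : R := ⟨_, Algebra.self_mem_adjoin_singleton D _⟩
  let r : D[X] →ₐ[D] R := aeval uR
  have hrs : Function.Surjective r := fun x => by
    obtain ⟨x, hx⟩ := x
    have hx' : x ∈ Algebra.adjoin D ({Ideal.Quotient.mk Q u} : Set Sb) := hx
    rw [Algebra.adjoin_singleton_eq_range_aeval] at hx'
    obtain ⟨p, hp⟩ := hx'
    exact ⟨p, Subtype.ext ((aeval_algHom_apply R.val uR p).symm.trans hp)⟩
  let yl : D[X] →+* l := (algebraMap N l).comp (aeval (R := D) y).toRingHom
  have hker : RingHom.ker r.toRingHom ≤ RingHom.ker yl := fun p hp => by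
    rw [RingHom.mem_ker]
    show algebraMap N l (aeval y p) = 0
    rw [Ideal.algebraMap_residueField_eq_zero]
    refine hMle ?_
    show π ((aeval y p : N) : KD) = 0
    rw [show ((aeval y p : N) : KD) = aeval (y : KD) p from (aeval_algHom_apply N.val y p).symm, aeval_def, hom_eval₂,
      hπy, show π.comp (algebraMap D KD) = πS.comp D.val.toRingHom from RingHom.ext hπ]
    have h1 : (R.val (r p) : Sb) = 0 := by rw [show r p = 0 from hp, map_zero]
    rw [show R.val (r p) = eval₂ (algebraMap D Sb) (Ideal.Quotient.mk Q u) p from (aeval_algHom_apply R.val uR p).symm] at h1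
    have h2 := congrArg (algebraMap Sb Kb) h1
    rw [map_zero, hom_eval₂] at h2
    exact h2
  let χ : R →+* l := RingHom.liftOfSurjective r.toRingHom hrs ⟨yl, hker⟩
  have hχ : ∀ p, χ (r p) = yl p := RingHom.liftOfRightInverse_comp_apply r.toRingHom _ _ ⟨yl, hker⟩
  have hχD : ∀ d : D, χ (algebraMap D R d) = algebraMap N l (algebraMap D N d) := fun d => by
    rw [show algebraMap D R d = r (C d) from (aeval_C uR d).symm, hχ]
    show algebraMap N l (aeval y (C d)) = _
    rw [aeval_C]
  have hmax : RingHom.ker χ = maximalIdeal R := by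
    refine IsLocalRing.eq_maximalIdeal ?_
    haveI : (RingHom.ker χ).IsPrime := RingHom.ker_isPrime χ
    refine Ideal.isMaximal_of_isIntegral_of_isMaximal_comap (R := D) _ ?_
    have : (RingHom.ker χ).comap (algebraMap D R) = M.comap (algebraMap D N) := by
      ext d
      rw [Ideal.mem_comap, RingHom.mem_ker, hχD, Ideal.algebraMap_residueField_eq_zero, Ideal.mem_comap]
    rw [this]
    exact Ideal.isMaximal_comap_of_isIntegral_of_isMaximal M
  let k₀ := Subfield.closure (Set.range ((algebraMap N l).comp (algebraMap D N)))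
  have hyk : χ uR ∈ k₀ := by
    obtain ⟨g, hgm, -, hg⟩ := lifts_and_natDegree_eq_and_monic
      ((lifts_iff_coeff_lifts (minpoly (ResidueField A) (residue S u))).mpr fun n => residue_surjective _)
      (minpoly.monic (by
        haveI := (inferInstance : Hensel.IsStrictHenselization A S).isSepClosure
        haveI : Algebra.IsSeparable (ResidueField A) (ResidueField S) := IsSepClosure.separable
        exact Algebra.IsSeparable.isIntegral (ResidueField A) _))
    have hsepg : (g.map (residue A)).Separable := by
      haveI := (inferInstance : Hensel.IsStrictHenselization A S).isSepClosure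
      haveI : Algebra.IsSeparable (ResidueField A) (ResidueField S) := IsSepClosure.separable
      rw [hgm]; exact Algebra.IsSeparable.isSeparable (ResidueField A) _
    have hgS : residue S (aeval u g) = 0 := by
      rw [aeval_def, hom_eval₂]
      have := minpoly.aeval (ResidueField A) (residue S u)
      rw [← hgm, aeval_def, eval₂_map] at this
      exact this
    have hgχ : χ (aeval uR g) = 0 := by
      rw [← RingHom.mem_ker, hmax]
      intro hunit
      have h1 : IsUnit (algebraMap R Sb (aeval uR g)) := hunit.map _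
      have h2 : algebraMap R Sb (aeval uR g) = Ideal.Quotient.mk Q (aeval u g) :=
        (aeval_algHom_apply (R.val.restrictScalars A) uR g).symm.trans (aeval_algHom_apply (Ideal.Quotient.mkₐ A Q) u g)
      rw [h2] at h1
      haveI : IsLocalHom (Ideal.Quotient.mk Q) := .of_surjective _ Ideal.Quotient.mk_surjective
      exact (residue_eq_zero_iff _).1 hgS (isUnit_of_map_unit _ _ h1)
    -- coefficients in `k₀`
    have hAk : ∀ a : A, algebraMap N l (algebraMap D N (algebraMap A D a)) ∈ k₀ := fun a =>
      Subfield.subset_closure ⟨_, rfl⟩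
    let ck : A →+* k₀ := ((algebraMap N l).comp ((algebraMap D N).comp (algebraMap A D))).codRestrict k₀ hAk
    have hckm : ∀ a ∈ maximalIdeal A, ck a = 0 := fun a ha => Subtype.ext (by
      show algebraMap N l (algebraMap D N (algebraMap A D a)) = 0
      rw [← hχD, ← RingHom.mem_ker, hmax, mem_maximalIdeal, mem_nonunits_iff]
      intro hu'
      have hq : IsUnit (algebraMap R Sb (algebraMap D R (algebraMap A D a))) := hu'.map _
      haveI : IsLocalHom (Ideal.Quotient.mk Q) := .of_surjective _ Ideal.Quotient.mk_surjective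
      exact ha (isUnit_of_map_unit (algebraMap A S) a (isUnit_of_map_unit (Ideal.Quotient.mk Q) _ hq)))
    let kk : ResidueField A →+* k₀ := Ideal.Quotient.lift _ ck hckm
    have hroot : aeval (χ uR) ((g.map (residue A)).map kk) = 0 := by
      rw [aeval_def, eval₂_map, eval₂_map]
      rw [aeval_def, hom_eval₂] at hgχ
      refine Eq.trans ?_ hgχ
      congr 1
      ext a
      exact (hχD (algebraMap A D a)).symm
    have hsep' : IsSeparable k₀ (χ uR) := hsepg.map.of_dvd (minpoly.dvd _ _ hroot)
    have := mem_separableClosure_iff.2 hsep'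
    rw [hcond M, IntermediateField.mem_bot] at this
    obtain ⟨c, hc⟩ := this
    exact hc ▸ c.2
  -- `k₀` is the image of the residue field
  have hk₀ : ∀ w ∈ k₀, ∃ d : D, algebraMap N l (algebraMap D N d) = w :=
    exists_of_mem_closure_range ((algebraMap N l).comp (algebraMap D N)) fun a ha => by
      by_contra hn
      refine ha ?_
      show algebraMap N l (algebraMap D N a) = 0
      rw [Ideal.algebraMap_residueField_eq_zero]
      exact (IsLocalRing.eq_maximalIdeal (Ideal.isMaximal_comap_of_isIntegral_of_isMaximal (R := D) M)).ge hn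
  obtain ⟨d, hd⟩ := hk₀ _ hyk
  refine ⟨d, ?_⟩
  have h0 : χ (uR - algebraMap D R d) = 0 := by rw [map_sub, hχD, hd, sub_self]
  rw [← RingHom.mem_ker, hmax, mem_maximalIdeal, mem_nonunits_iff] at h0
  rw [← sub_eq_zero, ← map_sub, residue_eq_zero_iff, mem_maximalIdeal, mem_nonunits_iff]
  intro hu'
  have hval : R.val (uR - algebraMap D R d) = Ideal.Quotient.mk Q (u - (d : S)) := by
    rw [map_sub, AlgHom.commutes, map_sub]
    rfl
  have hq : IsUnit (algebraMap R Sb (uR - algebraMap D R d)) :=
    hval.symm ▸ hu'.map (Ideal.Quotient.mk Q)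
  exact h0 (isUnit_of_map_unit (algebraMap R Sb) _ hq)

end

end Groth.Agent.SHEss
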