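import Groth.Agent.SHEss.Roots
import Groth.Agent.BrnchLib.HenzStrict
import Groth.Agent.GorFib.SH
import Groth.Agent.S2654
import Mathlib.FieldTheory.PrimitiveElement
import Mathlib.FieldTheory.PurelyInseparable.Basic

/-!
# The minimal geometrically unibranch unramified base of a branch of a strict henselization
-/

set_option autoImplicit false
set_option linter.style.haveILetI false
set_option maxHeartbeats 1200000
set_option synthInstance.maxHeartbeats 200000

universe u

open IsLocalRing Polynomial TensorProduct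

namespace Groth.Agent.SHEss

/-- Transport of `isStrictHenselization_quotient` along an equality of ideals. -/
theorem isStrictHenselization_quotient' (B R : Type u) [CommRing B] [IsLocalRing B] [CommRing R] [IsLocalRing R]
    [Algebra B R] [IsLocalHom (algebraMap B R)] [Hensel.IsStrictHenselization B R] (J : Ideal B) (Q : Ideal R)
    (hQ : J.map (algebraMap B R) = Q) [IsLocalRing (B ⧸ J)] [IsLocalRing (R ⧸ Q)]
    [Algebra (B ⧸ J) (R ⧸ Q)] [IsScalarTower B (B ⧸ J) (R ⧸ Q)] [IsLocalHom (algebraMap (B ⧸ J) (R ⧸ Q))] :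
    Hensel.IsStrictHenselization (B ⧸ J) (R ⧸ Q) := by
  subst hQ
  have he : ‹Algebra (B ⧸ J) (R ⧸ J.map (algebraMap B R))› = Ideal.Quotient.algebraQuotientMapQuotient := by
    refine Algebra.algebra_ext _ _ fun x => ?_
    obtain ⟨b, rfl⟩ := Ideal.Quotient.mk_surjective x
    exact (IsScalarTower.algebraMap_apply B (B ⧸ J) (R ⧸ J.map (algebraMap B R)) b).symm
  subst he
  exact GorFib.isStrictHenselization_quotient B R J

/-- A branch of the strict henselization is extended from an unramified subalgebra with the same fraction field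
as the image of the base. -/
theorem exists_geom_base (A S : Type u) [CommRing A] [HenselianLocalRing A] (hA : EGA4.IsExcellent A)
    [CommRing S] [IsLocalRing S] [Algebra A S] [IsLocalHom (algebraMap A S)]
    [Hensel.IsStrictHenselization A S] (Q : Ideal S) (hQ : Q ∈ minimalPrimes S) [Q.IsPrime] :
    ∃ (f : A[X]) (θ : S), f.Monic ∧ Irreducible (f.map (residue A)) ∧ (f.map (residue A)).Separable ∧
      aeval θ f = 0 ∧
      (Q.comap (algebraMap (Algebra.adjoin A ({θ} : Set S)) S)).map (algebraMap (Algebra.adjoin A ({θ} : Set S)) S) = Q ∧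
      algebraMap (S ⧸ Q) (FractionRing (S ⧸ Q)) (Ideal.Quotient.mk Q θ) ∈
        Subfield.closure (Set.range (algebraMap A (FractionRing (S ⧸ Q)))) := by
  classical
  haveI : IsNoetherianRing A := hA.1
  haveI : HenselianLocalRing S := (inferInstance : Hensel.IsStrictHenselization A S).henselian
  let Kb := FractionRing (S ⧸ Q)
  let q : Ideal A := Q.comap (algebraMap A S)
  haveI : q.IsPrime := Ideal.IsPrime.comap _
  haveI : HenselianLocalRing (A ⧸ q) := IsoNatLib.henselianLocalRing_quotient q (Ideal.IsPrime.ne_top inferInstance)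
  let K := FractionRing (A ⧸ q)
  letI : Algebra (A ⧸ q) (S ⧸ Q) := (Ideal.quotientMap Q (algebraMap A S) le_rfl).toAlgebra
  haveI : IsScalarTower A (A ⧸ q) (S ⧸ Q) := IsScalarTower.of_algebraMap_eq fun a => rfl
  haveI : IsScalarTower A (A ⧸ q) Kb := IsScalarTower.to₁₂₄ A (A ⧸ q) (S ⧸ Q) Kb
  haveI : FaithfulSMul (A ⧸ q) Kb := (faithfulSMul_iff_algebraMap_injective _ _).2
    ((IsFractionRing.injective (S ⧸ Q) Kb).comp Ideal.quotientMap_injective)
  letI : Algebra K Kb := FractionRing.liftAlgebra (A ⧸ q) Kb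
  haveI : IsScalarTower (A ⧸ q) K Kb := inferInstance
  haveI : IsScalarTower A K Kb := IsScalarTower.of_algebraMap_eq fun a => by
    rw [IsScalarTower.algebraMap_apply A (A ⧸ q) K, ← IsScalarTower.algebraMap_apply (A ⧸ q) K Kb,
      ← IsScalarTower.algebraMap_apply A (A ⧸ q) Kb]
  -- the normalization
  let N := integralClosure (A ⧸ q) K
  haveI : Module.Finite (A ⧸ q) N := (S2654.result A ⟨hA.1, hA.2.2.1, hA.2.2.2⟩).2 q K inferInstance
  haveI : Module.Finite A (A ⧸ q) := Module.Finite.of_surjective (Algebra.linearMap A (A ⧸ q)) Ideal.Quotient.mk_surjective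
  haveI : Module.Finite A N := Module.Finite.trans (A ⧸ q) N
  haveI : IsIntegrallyClosed N := integralClosure.isIntegrallyClosedOfFiniteExtension K
  haveI : IsLocalRing N := Hensel.isLocalRing_of_isIntegral_domain A N
  haveI : HenselianLocalRing N := Hensel.henselianLocalRing_of_isIntegral_local A N
  haveI : IsLocalHom (algebraMap A N) := Hensel.isLocalHom_of_isIntegral_local A N
  let ιA : N →ₐ[A] Kb := (IsScalarTower.toAlgHom A K Kb).comp ((IsScalarTower.toAlgHom A N K))
  have hι : Function.Injective ιA := (algebraMap K Kb).injective.comp Subtype.val_injective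
  let k := ResidueField A
  let k' := ResidueField N
  let ks := separableClosure k k'
  haveI : FiniteDimensional k k' := inferInstance
  haveI : FiniteDimensional k ks := inferInstance
  obtain ⟨z, hz⟩ := Field.exists_primitive_element k ks
  have hzsep : IsSeparable k (z : k') := mem_separableClosure_iff.1 z.2
  obtain ⟨f, hfm, -, hf⟩ := lifts_and_natDegree_eq_and_monic
    ((lifts_iff_coeff_lifts (minpoly k (z : k'))).mpr fun n => residue_surjective ((minpoly k (z : k')).coeff n))
    (minpoly.monic hzsep.isIntegral)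
  have hirr : Irreducible (f.map (residue A)) := by rw [hfm]; exact minpoly.irreducible hzsep.isIntegral
  have hsep : (f.map (residue A)).Separable := by rw [hfm]; exact hzsep
  have hevN : ∀ (x : N) (p : A[X]), residue N (aeval x p) = aeval (residue N x) (p.map (residue A)) := fun x p => by
    rw [aeval_def, hom_eval₂, aeval_def, eval₂_map]
    rfl
  obtain ⟨ρ₀, hρ₀⟩ := residue_surjective (z : k')
  obtain ⟨ρ, hρ, hρ'⟩ := HenselianLocalRing.is_henselian (f.map (algebraMap A N)) (hf.map _) ρ₀
    (by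
      rw [← residue_eq_zero_iff, eval_map, ← aeval_def, hevN, hρ₀, hfm]
      exact minpoly.aeval k _)
    (by
      by_contra hu
      have h0 := (residue_eq_zero_iff _).2 hu
      rw [derivative_map, eval_map, ← aeval_def, hevN, hρ₀, ← derivative_map, hfm] at h0
      exact hzsep.aeval_derivative_ne_zero (minpoly.aeval k _) h0)
  replace hρ : aeval ρ f = 0 := by rw [IsRoot, eval_map, ← aeval_def] at hρ; exact hρ
  replace hρ' : residue N ρ = z := by
    rw [← hρ₀, ← sub_eq_zero, ← map_sub]
    exact (residue_eq_zero_iff _).2 hρ'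
  -- the matching root in `S`
  obtain ⟨θ, hθ, hθρ⟩ : ∃ θ : S, aeval θ f = 0 ∧ algebraMap (S ⧸ Q) Kb (Ideal.Quotient.mk Q θ) = ιA ρ := by
    obtain ⟨m, hm⟩ := exists_eq_prod_roots (S := S) f hf hsep
    have h0 : aeval (ιA ρ) f = 0 := by rw [aeval_algHom_apply, hρ, map_zero]
    let π : S →+* Kb := (algebraMap (S ⧸ Q) Kb).comp (Ideal.Quotient.mk Q)
    have hπ : f.map (algebraMap A Kb) = ((m.map π).map fun a => X - C a).prod := by
      have h1 := congrArg (Polynomial.map π) hm
      rw [Polynomial.map_map, Polynomial.map_multiset_prod, Multiset.map_map] at h1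
      rw [Multiset.map_map, show algebraMap A Kb = π.comp (algebraMap A S) from rfl, h1]
      simp [Function.comp_def]
    rw [← eval_map_algebraMap, hπ, eval_multiset_prod, Multiset.prod_eq_zero_iff, Multiset.map_map,
      Multiset.mem_map] at h0
    obtain ⟨v, hv, hv0⟩ := h0
    rw [Function.comp_apply, eval_sub, eval_X, eval_C, sub_eq_zero] at hv0
    obtain ⟨θ, hθm, rfl⟩ := Multiset.mem_map.1 hv
    refine ⟨θ, ?_, hv0.symm⟩
    rw [← eval_map_algebraMap, hm, eval_multiset_prod, Multiset.map_map]
    exact Multiset.prod_eq_zero (Multiset.mem_map.2 ⟨θ, hθm, by simp⟩)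
  refine ⟨f, θ, hf, hirr, hsep, hθ, ?_, ?_⟩
  swap
  · show algebraMap (S ⧸ Q) Kb (Ideal.Quotient.mk Q θ) ∈ _
    rw [hθρ]
    show algebraMap K Kb (ρ : K) ∈ _
    obtain ⟨a, b, -, hab⟩ := IsFractionRing.div_surjective (A := A ⧸ q) (ρ : K)
    obtain ⟨a, rfl⟩ := Ideal.Quotient.mk_surjective a
    obtain ⟨b, rfl⟩ := Ideal.Quotient.mk_surjective b
    rw [← hab, map_div₀, ← IsScalarTower.algebraMap_apply (A ⧸ q) K Kb, ← IsScalarTower.algebraMap_apply (A ⧸ q) K Kb]
    exact Subfield.div_mem _ (Subfield.subset_closure ⟨a, rfl⟩) (Subfield.subset_closure ⟨b, rfl⟩)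
  obtain ⟨⟨hEloc, hEl, hE, hEfin⟩, -⟩ := adjoin_root_props f hf hirr hsep θ hθ
  let E := Algebra.adjoin A ({θ} : Set S)
  haveI : Module.Finite A E := hEfin
  haveI := EssEtLib.isLocalHom_algebraMap hE
  haveI := isStrictHenselization_of_intermediate (S := S) hE
  let c : E →ₐ[A] Kb := (IsScalarTower.toAlgHom A (S ⧸ Q) Kb).comp ((Ideal.Quotient.mkₐ A Q).comp E.val)
  have hc : ∀ e : E, c e ∈ ιA.range := fun e => by
    have he : (e : S) ∈ Algebra.adjoin A ({θ} : Set S) := e.2
    rw [Algebra.adjoin_singleton_eq_range_aeval] at he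
    obtain ⟨p, hp⟩ := he
    refine ⟨aeval ρ p, ?_⟩
    show ιA (aeval ρ p) = algebraMap (S ⧸ Q) Kb (Ideal.Quotient.mk Q (e : S))
    rw [← hp]
    show _ = algebraMap (S ⧸ Q) Kb (Ideal.Quotient.mkₐ A Q (aeval θ p))
    rw [← aeval_algHom_apply, ← hθρ, ← aeval_algHom_apply, ← aeval_algebraMap_apply]
    rfl
  let gE : E →ₐ[A] N := (AlgEquiv.ofInjective ιA hι).symm.toAlgHom.comp (c.codRestrict ιA.range hc)
  have hgE : ∀ e, ιA (gE e) = c e := fun e =>
    congrArg Subtype.val ((AlgEquiv.ofInjective ιA hι).apply_symm_apply (c.codRestrict ιA.range hc e))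
  let P : Ideal E := Q.comap (algebraMap E S)
  haveI : P.IsPrime := Ideal.IsPrime.comap _
  have hker : ∀ e : E, gE e = 0 ↔ e ∈ P := fun e => by
    rw [← map_eq_zero_iff ιA hι, hgE]
    show algebraMap (S ⧸ Q) Kb (Ideal.Quotient.mk Q (e : S)) = 0 ↔ _
    rw [map_eq_zero_iff _ (IsFractionRing.injective (S ⧸ Q) Kb), Ideal.Quotient.eq_zero_iff_mem]
    rfl
  haveI : HenselianLocalRing E := Hensel.henselianLocalRing_of_isIntegral_local A E
  haveI : HenselianLocalRing (E ⧸ P) := IsoNatLib.henselianLocalRing_quotient P (Ideal.IsPrime.ne_top inferInstance)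
  let g : E ⧸ P →ₐ[A] N := Ideal.Quotient.liftₐ P gE fun e he => (hker e).2 he
  have hg : Function.Injective g := by
    rw [injective_iff_map_eq_zero]
    intro x hx
    obtain ⟨e, rfl⟩ := Ideal.Quotient.mk_surjective x
    exact Ideal.Quotient.eq_zero_iff_mem.2 ((hker e).1 hx)
  letI : Algebra (E ⧸ P) N := g.toRingHom.toAlgebra
  haveI : IsScalarTower A (E ⧸ P) N := IsScalarTower.of_algebraMap_eq fun a => (g.commutes a).symm
  haveI : Algebra.IsIntegral (E ⧸ P) N := Algebra.IsIntegral.tower_top (R := A)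
  let J : Ideal S := P.map (algebraMap E S)
  have hJQ : J ≤ Q := Ideal.map_comap_le
  let T := S ⧸ J
  haveI : Nontrivial T := Ideal.Quotient.nontrivial_iff.2 fun h => (inferInstance : Q.IsPrime).ne_top (top_le_iff.1 (h.ge.trans hJQ))
  haveI : IsLocalRing T := .of_surjective' (Ideal.Quotient.mk J) Ideal.Quotient.mk_surjective
  haveI : IsLocalHom (Ideal.Quotient.mk J) := .of_surjective _ Ideal.Quotient.mk_surjective
  haveI : IsLocalHom (algebraMap (E ⧸ P) T) := by
    constructor
    intro b hb
    obtain ⟨b, rfl⟩ := Ideal.Quotient.mk_surjective b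
    have hb' : IsUnit (Ideal.Quotient.mk J (algebraMap E S b)) := hb
    exact (isUnit_of_map_unit (algebraMap E S) b (isUnit_of_map_unit _ _ hb')).map _
  haveI hT : Hensel.IsStrictHenselization (E ⧸ P) T := GorFib.isStrictHenselization_quotient E S P
  haveI := Hensel.faithfullyFlat_of_isStrictHenselization (E ⧸ P) T
  let C := T ⊗[E ⧸ P] N
  have hinc : Function.Injective (Algebra.TensorProduct.includeLeft : T →ₐ[T] C) :=
    Algebra.TensorProduct.includeLeft_injective (S := T) hg
  haveI : Nontrivial C := hinc.nontrivial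
  haveI : HenselianLocalRing T := hT.henselian
  haveI : IsSepClosed (ResidueField T) := hT.isSepClosure.sep_closed
  let Ω := AlgebraicClosure (ResidueField T)
  obtain ⟨eqv⟩ := BrnchLib.nonempty_maximalSpectrum_tensor_equiv (E ⧸ P) T N Ω (algebraMap (ResidueField T) Ω)
    (((algebraMap (ResidueField T) Ω).comp (residue T)).comp (algebraMap (E ⧸ P) T)) rfl
  have hsub : Subsingleton (MaximalSpectrum C) := by
    refine @Equiv.subsingleton _ _ eqv ⟨?_⟩
    rintro ⟨m₁, σ₁, h₁⟩ ⟨m₂, σ₂, h₂⟩
    have hm : m₁ = m₂ := MaximalSpectrum.ext ((eq_maximalIdeal m₁.isMaximal).trans (eq_maximalIdeal m₂.isMaximal).symm)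
    subst hm
    congr 1
    refine Subtype.ext (Ideal.Quotient.ringHom_ext ?_)
    have hm₁ : m₁.asIdeal = maximalIdeal N := eq_maximalIdeal m₁.isMaximal
    let τ : ∀ σ : N ⧸ m₁.asIdeal →+* Ω, k' →+* Ω := fun σ => σ.comp (Ideal.quotEquivOfEq hm₁.symm).toRingHom
    have hτr : ∀ σ (x : N), τ σ (residue N x) = σ (Ideal.Quotient.mk _ x) := fun σ x => rfl
    have hB : ∀ y : E, τ σ₁ (residue N (gE y)) = τ σ₂ (residue N (gE y)) := fun y => by
      rw [hτr, hτr]
      exact (RingHom.congr_fun h₁ (Ideal.Quotient.mk P y)).trans (RingHom.congr_fun h₂ (Ideal.Quotient.mk P y)).symm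
    have hA' : ∀ a : A, τ σ₁ (residue N (algebraMap A N a)) = τ σ₂ (residue N (algebraMap A N a)) := fun a => by
      rw [← gE.commutes a]; exact hB _
    have hgθ : gE ⟨θ, Algebra.subset_adjoin rfl⟩ = ρ := hι ((hgE _).trans hθρ)
    have hks : ∀ w : ks, τ σ₁ w = τ σ₂ w := by
      intro w
      have hw : w ∈ Algebra.adjoin k ({z} : Set ks) := by
        rw [← IntermediateField.adjoin_simple_toSubalgebra_of_isAlgebraic (Algebra.IsAlgebraic.isAlgebraic z), hz]
        trivial
      induction hw using Algebra.adjoin_induction with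
      | mem x hx =>
        obtain rfl : x = z := hx
        rw [← hρ', ← hgθ]
        exact hB _
      | algebraMap r =>
        obtain ⟨a, rfl⟩ := residue_surjective r
        exact hA' a
      | add x y _ _ hx hy => push_cast; rw [map_add, map_add, hx, hy]
      | mul x y _ _ hx hy => push_cast; rw [map_mul, map_mul, hx, hy]
    ext x
    show τ σ₁ (residue N x) = τ σ₂ (residue N x)
    let p := ringExpChar k
    haveI : ExpChar k p := ringExpChar.expChar k
    haveI : ExpChar ks p := expChar_of_injective_ringHom (algebraMap k ks).injective p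
    haveI : ExpChar k' p := expChar_of_injective_ringHom (algebraMap k k').injective p
    haveI : ExpChar Ω p := expChar_of_injective_ringHom (τ σ₁).injective p
    obtain ⟨n, w, hw⟩ := IsPurelyInseparable.pow_mem ks p (residue N x)
    apply iterateFrobenius_inj Ω p n
    rw [iterateFrobenius_def, iterateFrobenius_def, ← map_pow (τ σ₁), ← map_pow (τ σ₂), ← hw]
    exact hks w
  haveI : IsLocalRing C := by
    obtain ⟨n, hn⟩ := Ideal.exists_maximal C
    exact IsLocalRing.of_unique_max_ideal ⟨n, hn, fun I hI =>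
      congrArg MaximalSpectrum.asIdeal (Subsingleton.elim (⟨I, hI⟩ : MaximalSpectrum C) ⟨n, hn⟩)⟩
  haveI hdomC : IsDomain C := by
    have := BrnchLib.isDomain_localization_tensor_strict (E ⧸ P) T N (fun m hm =>
      ⟨IsLocalization.isDomain_localization (Ideal.primeCompl_le_nonZeroDivisors m),
        isIntegrallyClosed_of_isLocalization _ m.primeCompl (Ideal.primeCompl_le_nonZeroDivisors m)⟩)
      (maximalIdeal C)
    let e : C ≃ₐ[C] Localization.AtPrime (maximalIdeal C) :=
      IsLocalization.atUnits C (maximalIdeal C).primeCompl (fun x hx => IsLocalRing.notMem_maximalIdeal.1 hx)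
    exact e.toRingEquiv.toMulEquiv.isDomain _
  haveI : IsDomain T := hinc.isDomain (Algebra.TensorProduct.includeLeft : T →ₐ[T] C).toRingHom
  haveI : J.IsPrime := (Ideal.Quotient.isDomain_iff_prime J).1 inferInstance
  exact le_antisymm hJQ (hQ.2 ⟨inferInstance, bot_le⟩ hJQ)

end Groth.Agent.SHEss
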