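import Groth.Agent.SHEss.FiniteSub
import Groth.Agent.SHEss.GeomBase

/-!
# A branch of a finite subalgebra of a strict henselization
-/

set_option autoImplicit false
set_option linter.style.haveILetI false
set_option maxHeartbeats 1600000
set_option synthInstance.maxHeartbeats 200000

universe u

open IsLocalRing Polynomial

namespace Groth.Agent.SHEss

/-- If the residues of branch elements rational over a finite subalgebra `D` come from a base `E` whose
ideal extends to the branch, then `D` agrees with `E` on the branch. -/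
theorem exists_sub_mem_branch {A S : Type u} [CommRing A] [CommRing S] [IsLocalRing S] [Algebra A S]
    (E : Type u) [CommRing E] [HenselianLocalRing E] [IsNoetherianRing E] [Algebra A E] [Algebra E S]
    [IsScalarTower A E S] [IsLocalHom (algebraMap E S)] [Hensel.IsStrictHenselization E S]
    (D : Subalgebra A S) [Module.Finite A D] (hED : ∀ e : E, algebraMap E S e ∈ D)
    (Q : Ideal S) [Q.IsPrime] (hQ : (Q.comap (algebraMap E S)).map (algebraMap E S) = Q)
    (hres : ∀ u : S, algebraMap (S ⧸ Q) (FractionRing (S ⧸ Q)) (Ideal.Quotient.mk Q u) ∈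
      Subfield.closure (Set.range (((algebraMap (S ⧸ Q) (FractionRing (S ⧸ Q))).comp (Ideal.Quotient.mk Q)).comp
        D.val.toRingHom)) → ∃ e : E, residue S u = residue S (algebraMap E S e))
    (x : D) : ∃ e : E, (x : S) - algebraMap E S e ∈ Q := by
  classical
  let P : Ideal E := Q.comap (algebraMap E S)
  haveI : P.IsPrime := Ideal.IsPrime.comap _
  let B := E ⧸ P
  haveI : HenselianLocalRing B := IsoNatLib.henselianLocalRing_quotient P (Ideal.IsPrime.ne_top inferInstance)
  haveI : IsLocalRing (S ⧸ Q) := .of_surjective' (Ideal.Quotient.mk Q) Ideal.Quotient.mk_surjective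
  haveI : IsLocalHom (Ideal.Quotient.mk Q) := .of_surjective _ Ideal.Quotient.mk_surjective
  letI : Algebra B (S ⧸ Q) := (Ideal.quotientMap Q (algebraMap E S) le_rfl).toAlgebra
  haveI : IsScalarTower E B (S ⧸ Q) := IsScalarTower.of_algebraMap_eq (R := E) (S := B) (A := S ⧸ Q) fun e => rfl
  haveI : IsLocalHom (algebraMap B (S ⧸ Q)) := by
    constructor
    intro b hb
    obtain ⟨b, rfl⟩ := Ideal.Quotient.mk_surjective b
    have hb' : IsUnit (Ideal.Quotient.mk Q (algebraMap E S b)) := hb
    exact (isUnit_of_map_unit (algebraMap E S) b (isUnit_of_map_unit _ _ hb')).map _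
  haveI : Hensel.IsStrictHenselization B (S ⧸ Q) := isStrictHenselization_quotient' E S P Q hQ
  let K := FractionRing B
  let Kb := FractionRing (S ⧸ Q)
  let πS : S →+* Kb := (algebraMap (S ⧸ Q) Kb).comp (Ideal.Quotient.mk Q)
  let C := Subfield.closure (Set.range (πS.comp D.val.toRingHom))
  haveI := Hensel.faithfullyFlat_of_isStrictHenselization B (S ⧸ Q)
  haveI : FaithfulSMul B Kb := (faithfulSMul_iff_algebraMap_injective B Kb).2 (by
    rw [IsScalarTower.algebraMap_eq B (S ⧸ Q) Kb]
    exact (IsFractionRing.injective (S ⧸ Q) Kb).comp (FaithfulSMul.algebraMap_injective B (S ⧸ Q)))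
  letI : Algebra K Kb := FractionRing.liftAlgebra B Kb
  haveI : IsScalarTower B K Kb := inferInstance
  obtain ⟨G, hG⟩ := Module.Finite.fg_top (R := A) (M := D)
  let t : Finset Kb := G.image (πS.comp D.val.toRingHom)
  obtain ⟨f', θ', hf', hirr', hsep', hθ', hgen⟩ := exists_root_generating (A := B) (S := S ⧸ Q) K Kb t
  have hKC : ∀ c : K, algebraMap K Kb c ∈ C := fun c => by
    obtain ⟨a, b, -, rfl⟩ := IsFractionRing.div_surjective (A := B) c
    rw [map_div₀, ← IsScalarTower.algebraMap_apply B K Kb, ← IsScalarTower.algebraMap_apply B K Kb]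
    obtain ⟨a, rfl⟩ := Ideal.Quotient.mk_surjective a
    obtain ⟨b, rfl⟩ := Ideal.Quotient.mk_surjective b
    exact C.div_mem (Subfield.subset_closure ⟨⟨_, hED a⟩, rfl⟩) (Subfield.subset_closure ⟨⟨_, hED b⟩, rfl⟩)
  obtain ⟨u, hu⟩ := Ideal.Quotient.mk_surjective θ'
  have huC : algebraMap (S ⧸ Q) Kb (Ideal.Quotient.mk Q u) ∈ C := by
    have hle' : (IntermediateField.adjoin K (t : Set Kb)).toSubfield ≤ C := by
      rw [IntermediateField.adjoin_toSubfield]
      refine Subfield.closure_le.2 (Set.union_subset ?_ ?_)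
      · rintro _ ⟨c, rfl⟩; exact hKC c
      · intro w hw
        obtain ⟨g, hg, rfl⟩ := Finset.mem_image.1 hw
        exact Subfield.subset_closure ⟨g, rfl⟩
    rw [hu]
    exact hle' (hgen.le (IntermediateField.mem_adjoin_simple_self K _))
  obtain ⟨e₂, he₂⟩ := hres u huC
  have hr : residue (S ⧸ Q) θ' = residue (S ⧸ Q)
      ((algebraMap B (⊥ : Subalgebra B (S ⧸ Q)) (Ideal.Quotient.mk P e₂) : (⊥ : Subalgebra B (S ⧸ Q))) : S ⧸ Q) := by
    rw [← hu]
    show residue (S ⧸ Q) (Ideal.Quotient.mk Q u) = residue (S ⧸ Q) (Ideal.Quotient.mk Q (algebraMap E S e₂))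
    rw [← sub_eq_zero, ← map_sub, ← map_sub, residue_eq_zero_iff]
    refine map_nonunit (Ideal.Quotient.mk Q) _ ?_
    rw [← residue_eq_zero_iff, map_sub, sub_eq_zero]
    exact he₂
  have hθ'B : θ' ∈ (⊥ : Subalgebra B (S ⧸ Q)) :=
    mem_of_root_residue (A := B) (S := S ⧸ Q) ⊥ f' hf' hsep' θ' hθ' _ hr
  have hxF : algebraMap (S ⧸ Q) Kb (Ideal.Quotient.mk Q (x : S)) ∈ IntermediateField.adjoin K (t : Set Kb) := by
    have h1 : x ∈ Submodule.span A (G : Set D) := hG ▸ trivial
    induction h1 using Submodule.span_induction with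
    | mem y hy => exact IntermediateField.subset_adjoin K _ (Finset.mem_image_of_mem _ hy)
    | zero => rw [ZeroMemClass.coe_zero, map_zero, map_zero]; exact zero_mem _
    | add y w _ _ hy hw =>
      rw [AddMemClass.coe_add, map_add, map_add]; exact add_mem hy hw
    | smul a y _ hy =>
      rw [SetLike.val_smul, Algebra.smul_def, map_mul, map_mul]
      refine mul_mem ?_ hy
      have : algebraMap (S ⧸ Q) Kb (Ideal.Quotient.mk Q (algebraMap A S a)) =
          algebraMap K Kb (algebraMap B K (Ideal.Quotient.mk P (algebraMap A E a))) := by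
        rw [← IsScalarTower.algebraMap_apply B K Kb, IsScalarTower.algebraMap_apply A E S]; rfl
      rw [this]
      exact IntermediateField.algebraMap_mem _ _
  rw [← hgen] at hxF
  have h2 := mem_adjoin_of_mem_field K Kb f' hf' hirr' hsep' θ' hθ' _ hxF
  have h3 : Ideal.Quotient.mk Q (x : S) ∈ (⊥ : Subalgebra B (S ⧸ Q)) :=
    Algebra.adjoin_le (Set.singleton_subset_iff.2 hθ'B) h2
  obtain ⟨b, hb⟩ := Algebra.mem_bot.1 h3
  obtain ⟨e, rfl⟩ := Ideal.Quotient.mk_surjective b
  exact ⟨e, Ideal.Quotient.eq.1 hb.symm⟩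


/-- A purely inseparable residue extension over the image has trivial separable closure. -/
theorem separableClosure_eq_bot_of_pow_mem {D N : Type*} [CommRing D] [CommRing N] (φ : D →+* N) (M : Ideal N)
    [M.IsMaximal] (h : ∀ x : N ⧸ M, ∃ n : ℕ, x ^ (ringExpChar (N ⧸ M)) ^ n ∈ ((Ideal.Quotient.mk M).comp φ).range) :
    separableClosure (Subfield.closure (Set.range ((algebraMap N M.ResidueField).comp φ))) M.ResidueField = ⊥ := by
  let k₀ := Subfield.closure (Set.range ((algebraMap N M.ResidueField).comp φ))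
  let e' := RingEquiv.ofBijective _ (Ideal.bijective_algebraMap_quotient_residueField M)
  let p := ringExpChar M.ResidueField
  haveI : ExpChar M.ResidueField p := ringExpChar.expChar _
  haveI : ExpChar k₀ p := RingHom.expChar (algebraMap k₀ M.ResidueField) (RingHom.injective _) p
  have hp : ringExpChar (N ⧸ M) = p := by
    haveI : ExpChar (N ⧸ M) p := RingHom.expChar e'.toRingHom e'.injective p
    exact ringExpChar.eq _ p
  haveI : IsPurelyInseparable k₀ M.ResidueField := (isPurelyInseparable_iff_pow_mem k₀ p).2 fun w => by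
    obtain ⟨x, rfl⟩ := e'.surjective w
    obtain ⟨n, d, hd⟩ := h x
    rw [hp] at hd
    refine ⟨n, ⟨_, Subfield.subset_closure ⟨d, rfl⟩⟩, ?_⟩
    rw [← map_pow, ← hd]
    exact IsScalarTower.algebraMap_apply N (N ⧸ M) M.ResidueField (φ d)
  exact separableClosure.eq_bot_of_isPurelyInseparable k₀ M.ResidueField

end Groth.Agent.SHEss
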