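import Groth.Agent.SHEss.Root
import Groth.Agent.SHEss.Contain
import Mathlib.FieldTheory.PrimitiveElement

/-!
# Essentially étale local algebras over henselian local rings inside a strict henselization
-/

set_option autoImplicit false
set_option linter.style.haveILetI false

universe u

open IsLocalRing Polynomial

namespace Groth.Agent.SHEss

variable {A S : Type u} [CommRing A] [HenselianLocalRing A] [IsNoetherianRing A] [CommRing S] [IsLocalRing S]
  [Algebra A S] [IsLocalHom (algebraMap A S)] [Hensel.IsStrictHenselization A S]

/-- An essentially étale local algebra over a Noetherian henselian local ring is finite, hence henselian. -/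
theorem finite_of_essEtale {E : Type u} [CommRing E] [IsLocalRing E] [Algebra A E] [IsLocalHom (algebraMap A E)]
    (hE : EGA4loc.IsEssentiallyEtale A E) (φ : E →ₐ[A] S) : Module.Finite A E := by
  classical
  let k := ResidueField A
  let ks := ResidueField S
  haveI := EtAlg7.formallyUnramified hE
  haveI := EtAlg7.essFiniteType hE
  have hH : Hensel.IsStrictHenselization A S := inferInstance
  haveI := hH.isSepClosure
  haveI hSh : HenselianLocalRing S := hH.henselian
  haveI : Algebra.IsSeparable k ks := IsSepClosure.separable
  haveI : IsLocalHom φ.toRingHom := EtAlg7.isLocalHom_algHom hE φ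
  let ρ : ResidueField E →ₐ[k] ks :=
    { ResidueField.map φ.toRingHom with
      commutes' := fun c => by
        obtain ⟨a, rfl⟩ := residue_surjective c
        exact congrArg (residue S) (φ.commutes a) }
  let l : IntermediateField k ks := ρ.fieldRange
  haveI : Module.Finite k (ResidueField E) := inferInstance
  haveI : FiniteDimensional k l := Module.Finite.equiv (AlgEquiv.ofInjectiveField ρ).toLinearEquiv
  haveI : Algebra.IsSeparable k l := Algebra.isSeparable_tower_bot_of_isSeparable k l ks
  obtain ⟨z, hz⟩ := Field.exists_primitive_element k l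
  have hzsep : IsSeparable k (z : ks) := Algebra.IsSeparable.isSeparable k _
  obtain ⟨f, hfm, -, hf⟩ := lifts_and_natDegree_eq_and_monic
    ((lifts_iff_coeff_lifts (minpoly k (z : ks))).mpr fun n => residue_surjective ((minpoly k (z : ks)).coeff n))
    (minpoly.monic hzsep.isIntegral)
  have hirr : Irreducible (f.map (residue A)) := by rw [hfm]; exact minpoly.irreducible hzsep.isIntegral
  have hsep : (f.map (residue A)).Separable := by rw [hfm]; exact hzsep
  haveI : IsLocalRing (⊤ : Subalgebra A S) := (Subalgebra.topEquiv (R := A) (A := S)).symm.toRingEquiv.isLocalRing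
  haveI : HenselianLocalRing (⊤ : Subalgebra A S) :=
    Hensel.henselianLocalRing_of_ringEquiv (Subalgebra.topEquiv).symm.toRingEquiv
  haveI : IsLocalHom (algebraMap (⊤ : Subalgebra A S) S) :=
    ⟨fun d hd => hd.map (Subalgebra.topEquiv (R := A) (A := S)).symm⟩
  obtain ⟨s₀, hs₀⟩ := residue_surjective (z : ks)
  obtain ⟨θ, -, hθ, hθz⟩ := exists_root (D := (⊤ : Subalgebra A S)) ⟨s₀, trivial⟩ f hf hsep
    (by rw [hfm]; show aeval (residue S s₀) _ = 0; rw [hs₀]; exact minpoly.aeval k _)
  replace hθz : residue S θ = z := hθz.trans hs₀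
  obtain ⟨⟨hloc, hl, hR, hfin⟩, -⟩ := adjoin_root_props f hf hirr hsep θ hθ
  let R := Algebra.adjoin A ({θ} : Set S)
  haveI : Module.Finite A R := hfin
  haveI : HenselianLocalRing R := Hensel.henselianLocalRing_of_isIntegral_local A R
  haveI := hl
  let ρR : ResidueField R →+* ks := ResidueField.map (algebraMap R S)
  have hmem : ∀ w, ρ w ∈ ρR.range := fun w => by
    have hw : (⟨ρ w, w, rfl⟩ : l) ∈ Algebra.adjoin k ({z} : Set l) := by
      rw [← IntermediateField.adjoin_simple_toSubalgebra_of_isAlgebraic (Algebra.IsAlgebraic.isAlgebraic z), hz]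
      trivial
    rw [Algebra.adjoin_singleton_eq_range_aeval] at hw
    obtain ⟨p, hp⟩ := hw
    obtain ⟨p, rfl⟩ := map_surjective (residue A) residue_surjective p
    refine ⟨residue R ⟨aeval θ p, aeval_mem_adjoin_singleton A θ⟩, ?_⟩
    have h1 : aeval (z : ks) (p.map (residue A)) = ρ w :=
      (aeval_algHom_apply l.val z _).trans (congrArg l.val hp)
    rw [← h1, ← hθz]
    show residue S (aeval θ p) = _
    rw [aeval_def, hom_eval₂, aeval_def, eval₂_map]
    rfl
  let eR := RingEquiv.ofBijective ρR.rangeRestrict
    ⟨fun a b h => ρR.injective (congrArg Subtype.val h), ρR.rangeRestrict_surjective⟩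
  let α : ResidueField E →+* ResidueField R := eR.symm.toRingHom.comp (ρ.toRingHom.codRestrict ρR.range hmem)
  have hα : ∀ w, ρR (α w) = ρ w := fun w =>
    congrArg Subtype.val (eR.apply_symm_apply (ρ.toRingHom.codRestrict ρR.range hmem w))
  haveI := EssEtLib.isLocalHom_algebraMap hR
  obtain ⟨ψ, hψ, -⟩ := EtAlg7.existsUnique_algHom hE (B := R) α fun a => ρR.injective (by
    rw [hα]
    exact congrArg (residue S) (φ.commutes a))
  have h := EtAlg7.algHom_ext_residue hE (R.val.comp ψ) φ fun x => by
    show ρR (residue R (ψ x)) = ρ (residue E x)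
    rw [hψ, hα]
  have hinj : Function.Injective φ := injective_algHom hE φ
  exact Module.Finite.of_injective ψ.toLinearMap fun a b hab => hinj (by
    rw [← h]; exact congrArg Subtype.val hab)

/-- Two roots with the same residue of a polynomial with separable reduction coincide. -/
theorem eq_of_residue_eq (f : A[X]) (hsep : (f.map (residue A)).Separable) (θ θ' : S) (hθ : aeval θ f = 0)
    (hθ' : aeval θ' f = 0) (h : residue S θ = residue S θ') : θ = θ' := by
  have h1 : (f.map (algebraMap A S)).IsRoot θ := by rwa [IsRoot, eval_map, ← aeval_def]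
  obtain ⟨g, hg⟩ := dvd_iff_isRoot.2 h1
  have hgu : IsUnit (g.eval θ') := by
    by_contra hn
    have h0 := (residue_eq_zero_iff _).2 hn
    have hd : eval θ (derivative (f.map (algebraMap A S))) = g.eval θ := by
      rw [hg, derivative_mul]
      simp
    have e1 : ∀ p : S[X], residue S (p.eval θ) = residue S (p.eval θ') := fun p => by
      rw [← eval₂_at_apply, ← eval₂_at_apply, h]
    rw [← e1, ← hd, derivative_map, eval_map, ← aeval_def] at h0
    have hev : residue S (aeval θ (derivative f)) = aeval (residue S θ) ((derivative f).map (residue A)) := by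
      rw [aeval_def, hom_eval₂, aeval_def, eval₂_map]
      rfl
    rw [hev, ← derivative_map] at h0
    refine hsep.aeval_derivative_ne_zero ?_ h0
    rw [aeval_def, eval₂_map, show (algebraMap (ResidueField A) (ResidueField S)).comp (residue A) =
      (residue S).comp (algebraMap A S) from rfl, ← hom_eval₂, ← aeval_def, hθ, map_zero]
  have h2 : (θ' - θ) * g.eval θ' = 0 := by
    have := congrArg (eval θ') hg
    rw [eval_map, ← aeval_def, hθ', eval_mul, eval_sub, eval_X, eval_C] at this
    exact this.symm
  exact (sub_eq_zero.1 (hgu.mul_left_eq_zero.1 h2)).symm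

end Groth.Agent.SHEss
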