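import Groth.Agent.EtAlg7.EssEtale
import Groth.Agent.Hensel.HenselizationProps
import Groth.Prelude.Def_Hensel

/-!
# Essentially étale local algebras inside a strict henselization
-/

set_option autoImplicit false
set_option linter.style.haveILetI false

universe u

open IsLocalRing

namespace Groth.Agent.SHEss

variable {A E S : Type u} [CommRing A] [IsLocalRing A] [CommRing E] [IsLocalRing E] [Algebra A E]
  [IsLocalHom (algebraMap A E)] [CommRing S] [IsLocalRing S] [Algebra A S] [IsLocalHom (algebraMap A S)]

/-- A strict henselization of `A` is one of every intermediate essentially étale local algebra. -/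
theorem isStrictHenselization_of_intermediate (h : EGA4loc.IsEssentiallyEtale A E)
    [Hensel.IsStrictHenselization A S] [Algebra E S] [IsScalarTower A E S] [IsLocalHom (algebraMap E S)] :
    Hensel.IsStrictHenselization E S := by
  haveI := EtAlg7.formallyUnramified h
  haveI := EtAlg7.essFiniteType h
  have H : Hensel.IsStrictHenselization A S := inferInstance
  haveI := H.isSepClosure
  refine ⟨H.henselian, ⟨IsSepClosure.sep_closed (ResidueField A), ?_⟩, fun T _ _ f _ τ hτ => ?_⟩
  · haveI : Algebra.IsSeparable (ResidueField A) (ResidueField S) := IsSepClosure.separable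
    exact Algebra.isSeparable_tower_top_of_isSeparable (ResidueField A) (ResidueField E) (ResidueField S)
  · haveI : IsLocalHom (f.comp (algebraMap A E)) := RingHom.isLocalHom_comp f (algebraMap A E)
    have hτ0 : ∀ e : E, τ (residue S (algebraMap E S e)) = residue T (f e) := fun e => by
      have := RingHom.congr_fun hτ (residue E e)
      rwa [RingHom.comp_apply, ResidueField.map_residue, ResidueField.map_residue] at this
    obtain ⟨g, ⟨hg, hgr⟩, huniq⟩ := H.universal T (f.comp (algebraMap A E)) τ (by
      ext x
      obtain ⟨a, rfl⟩ := residue_surjective x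
      rw [RingHom.comp_apply, ResidueField.map_residue, ResidueField.map_residue,
        IsScalarTower.algebraMap_apply A E S, hτ0]
      rfl)
    letI : Algebra A T := (f.comp (algebraMap A E)).toAlgebra
    let f' : E →ₐ[A] T := AlgHom.mk f fun a => rfl
    let g' : E →ₐ[A] T := AlgHom.mk (g.comp (algebraMap E S)) fun a => by
      show g (algebraMap E S (algebraMap A E a)) = f (algebraMap A E a)
      rw [← IsScalarTower.algebraMap_apply A E S]
      exact RingHom.congr_fun hg a
    have he : g' = f' := EtAlg7.algHom_ext_residue h g' f' fun x => by
      show residue T (g (algebraMap E S x)) = residue T (f x)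
      rw [hgr, hτ0]
    refine ⟨g, ⟨congrArg AlgHom.toRingHom he, hgr⟩, fun g₁ hg₁ => huniq g₁ ⟨?_, hg₁.2⟩⟩
    rw [IsScalarTower.algebraMap_eq A E S, ← RingHom.comp_assoc, hg₁.1]

/-- An essentially étale local algebra embeds into a strict henselization of the base. -/
theorem injective_algHom (h : EGA4loc.IsEssentiallyEtale A E) [Hensel.IsStrictHenselization A S]
    (ψ : E →ₐ[A] S) : Function.Injective ψ := by
  letI : Algebra E S := ψ.toRingHom.toAlgebra
  haveI : IsScalarTower A E S := IsScalarTower.of_algebraMap_eq fun a => (ψ.commutes a).symm
  haveI : IsLocalHom (algebraMap E S) := EtAlg7.isLocalHom_algHom h ψ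
  haveI := isStrictHenselization_of_intermediate (S := S) h
  haveI := Hensel.faithfullyFlat_of_isStrictHenselization E S
  exact FaithfulSMul.algebraMap_injective E S

end Groth.Agent.SHEss
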