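import Groth.Agent.EtAlg7.EssEtale
import Mathlib.RingTheory.Etale.StandardEtale

/-!
# Localizations of monogenic algebras at primes where the derivative does not vanish
-/

set_option autoImplicit false
set_option linter.style.haveILetI false

universe u

open IsLocalRing Polynomial

namespace Groth.Agent.SHEss

/-- The localization of `B[X]/f` at a prime over the maximal ideal not containing `f'` is essentially étale. -/
theorem isEssentiallyEtale_adjoinRoot (B : Type u) [CommRing B] [IsLocalRing B] (f : B[X]) (hf : f.Monic)
    (P : Ideal (AdjoinRoot f)) [P.IsPrime] (hP : P.comap (algebraMap B (AdjoinRoot f)) = maximalIdeal B)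
    (hd : AdjoinRoot.mk f (derivative f) ∉ P) : EGA4loc.IsEssentiallyEtale B (Localization.AtPrime P) := by
  let SP : StandardEtalePair B := ⟨f, hf, derivative f, 1, 0, 1, by rw [mul_one, mul_zero, add_zero, pow_one]⟩
  let C := Localization.Away (AdjoinRoot.mk f (derivative f))
  haveI : Algebra.Etale B C := Algebra.Etale.of_equiv SP.equivAwayAdjoinRoot
  let M := Submonoid.powers (AdjoinRoot.mk f (derivative f))
  have hdis : Disjoint (M : Set (AdjoinRoot f)) (P : Set (AdjoinRoot f)) := by
    rw [Set.disjoint_left]
    rintro _ ⟨n, rfl⟩ hn
    exact hd ((inferInstance : P.IsPrime).mem_of_pow_mem n hn)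
  let q : Ideal C := P.map (algebraMap (AdjoinRoot f) C)
  haveI : q.IsPrime := IsLocalization.isPrime_of_isPrime_disjoint M C P inferInstance hdis
  have hqP : q.comap (algebraMap (AdjoinRoot f) C) = P := IsLocalization.comap_map_of_isPrime_disjoint M C inferInstance hdis
  refine ⟨C, inferInstance, inferInstance, q, inferInstance, inferInstance, ?_, ?_⟩
  · rw [IsScalarTower.algebraMap_eq B (AdjoinRoot f) C, ← Ideal.comap_comap, hqP, hP]
  · haveI : IsLocalization.AtPrime (Localization.AtPrime q) (q.comap (algebraMap (AdjoinRoot f) C)) :=
      IsLocalization.isLocalization_atPrime_localization_atPrime M q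
    have hM : (q.comap (algebraMap (AdjoinRoot f) C)).primeCompl = P.primeCompl := by
      ext x
      show x ∉ q.comap (algebraMap (AdjoinRoot f) C) ↔ x ∉ P
      rw [hqP]
    haveI : IsLocalization P.primeCompl (Localization.AtPrime q) := by
      rw [← hM]; assumption
    exact ⟨(IsLocalization.algEquiv P.primeCompl (Localization.AtPrime P) (Localization.AtPrime q)).restrictScalars B⟩

end Groth.Agent.SHEss
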