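import Groth.Agent.SHEss.UnramifiedSub
import Groth.Agent.SHEss.StdEtLoc
import Groth.Agent.SHEss.Basic
import Groth.Agent.EssEtLib.LocalHom

/-!
# Essential finite type of unramified intermediate rings with finitely generated fractions
-/

set_option autoImplicit false
set_option linter.style.haveILetI false
set_option maxHeartbeats 1200000
set_option synthInstance.maxHeartbeats 200000

universe u

open IsLocalRing Polynomial nonZeroDivisors

namespace Groth.Agent.SHEss

/-- An essentially finite type unramified local algebra is generated, up to unit denominators, by a simple root. -/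
theorem exists_simple_root {A E : Type u} [CommRing A] [IsLocalRing A] [CommRing E] [IsLocalRing E] [Algebra A E]
    [IsLocalHom (algebraMap A E)] [Algebra.EssFiniteType A E] [Algebra.FormallyUnramified A E] :
    ∃ (f : A[X]) (θ : E), f.Monic ∧ aeval θ f = 0 ∧ IsUnit (aeval θ (derivative f)) ∧
      ∀ e : E, ∃ p q : A[X], IsUnit (aeval θ q) ∧ e * aeval θ q = aeval θ p := by
  let C := Algebra.EssFiniteType.subalgebra A E
  let Q : Ideal C := (maximalIdeal E).comap (algebraMap C E)
  haveI : IsLocalization.AtPrime E Q := by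
    have : Q.primeCompl = Algebra.EssFiniteType.submonoid A E := by
      ext c
      simp [Q, Algebra.EssFiniteType.submonoid, IsUnit.mem_submonoid_iff, C]
    show IsLocalization Q.primeCompl E
    rw [this]
    infer_instance
  let e : Localization.AtPrime Q ≃ₐ[C] E := IsLocalization.algEquiv Q.primeCompl _ _
  haveI : Algebra.IsUnramifiedAt A Q := Algebra.FormallyUnramified.of_equiv (e.restrictScalars A).symm
  obtain ⟨c₀, hc₀, P, φ, hφ⟩ := Algebra.IsUnramifiedAt.exists_hasStandardEtaleSurjectionOn (R := A) Q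
  let χ : Localization.Away c₀ →ₐ[A] E := IsLocalization.liftAlgHom (M := Submonoid.powers c₀)
    (f := IsScalarTower.toAlgHom A C E) fun y => by
      obtain ⟨n, hn⟩ := y.2
      simp only [← hn, map_pow]
      exact (IsLocalization.map_units E (⟨c₀, hc₀⟩ : Q.primeCompl)).pow n
  have hχ : ∀ c : C, χ (algebraMap C (Localization.Away c₀) c) = algebraMap C E c := fun c =>
    IsLocalization.lift_eq _ c
  let W := Localization.Away (AdjoinRoot.mk P.f P.g)
  let h : W →ₐ[A] E := (χ.comp φ).comp P.equivAwayAdjoinRoot.symm.toAlgHom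
  let h₁ : AdjoinRoot P.f →ₐ[A] E := h.comp (IsScalarTower.toAlgHom A (AdjoinRoot P.f) W)
  let θ : E := h₁ (AdjoinRoot.root P.f)
  have hθ : ∀ p : A[X], h₁ (AdjoinRoot.mk P.f p) = aeval θ p := fun p => by
    rw [← AdjoinRoot.aeval_eq, ← aeval_algHom_apply]
  have hgu : IsUnit (aeval θ P.g) := by
    rw [← hθ]
    exact (IsLocalization.map_units W (⟨AdjoinRoot.mk P.f P.g, Submonoid.mem_powers _⟩ : Submonoid.powers _)).map h
  have hf0 : aeval θ P.f = 0 := by rw [← hθ, AdjoinRoot.mk_self, map_zero]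
  refine ⟨P.f, θ, P.monic_f, hf0, ?_, ?_⟩
  · obtain ⟨p₁, p₂, n, hp⟩ := P.cond
    have := congrArg (aeval θ) hp
    rw [map_add, map_mul, map_mul, hf0, zero_mul, add_zero, map_pow] at this
    exact isUnit_of_mul_isUnit_left (this ▸ hgu.pow n)
  · intro e
    have hrep : ∀ z : W, ∃ (p : A[X]) (n : ℕ), h z * aeval θ (P.g ^ n) = aeval θ p := fun z => by
      obtain ⟨⟨y, ⟨_, n, rfl⟩⟩, hy⟩ := IsLocalization.surj (Submonoid.powers (AdjoinRoot.mk P.f P.g)) z
      obtain ⟨p, rfl⟩ := AdjoinRoot.mk_surjective y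
      refine ⟨p, n, ?_⟩
      rw [← hθ, ← hθ, map_pow]
      show h z * h (algebraMap _ W ((AdjoinRoot.mk P.f) P.g ^ n)) = h (algebraMap _ W _)
      rw [← map_mul]
      exact congrArg h hy
    obtain ⟨c, t, rfl⟩ := IsLocalization.exists_mk'_eq Q.primeCompl e
    obtain ⟨a, ha⟩ := hφ (algebraMap C _ c)
    obtain ⟨b, hb⟩ := hφ (algebraMap C _ t)
    obtain ⟨pa, na, hpa⟩ := hrep (P.equivAwayAdjoinRoot a)
    obtain ⟨pb, nb, hpb⟩ := hrep (P.equivAwayAdjoinRoot b)
    have ea : h (P.equivAwayAdjoinRoot a) = algebraMap C E c := by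
      show χ (φ (P.equivAwayAdjoinRoot.symm (P.equivAwayAdjoinRoot a))) = _
      rw [AlgEquiv.symm_apply_apply]
      exact (congrArg χ ha).trans (hχ c)
    have eb : h (P.equivAwayAdjoinRoot b) = algebraMap C E t := by
      show χ (φ (P.equivAwayAdjoinRoot.symm (P.equivAwayAdjoinRoot b))) = _
      rw [AlgEquiv.symm_apply_apply]
      exact (congrArg χ hb).trans (hχ t)
    rw [ea] at hpa
    rw [eb] at hpb
    refine ⟨pa * P.g ^ nb, P.g ^ na * pb, ?_, ?_⟩
    · rw [map_mul, map_pow, ← hpb]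
      exact (hgu.pow na).mul ((IsLocalization.map_units E t).mul (by rw [map_pow]; exact hgu.pow nb))
    · rw [map_mul, map_mul, ← hpa, ← hpb, ← IsLocalization.mk'_spec E c t]
      ring

variable {A S : Type u} [CommRing A] [IsLocalRing A] [IsNoetherianRing A] [CommRing S] [IsLocalRing S] [Algebra A S]
  [IsLocalHom (algebraMap A S)]

/-- An unramified Noetherian intermediate ring of a strict henselization with finitely generated fractions is
essentially of finite type. -/
theorem essFiniteType_of_unramified [Hensel.IsStrictHenselization A S] (D : Subalgebra A S) [IsLocalRing D]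
    [IsLocalHom (algebraMap D S)] [IsNoetherianRing D] {E : Subalgebra A S} [IsLocalRing E]
    [IsLocalHom (algebraMap E S)] (hE : EGA4loc.IsEssentiallyEtale A E) (hDE : D ≤ E)
    (hfg : ∃ t : Finset (FractionRing D), ∀ x : FractionRing D, ∃ a ∈ A⁰,
      algebraMap A (FractionRing D) a * x ∈ Algebra.adjoin A (t : Set (FractionRing D)))
    (hm : Ideal.map (algebraMap A D) (maximalIdeal A) = maximalIdeal D) : Algebra.EssFiniteType A D := by
  classical
  haveI : IsLocalHom (algebraMap A D) := ⟨fun a ha =>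
    isUnit_of_map_unit (algebraMap A S) a (ha.map (algebraMap D S))⟩
  haveI := isStrictHenselization_of_unramified_sub A D S hm
  haveI := EssEtLib.isLocalHom_algebraMap hE
  haveI := EtAlg7.formallyUnramified hE
  haveI := EtAlg7.essFiniteType hE
  haveI := isStrictHenselization_of_intermediate (S := S) hE
  haveI := Hensel.faithfullyFlat_of_isStrictHenselization A S
  obtain ⟨f, θ, hf, hfθ, hfu, hgen⟩ := exists_simple_root (A := A) (E := E)
  let i : D →ₐ[A] E := Subalgebra.inclusion hDE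
  letI : Algebra D E := i.toRingHom.toAlgebra
  haveI : IsScalarTower A D E := IsScalarTower.of_algebraMap_eq fun a => rfl
  haveI : IsLocalHom (algebraMap D E) := ⟨fun x hx =>
    isUnit_of_map_unit (algebraMap D S) x (hx.map E.val)⟩
  let fD : D[X] := f.map (algebraMap A D)
  have hfD : fD.Monic := hf.map _
  have hπ0 : aeval θ fD = 0 := by rw [aeval_map_algebraMap, hfθ]
  let π : AdjoinRoot fD →ₐ[D] E := AdjoinRoot.liftAlgHom fD (Algebra.ofId D E) θ hπ0
  have hπ : ∀ p, π (AdjoinRoot.mk fD p) = aeval θ p := fun p => AdjoinRoot.liftAlgHom_mk _ _ _ hπ0 p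
  have hπA : ∀ p : A[X], π (AdjoinRoot.mk fD (p.map (algebraMap A D))) = aeval θ p := fun p => by
    rw [hπ, aeval_map_algebraMap]
  let P : Ideal (AdjoinRoot fD) := (maximalIdeal E).comap π
  haveI : P.IsPrime := Ideal.IsPrime.comap _
  have hP : P.comap (algebraMap D (AdjoinRoot fD)) = maximalIdeal D := by
    ext x
    show π (algebraMap D _ x) ∈ maximalIdeal E ↔ _
    rw [AlgHom.commutes, mem_maximalIdeal, mem_maximalIdeal, mem_nonunits_iff, mem_nonunits_iff,
      isUnit_map_iff (algebraMap D E)]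
  have hd : AdjoinRoot.mk fD (derivative fD) ∉ P := fun h => by
    have h' : π (AdjoinRoot.mk fD (derivative fD)) ∈ maximalIdeal E := h
    rw [derivative_map, hπA] at h'
    exact h' hfu
  have hED := isEssentiallyEtale_adjoinRoot D fD hfD P hP hd
  haveI := EssEtLib.isLocalHom_algebraMap hED
  have hu : ∀ y : P.primeCompl, IsUnit (π y) := fun y => by
    by_contra h
    exact y.2 h
  let πP : Localization.AtPrime P →ₐ[D] E := IsLocalization.liftAlgHom (M := P.primeCompl) (f := π) hu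
  have hπPinj : Function.Injective πP := by
    let ψ : Localization.AtPrime P →ₐ[D] S :=
      { toRingHom := E.val.toRingHom.comp πP.toRingHom
        commutes' := fun x => by
          show ((πP (algebraMap D _ x) : E) : S) = (x : S)
          rw [AlgHom.commutes]
          rfl }
    have := injective_algHom hED ψ
    exact fun a b h => this (congrArg E.val h)
  -- a killer of the kernel
  haveI : IsNoetherianRing (AdjoinRoot fD) := inferInstanceAs (IsNoetherianRing (D[X] ⧸ _))
  obtain ⟨J, hJ⟩ := IsNoetherian.noetherian (RingHom.ker π.toRingHom)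
  have hkill : ∀ j : J, ∃ s ∈ P.primeCompl, s * (j : AdjoinRoot fD) = 0 := fun j => by
    have h0 : π (j : AdjoinRoot fD) = 0 := hJ.le (Submodule.subset_span j.2)
    have h1 : algebraMap _ (Localization.AtPrime P) (j : AdjoinRoot fD) = algebraMap _ _ (0 : AdjoinRoot fD) :=
      hπPinj ((IsLocalization.lift_eq _ _).trans (h0.trans (by rw [map_zero, map_zero])))
    obtain ⟨c, hc⟩ := (IsLocalization.eq_iff_exists P.primeCompl _).1 h1
    exact ⟨c, c.2, by rw [hc, mul_zero]⟩
  choose sj hsj hsj0 using hkill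
  let s : AdjoinRoot fD := ∏ j, sj j
  have hsP : s ∈ P.primeCompl := Submonoid.prod_mem _ fun j _ => hsj j
  have hs0 : ∀ w ∈ RingHom.ker π.toRingHom, s * w = 0 := by
    intro w hw
    rw [← hJ] at hw
    induction hw using Submodule.span_induction with
    | mem w hw =>
      have : s = sj ⟨w, hw⟩ * ∏ j ∈ Finset.univ.erase ⟨w, hw⟩, sj j :=
        (Finset.mul_prod_erase _ _ (Finset.mem_univ _)).symm
      rw [this, mul_comm (sj ⟨w, hw⟩), mul_assoc, hsj0, mul_zero]
    | zero => exact mul_zero s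
    | add u v _ _ hu hv => rw [mul_add, hu, hv, add_zero]
    | smul c u _ hu => rw [smul_eq_mul, mul_left_comm, hu, mul_zero]
  obtain ⟨sp, hsp⟩ := AdjoinRoot.mk_surjective s
  -- the finitely generated local subring
  obtain ⟨t, ht⟩ := hfg
  choose nd hnd using fun x : FractionRing D => IsLocalization.surj D⁰ x
  let F : Finset D := sp.coeffs ∪ t.image (fun x => (nd x).1) ∪ t.image (fun x => ((nd x).2 : D))
  let R₀ := Algebra.adjoin A (F : Set D)
  let D₀ : Subalgebra A D :=
    { carrier := {x | ∃ b ∈ R₀, ∃ c ∈ R₀, IsUnit c ∧ x * c = b}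
      mul_mem' := by
        rintro x y ⟨b, hb, c, hc, hu, h⟩ ⟨b', hb', c', hc', hu', h'⟩
        exact ⟨_, R₀.mul_mem hb hb', _, R₀.mul_mem hc hc', hu.mul hu', by rw [← h, ← h']; ring⟩
      add_mem' := by
        rintro x y ⟨b, hb, c, hc, hu, h⟩ ⟨b', hb', c', hc', hu', h'⟩
        exact ⟨_, R₀.add_mem (R₀.mul_mem hb hc') (R₀.mul_mem hb' hc), _, R₀.mul_mem hc hc', hu.mul hu',
          by rw [← h, ← h']; ring⟩
      algebraMap_mem' := fun a => ⟨_, R₀.algebraMap_mem a, 1, R₀.one_mem, isUnit_one, mul_one _⟩ }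
  have hR₀ : R₀ ≤ D₀ := fun b hb => ⟨b, hb, 1, R₀.one_mem, isUnit_one, mul_one _⟩
  have hinv : ∀ x : D₀, IsUnit (x : D) → IsUnit x := by
    rintro ⟨x, b, hb, c, hc, hu, h⟩ hx
    have hbu : IsUnit b := h ▸ hx.mul hu
    have hy : c * ↑hbu.unit⁻¹ ∈ D₀ := ⟨c, hc, b, hb, hbu, by rw [mul_assoc, hbu.val_inv_mul, mul_one]⟩
    refine IsUnit.of_mul_eq_one (⟨_, hy⟩ : D₀) (Subtype.ext ?_)
    show x * (c * ↑hbu.unit⁻¹) = 1
    rw [← mul_assoc, h, hbu.mul_val_inv]
  haveI hlh : IsLocalHom (algebraMap D₀ D) := ⟨fun x hx => hinv x hx⟩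
  haveI : IsLocalRing D₀ := RingHom.domain_isLocalRing (algebraMap D₀ D)
  letI : Algebra R₀ D₀ := (Subalgebra.inclusion hR₀).toRingHom.toAlgebra
  haveI : IsScalarTower A R₀ D₀ := IsScalarTower.of_algebraMap_eq fun a => rfl
  let M : Submonoid R₀ := (IsUnit.submonoid D).comap R₀.val
  haveI : IsLocalization M D₀ :=
    { map_units := fun y => hinv _ y.2
      surj := fun z => by
        obtain ⟨b, hb, c, hc, hu, h⟩ := z.2
        exact ⟨(⟨b, hb⟩, ⟨⟨c, hc⟩, hu⟩), Subtype.ext h⟩
      exists_of_eq := fun {x y} h => ⟨1, by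
        rw [show x = y from Subtype.ext (congrArg (fun z : D₀ => (z : D)) h)]⟩ }
  haveI : Algebra.FiniteType A R₀ := ⟨(Subalgebra.fg_top _).2 ⟨F, rfl⟩⟩
  haveI : Algebra.EssFiniteType R₀ D₀ := Algebra.EssFiniteType.of_isLocalization D₀ M
  haveI : Algebra.EssFiniteType A D₀ := Algebra.EssFiniteType.comp A R₀ D₀
  haveI : IsLocalHom (algebraMap D₀ E) := ⟨fun x hx => hinv x (isUnit_of_map_unit (algebraMap D E) _ hx)⟩
  haveI : IsScalarTower A D₀ E := IsScalarTower.of_algebraMap_eq fun a => rfl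
  -- `E` is flat over it
  haveI : Module.Flat D₀ E := by
    let f₀ : D₀[X] := f.map (algebraMap A D₀)
    have hf₀ : f₀.Monic := hf.map _
    have hmap : f₀.map (algebraMap D₀ D) = fD := by rw [Polynomial.map_map]; rfl
    have hπ₀0 : aeval θ f₀ = 0 := by rw [aeval_map_algebraMap, hfθ]
    let π₀ : AdjoinRoot f₀ →ₐ[D₀] E := AdjoinRoot.liftAlgHom f₀ (Algebra.ofId D₀ E) θ hπ₀0
    have hπ₀ : ∀ p, π₀ (AdjoinRoot.mk f₀ p) = aeval θ p := fun p => AdjoinRoot.liftAlgHom_mk _ _ _ hπ₀0 p
    let P₀ : Ideal (AdjoinRoot f₀) := (maximalIdeal E).comap π₀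
    haveI : P₀.IsPrime := Ideal.IsPrime.comap _
    have hu₀ : ∀ y : P₀.primeCompl, IsUnit (π₀ y) := fun y => by
      by_contra h
      exact y.2 h
    let π₀P : Localization.AtPrime P₀ →ₐ[D₀] E := IsLocalization.liftAlgHom (M := P₀.primeCompl) (f := π₀) hu₀
    have hπ₀P : ∀ x, π₀P (algebraMap _ _ x) = π₀ x := fun x => IsLocalization.lift_eq _ x
    have hsurj : Function.Surjective π₀P := fun e => by
      obtain ⟨p, q, hq, hpq⟩ := hgen e
      have hq' : AdjoinRoot.mk f₀ (q.map (algebraMap A D₀)) ∈ P₀.primeCompl := fun h => by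
        have h' : π₀ (AdjoinRoot.mk f₀ (q.map (algebraMap A D₀))) ∈ maximalIdeal E := h
        rw [hπ₀, aeval_map_algebraMap] at h'
        exact h' hq
      refine ⟨IsLocalization.mk' _ (AdjoinRoot.mk f₀ (p.map (algebraMap A D₀))) ⟨_, hq'⟩, hq.mul_right_cancel ?_⟩
      rw [hpq, ← aeval_map_algebraMap D₀ θ q, ← aeval_map_algebraMap D₀ θ p, ← hπ₀, ← hπ₀, ← hπ₀P, ← map_mul,
        show IsLocalization.mk' (Localization.AtPrime P₀) (AdjoinRoot.mk f₀ (p.map (algebraMap A D₀))) ⟨_, hq'⟩ *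
          algebraMap _ _ (AdjoinRoot.mk f₀ (q.map (algebraMap A D₀))) = _ from IsLocalization.mk'_spec _ _ ⟨_, hq'⟩, hπ₀P]
    have hcomp : ∀ p : D₀[X], aeval θ (p.map (algebraMap D₀ D)) = aeval θ p := fun p => by
      rw [aeval_def, eval₂_map, aeval_def]
      rfl
    have hinj : Function.Injective π₀P := by
      rw [injective_iff_map_eq_zero]
      intro z hz
      obtain ⟨w, y, rfl⟩ := IsLocalization.exists_mk'_eq P₀.primeCompl z
      obtain ⟨p, rfl⟩ := AdjoinRoot.mk_surjective w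
      have hw : π₀ (AdjoinRoot.mk f₀ p) = 0 := by
        rw [← hπ₀P, ← IsLocalization.mk'_spec (Localization.AtPrime P₀) (AdjoinRoot.mk f₀ p) y, map_mul, hz, zero_mul]
      have hker : AdjoinRoot.mk fD (p.map (algebraMap D₀ D)) ∈ RingHom.ker π.toRingHom := by
        show π _ = 0
        rw [hπ, hcomp, ← hπ₀, hw]
      obtain ⟨sp₀, hsp₀⟩ : ∃ sp₀ : D₀[X], sp₀.map (algebraMap D₀ D) = sp := by
        refine (Polynomial.mem_lifts sp).1 ((lifts_iff_coeff_lifts sp).2 fun n => ?_)
        by_cases h0 : sp.coeff n = 0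
        · exact ⟨0, by rw [h0, map_zero]⟩
        · exact ⟨⟨_, hR₀ (Algebra.subset_adjoin (Finset.mem_union_left _ (Finset.mem_union_left _
            (coeff_mem_coeffs h0))))⟩, rfl⟩
      have hsP₀ : AdjoinRoot.mk f₀ sp₀ ∈ P₀.primeCompl := fun h => by
        have h' : π₀ (AdjoinRoot.mk f₀ sp₀) ∈ maximalIdeal E := h
        rw [hπ₀, ← hcomp, hsp₀, ← hπ, hsp] at h'
        exact hsP h'
      refine IsLocalization.mk'_eq_zero_iff _ _ |>.2 ⟨⟨_, hsP₀⟩, ?_⟩
      show AdjoinRoot.mk f₀ sp₀ * AdjoinRoot.mk f₀ p = 0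
      rw [← map_mul, AdjoinRoot.mk_eq_zero]
      refine (Polynomial.map_dvd_map (algebraMap D₀ D) Subtype.val_injective hf₀).1 ?_
      rw [hmap, Polynomial.map_mul, hsp₀, ← AdjoinRoot.mk_eq_zero, map_mul, hsp]
      exact hs0 _ hker
    haveI : Module.Free D₀ (AdjoinRoot f₀) := hf₀.free_adjoinRoot
    haveI : Module.Flat (AdjoinRoot f₀) (Localization.AtPrime P₀) := IsLocalization.flat _ P₀.primeCompl
    haveI : Module.Flat D₀ (Localization.AtPrime P₀) := Module.Flat.trans D₀ (AdjoinRoot f₀) _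
    exact Module.Flat.of_linearEquiv (AlgEquiv.ofBijective π₀P ⟨hinj, hsurj⟩).toLinearEquiv.symm
  haveI : Module.FaithfullyFlat D₀ E := Module.FaithfullyFlat.of_flat_of_isLocalHom
  -- fractions
  let KD := FractionRing D
  have key : ∀ z ∈ Algebra.adjoin A (t : Set KD), ∃ d e : D, d ∈ D⁰ ∧ d ∈ R₀ ∧ e ∈ R₀ ∧
      algebraMap D KD d * z = algebraMap D KD e := by
    intro z hz
    induction hz using Algebra.adjoin_induction with
    | mem z hz =>
      refine ⟨(nd z).2, (nd z).1, (nd z).2.2,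
        Algebra.subset_adjoin (Finset.mem_union_right _ (Finset.mem_image_of_mem _ hz)),
        Algebra.subset_adjoin (Finset.mem_union_left _ (Finset.mem_union_right _ (Finset.mem_image_of_mem _ hz))), ?_⟩
      rw [mul_comm]; exact hnd z
    | algebraMap a =>
      refine ⟨1, algebraMap A D a, one_mem _, R₀.one_mem, R₀.algebraMap_mem a, ?_⟩
      rw [map_one, one_mul, ← IsScalarTower.algebraMap_apply A D KD]
    | add y z _ _ hy hz =>
      obtain ⟨d₁, e₁, h1, h1', h1'', h1e⟩ := hy
      obtain ⟨d₂, e₂, h2, h2', h2'', h2e⟩ := hz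
      refine ⟨d₁ * d₂, e₁ * d₂ + d₁ * e₂, mul_mem h1 h2, R₀.mul_mem h1' h2',
        R₀.add_mem (R₀.mul_mem h1'' h2') (R₀.mul_mem h1' h2''), ?_⟩
      rw [map_add, map_mul, map_mul, map_mul, ← h1e, ← h2e]
      ring
    | mul y z _ _ hy hz =>
      obtain ⟨d₁, e₁, h1, h1', h1'', h1e⟩ := hy
      obtain ⟨d₂, e₂, h2, h2', h2'', h2e⟩ := hz
      refine ⟨d₁ * d₂, e₁ * e₂, mul_mem h1 h2, R₀.mul_mem h1' h2', R₀.mul_mem h1'' h2'', ?_⟩
      rw [map_mul, map_mul, ← h1e, ← h2e]
      ring
  have htop : ∀ x : D, x ∈ D₀ := fun x => by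
    obtain ⟨a, ha, hax⟩ := ht (algebraMap D KD x)
    obtain ⟨d, e, hd, hdR, heR, hde⟩ := key _ hax
    have hA : algebraMap A D a ∈ D⁰ := by
      refine mem_nonZeroDivisors_iff_right.2 fun w hw => Subtype.ext ?_
      have hreg : IsSMulRegular S a := Module.Flat.isSMulRegular_of_nonZeroDivisors ha
      refine hreg ?_
      show a • (w : S) = a • (0 : S)
      rw [smul_zero, Algebra.smul_def, mul_comm]
      exact congrArg Subtype.val hw
    have hx : d * algebraMap A D a * x = e := by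
      apply IsFractionRing.injective D KD
      rw [map_mul, map_mul, mul_assoc, ← IsScalarTower.algebraMap_apply A D KD, hde]
    have hc : d * algebraMap A D a ∈ D₀ := hR₀ (R₀.mul_mem hdR (R₀.algebraMap_mem a))
    have h1 : (⟨e, hR₀ heR⟩ : D₀) ∈ Ideal.span {(⟨_, hc⟩ : D₀)} := by
      rw [← Ideal.comap_map_eq_self_of_faithfullyFlat (B := E) (Ideal.span {(⟨_, hc⟩ : D₀)}), Ideal.mem_comap,
        Ideal.map_span, Set.image_singleton, Ideal.mem_span_singleton']
      exact ⟨algebraMap D E x, by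
        show algebraMap D E x * algebraMap D E (d * algebraMap A D a) = algebraMap D E e
        rw [← map_mul, mul_comm, hx]⟩
    obtain ⟨w, hw⟩ := Ideal.mem_span_singleton'.1 h1
    have hw' : (w : D) * (d * algebraMap A D a) = e := congrArg Subtype.val hw
    have : (w : D) = x := by
      have h2 : ((w : D) - x) * (d * algebraMap A D a) = 0 := by rw [sub_mul, hw', mul_comm x, hx, sub_self]
      exact sub_eq_zero.1 ((mem_nonZeroDivisors_iff_right.1 (mul_mem hd hA)) _ h2)
    exact this ▸ w.2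
  let e : D₀ ≃ₐ[A] D := AlgEquiv.ofBijective D₀.val ⟨Subtype.val_injective, fun x => ⟨⟨x, htop x⟩, rfl⟩⟩
  exact Algebra.EssFiniteType.of_surjective e.toAlgHom e.surjective

end Groth.Agent.SHEss
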