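import Groth.Agent.SHEss.GeomBase
import Groth.Agent.SHEss.Saturate2
import Groth.Agent.CplFib6.Excellent

/-!
# Traces of finitely generated subfields on a branch of a strict henselization
-/

set_option autoImplicit false
set_option linter.style.haveILetI false
set_option maxHeartbeats 1200000
set_option synthInstance.maxHeartbeats 200000

universe u

open IsLocalRing Polynomial nonZeroDivisors

namespace Groth.Agent.SHEss

/-- The trace of a finitely generated subfield on a branch of a strict henselization is a finite unramified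
excellent henselian local algebra with that fraction field. -/
theorem exists_trace (A S : Type u) [CommRing A] [HenselianLocalRing A] (hA : EGA4.IsExcellent A)
    [CommRing S] [IsLocalRing S] [Algebra A S] [IsLocalHom (algebraMap A S)]
    [Hensel.IsStrictHenselization A S] (Q : Ideal S) (hQ : Q ∈ minimalPrimes S) [Q.IsPrime]
    (t : Finset (FractionRing (S ⧸ Q))) :
    ∃ D' : Subalgebra A (S ⧸ Q), (D' : Set (S ⧸ Q)) = (algebraMap (S ⧸ Q) (FractionRing (S ⧸ Q))) ⁻¹'
        (Subfield.closure (Set.range (algebraMap A (FractionRing (S ⧸ Q))) ∪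
          (t : Set (FractionRing (S ⧸ Q)))) : Set (FractionRing (S ⧸ Q))) ∧
      Module.Finite A D' ∧ Algebra.FormallyUnramified A D' ∧ EGA4.IsExcellent D' ∧ ∃ _ : HenselianLocalRing D',
        ∀ l ∈ Subfield.closure (Set.range (algebraMap A (FractionRing (S ⧸ Q))) ∪
            (t : Set (FractionRing (S ⧸ Q)))),
          ∃ a ∈ D', ∃ b ∈ D', algebraMap (S ⧸ Q) (FractionRing (S ⧸ Q)) b ≠ 0 ∧
            l * algebraMap (S ⧸ Q) (FractionRing (S ⧸ Q)) b =
              algebraMap (S ⧸ Q) (FractionRing (S ⧸ Q)) a := by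
  classical
  haveI : IsNoetherianRing A := hA.1
  let Kb := FractionRing (S ⧸ Q)
  obtain ⟨f, θ, hf, hirr, hsep, hθ, hPQ, hθK⟩ := exists_geom_base A S hA Q hQ
  obtain ⟨⟨hEloc, hEl, hE, hEfin⟩, -⟩ := adjoin_root_props f hf hirr hsep θ hθ
  let E := Algebra.adjoin A ({θ} : Set S)
  haveI : Module.Finite A E := hEfin
  haveI := EssEtLib.isLocalHom_algebraMap hE
  haveI := EtAlg7.formallyUnramified hE
  haveI := isStrictHenselization_of_intermediate (S := S) hE
  haveI : HenselianLocalRing E := Hensel.henselianLocalRing_of_isIntegral_local A E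
  let P : Ideal E := Q.comap (algebraMap E S)
  haveI : P.IsPrime := Ideal.IsPrime.comap _
  let B := E ⧸ P
  haveI : HenselianLocalRing B := IsoNatLib.henselianLocalRing_quotient P (Ideal.IsPrime.ne_top inferInstance)
  haveI : IsLocalRing (S ⧸ Q) := .of_surjective' (Ideal.Quotient.mk Q) Ideal.Quotient.mk_surjective
  haveI : IsLocalHom (Ideal.Quotient.mk Q) := .of_surjective _ Ideal.Quotient.mk_surjective
  letI : Algebra B (S ⧸ Q) := (Ideal.quotientMap Q (algebraMap E S) le_rfl).toAlgebra
  haveI : IsScalarTower E B (S ⧸ Q) := IsScalarTower.of_algebraMap_eq (R := E) (S := B) (A := S ⧸ Q) fun e => rfl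
  haveI : IsScalarTower A B (S ⧸ Q) := IsScalarTower.of_algebraMap_eq (R := A) (S := B) (A := S ⧸ Q) fun a => rfl
  haveI : IsLocalHom (algebraMap B (S ⧸ Q)) := by
    constructor
    intro b hb
    obtain ⟨b, rfl⟩ := Ideal.Quotient.mk_surjective b
    have hb' : IsUnit (Ideal.Quotient.mk Q (algebraMap E S b)) := hb
    exact (isUnit_of_map_unit (algebraMap E S) b (isUnit_of_map_unit _ _ hb')).map _
  haveI : Hensel.IsStrictHenselization B (S ⧸ Q) := isStrictHenselization_quotient' E S P Q hPQ
  let K := FractionRing B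
  haveI := Hensel.faithfullyFlat_of_isStrictHenselization B (S ⧸ Q)
  haveI : IsScalarTower A B Kb := IsScalarTower.to₁₂₄ A B (S ⧸ Q) Kb
  haveI : FaithfulSMul B Kb := (faithfulSMul_iff_algebraMap_injective B Kb).2 (by
    rw [IsScalarTower.algebraMap_eq B (S ⧸ Q) Kb]
    exact (IsFractionRing.injective (S ⧸ Q) Kb).comp (FaithfulSMul.algebraMap_injective B (S ⧸ Q)))
  letI : Algebra K Kb := FractionRing.liftAlgebra B Kb
  haveI : IsScalarTower B K Kb := inferInstance
  obtain ⟨f', θ', hf', hirr', hsep', hθ', hgen⟩ := exists_root_generating (A := B) (S := S ⧸ Q) K Kb t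
  obtain ⟨⟨hDloc, hDl, hDet, hDfin⟩, -⟩ := adjoin_root_props f' hf' hirr' hsep' θ' hθ'
  let DB := Algebra.adjoin B ({θ'} : Set (S ⧸ Q))
  haveI : Module.Finite B DB := hDfin
  haveI := EtAlg7.formallyUnramified hDet
  let C := Subfield.closure (Set.range (algebraMap A Kb) ∪ (t : Set Kb))
  have hBC : ∀ b : B, algebraMap B Kb b ∈ C := by
    intro b
    obtain ⟨⟨x, hx⟩, rfl⟩ := Ideal.Quotient.mk_surjective b
    show algebraMap (S ⧸ Q) Kb (Ideal.Quotient.mk Q x) ∈ C
    induction hx using Algebra.adjoin_induction with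
    | mem y hy =>
      obtain rfl : y = θ := hy
      exact Subfield.closure_mono Set.subset_union_left hθK
    | algebraMap a => exact Subfield.subset_closure (Or.inl ⟨a, rfl⟩)
    | add y z _ _ hy hz => rw [map_add, map_add]; exact C.add_mem hy hz
    | mul y z _ _ hy hz => rw [map_mul, map_mul]; exact C.mul_mem hy hz
  have hcl : (IntermediateField.adjoin K (t : Set Kb)).toSubfield = C := by
    rw [IntermediateField.adjoin_toSubfield]
    refine le_antisymm (Subfield.closure_le.2 (Set.union_subset ?_ (fun x hx => Subfield.subset_closure (Or.inr hx))))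
      (Subfield.closure_mono (Set.union_subset_union_left _ ?_))
    · rintro _ ⟨c, rfl⟩
      obtain ⟨a, b, -, rfl⟩ := IsFractionRing.div_surjective (A := B) c
      rw [map_div₀, ← IsScalarTower.algebraMap_apply B K Kb, ← IsScalarTower.algebraMap_apply B K Kb]
      exact C.div_mem (hBC a) (hBC b)
    · rintro _ ⟨a, rfl⟩
      exact ⟨algebraMap B K (algebraMap A B a), by
        rw [← IsScalarTower.algebraMap_apply B K Kb, ← IsScalarTower.algebraMap_apply A B Kb]⟩
  rw [← hgen] at hcl
  have hmem : ∀ x, x ∈ DB ↔ algebraMap (S ⧸ Q) Kb x ∈ C := fun x => by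
    rw [← hcl, IntermediateField.mem_toSubfield]
    refine ⟨fun hx => ?_, mem_adjoin_of_mem_field K Kb f' hf' hirr' hsep' θ' hθ' x⟩
    have hx' : x ∈ Algebra.adjoin B ({θ'} : Set (S ⧸ Q)) := hx
    rw [Algebra.adjoin_singleton_eq_range_aeval] at hx'
    obtain ⟨p, rfl⟩ := hx'
    show algebraMap (S ⧸ Q) Kb (aeval θ' p) ∈ _
    rw [← aeval_algebraMap_apply, ← aeval_map_algebraMap K]
    exact IntermediateField.algebra_adjoin_le_adjoin K _ (aeval_mem_adjoin_singleton K _)
  let D' : Subalgebra A (S ⧸ Q) := DB.restrictScalars A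
  haveI : Module.Finite A B := Module.Finite.of_surjective (Ideal.Quotient.mkₐ A P).toLinearMap Ideal.Quotient.mk_surjective
  let e : DB ≃ₐ[A] D' :=
    { toFun := fun x => ⟨x.1, x.2⟩
      invFun := fun x => ⟨x.1, x.2⟩
      left_inv := fun _ => rfl
      right_inv := fun _ => rfl
      map_mul' := fun _ _ => rfl
      map_add' := fun _ _ => rfl
      commutes' := fun _ => rfl }
  haveI : Module.Finite A DB := Module.Finite.trans B DB
  haveI : Algebra.FormallyUnramified E B := Algebra.FormallyUnramified.quotient P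
  haveI : Algebra.FormallyUnramified A B := Algebra.FormallyUnramified.comp A E B
  haveI : Algebra.FormallyUnramified A DB := Algebra.FormallyUnramified.comp A B DB
  haveI hD'fin : Module.Finite A D' := Module.Finite.equiv e.toLinearEquiv
  haveI : Algebra.FiniteType A D' := Module.Finite.finiteType _
  haveI hloc : IsLocalRing D' := e.toRingEquiv.isLocalRing
  haveI : Algebra.IsIntegral A D' := inferInstance
  refine ⟨D', Set.ext fun x => hmem x, hD'fin, Algebra.FormallyUnramified.of_equiv (R := A) (A := DB) (B := D') e,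
    CplFib6.isExcellent_of_finiteType hA D', Hensel.henselianLocalRing_of_isIntegral_local A D', fun l hl => ?_⟩
  have hl' : l ∈ IntermediateField.adjoin K {algebraMap (S ⧸ Q) Kb θ'} := by
    rw [← IntermediateField.mem_toSubfield, hcl]
    exact hl
  have hint : IsIntegral K (algebraMap (S ⧸ Q) Kb θ') := (finrank_adjoin_root K Kb f' hf' hirr' hsep' θ' hθ').1
  rw [← IntermediateField.mem_toSubalgebra, IntermediateField.adjoin_simple_toSubalgebra_of_isAlgebraic hint.isAlgebraic,
    Algebra.adjoin_singleton_eq_range_aeval] at hl'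
  obtain ⟨p, hp⟩ := hl'
  have hp' : aeval (algebraMap (S ⧸ Q) Kb θ') p = l := hp
  obtain ⟨⟨b, hb⟩, hbp⟩ := IsLocalization.integerNormalization_map_to_map B⁰ p
  refine ⟨aeval θ' (IsLocalization.integerNormalization B⁰ p), aeval_mem_adjoin_singleton B θ',
    algebraMap B (S ⧸ Q) b, DB.algebraMap_mem b, fun h => ?_, ?_⟩
  · rw [← IsScalarTower.algebraMap_apply] at h
    exact nonZeroDivisors.ne_zero hb (FaithfulSMul.algebraMap_injective B Kb (h.trans (map_zero _).symm))
  · rw [← aeval_algebraMap_apply, ← aeval_map_algebraMap K, hbp, ← algebraMap_smul K b p, map_smul, algebraMap_smul,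
      hp', ← IsScalarTower.algebraMap_apply]
    exact (mul_comm _ _).trans (Algebra.smul_def b l).symm

end Groth.Agent.SHEss
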