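import Groth.Agent.S2654
import Groth.Agent.NagataLib.EssField
import Groth.Agent.EtAlg7.EssEtale
import Groth.Agent.EssEtFrac5.Basic
import Groth.Agent.Hensel.EtaleReduced

/-!
# Finiteness of the integral closure in fraction rings of essentially étale algebras
-/

set_option autoImplicit false
set_option linter.style.haveILetI false
set_option synthInstance.maxHeartbeats 200000

universe u

open nonZeroDivisors

namespace Groth.Agent.SHEss

/-- The integral closure of an excellent reduced local ring in the total fraction ring of an essentially étale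
local algebra is finite. -/
theorem finite_integralClosure_essEtale (A E : Type u) [CommRing A] [IsLocalRing A] [IsReduced A]
    (hA : EGA4.IsExcellent A) [CommRing E] [IsLocalRing E] [Algebra A E] [IsLocalHom (algebraMap A E)]
    (hE : EGA4loc.IsEssentiallyEtale A E) : Module.Finite A (integralClosure A (FractionRing E)) := by
  classical
  haveI : IsNoetherianRing A := hA.1
  haveI := EtAlg7.formallyUnramified hE
  haveI := EtAlg7.essFiniteType hE
  haveI : IsNoetherianRing E := Algebra.EssFiniteType.isNoetherianRing A E
  haveI : IsReduced E := by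
    obtain ⟨B₀, _, _, q, _, _, _, hB₀, -, hl⟩ := EtAlg7.exists_presentation hE
    haveI := hB₀
    haveI := Hensel.isReduced_of_etale A B₀
    exact isReduced_localizationPreserves q.primeCompl E inferInstance
  let K := FractionRing E
  haveI : IsArtinianRing K := EssEtFrac5.isArtinianRing_fractionRing (minimalPrimes.finite_of_isNoetherianRing E)
  haveI : IsReduced K := isReduced_localizationPreserves E⁰ _ inferInstance
  haveI : Algebra.EssFiniteType E K := Algebra.EssFiniteType.of_isLocalization K E⁰
  haveI : Algebra.EssFiniteType A K := Algebra.EssFiniteType.comp A E K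
  haveI : Finite (PrimeSpectrum K) := inferInstance
  have hfin : ∀ q : PrimeSpectrum K, Module.Finite A (integralClosure A (K ⧸ q.asIdeal)) := fun q => by
    haveI : q.asIdeal.IsMaximal := IsArtinianRing.isMaximal_of_isPrime q.asIdeal
    letI := Ideal.Quotient.field q.asIdeal
    haveI : Algebra.EssFiniteType A (K ⧸ q.asIdeal) :=
      Algebra.EssFiniteType.of_surjective (Ideal.Quotient.mkₐ A q.asIdeal) Ideal.Quotient.mk_surjective
    exact NagataLib.finite_integralClosure_field (S2654.result A ⟨hA.1, hA.2.2.1, hA.2.2.2⟩) (K ⧸ q.asIdeal)
  haveI := fun q => hfin q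
  let f : integralClosure A K →ₗ[A] ((q : PrimeSpectrum K) → integralClosure A (K ⧸ q.asIdeal)) :=
    LinearMap.pi fun q =>
      (((Ideal.Quotient.mkₐ A q.asIdeal).comp (integralClosure A K).val).codRestrict (integralClosure A (K ⧸ q.asIdeal))
        fun x => x.2.map (Ideal.Quotient.mkₐ A q.asIdeal)).toLinearMap
  refine Module.Finite.of_injective f fun x y hxy => Subtype.ext (sub_eq_zero.1 ?_)
  refine (nilpotent_iff_mem_prime.2 fun J hJ => ?_).eq_zero
  have := congrArg Subtype.val (congrFun hxy ⟨J, hJ⟩)
  exact Ideal.Quotient.eq.1 this

end Groth.Agent.SHEss
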