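import Groth.Agent.SHEss.Saturated
import Groth.Agent.S16448
import Groth.Agent.EssEtFrac5.Basic
import Groth.Agent.Hensel.EtaleReduced

/-!
# Traces of the normalization of an essentially étale algebra on intermediate fraction rings
-/

set_option autoImplicit false
set_option linter.style.haveILetI false
set_option maxHeartbeats 1000000
set_option synthInstance.maxHeartbeats 200000

universe u

open IsLocalRing Polynomial TensorProduct nonZeroDivisors

namespace Groth.Agent.SHEss

/-- An essentially étale local algebra over a normal local domain is a normal domain, faithfully flat over it. -/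
theorem essEtale_normal_props (T E : Type u) [CommRing T] [IsLocalRing T] [IsDomain T] [IsIntegrallyClosed T]
    [CommRing E] [IsLocalRing E] [Algebra T E] [IsLocalHom (algebraMap T E)] (hE : EGA4loc.IsEssentiallyEtale T E) :
    ∃ _ : IsDomain E, IsIntegrallyClosed E ∧ Function.Injective (algebraMap T E) ∧ Module.FaithfullyFlat T E := by
  haveI := EtAlg7.formallyUnramified hE
  haveI := EtAlg7.essFiniteType hE
  let S' := Hensel.StrictHenz T
  haveI : IsLocalHom (algebraMap T S') := inferInstance
  haveI : Algebra.IsSeparable (ResidueField T) (ResidueField E) := inferInstance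
  haveI := (inferInstance : Hensel.IsStrictHenselization T S').isSepClosure
  haveI : IsSepClosed (ResidueField S') := IsSepClosure.sep_closed (ResidueField T)
  haveI : HenselianLocalRing S' := (inferInstance : Hensel.IsStrictHenselization T S').henselian
  let α : ResidueField E →ₐ[ResidueField T] ResidueField S' := IsSepClosed.lift
  obtain ⟨ψ, ⟨hψl, hψc, -⟩, -⟩ := S2781.result T E hE S' (algebraMap T S') α.toRingHom
    (RingHom.ext fun x => α.commutes x)
  let ψ' : E →ₐ[T] S' := { ψ with commutes' := fun t => RingHom.congr_fun hψc t }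
  obtain ⟨_, _⟩ := isDomain_normal_sh T S'
  haveI hdom : IsDomain E := (injective_algHom hE ψ').isDomain ψ'.toRingHom
  letI : Algebra E S' := ψ'.toRingHom.toAlgebra
  haveI : IsScalarTower T E S' := IsScalarTower.of_algebraMap_eq fun a => (ψ'.commutes a).symm
  haveI : IsLocalHom (algebraMap E S') := EtAlg7.isLocalHom_algHom hE ψ'
  haveI := isStrictHenselization_of_intermediate (S := S') hE
  haveI := Hensel.faithfullyFlat_of_isStrictHenselization E S'
  haveI := Hensel.faithfullyFlat_of_isStrictHenselization T S'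
  have hTE : Function.Injective (algebraMap T E) := fun a b h => FaithfulSMul.algebraMap_injective T S' (by
    rw [← ψ'.commutes, ← ψ'.commutes, h])
  refine ⟨hdom, (isIntegrallyClosed_iff (FractionRing E)).2 fun {z} hz => ?_, hTE, ?_⟩
  · obtain ⟨b, c, hc, rfl⟩ := IsFractionRing.div_surjective (A := E) z
    have hc0 : algebraMap E S' c ≠ 0 := fun h => nonZeroDivisors.ne_zero hc
      (FaithfulSMul.algebraMap_injective E S' (h.trans (map_zero _).symm))
    let j : FractionRing E →ₐ[E] FractionRing S' := IsFractionRing.liftAlgHom (g := Algebra.ofId E (FractionRing S'))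
      ((IsFractionRing.injective S' (FractionRing S')).comp (FaithfulSMul.algebraMap_injective E S'))
    obtain ⟨s, hs⟩ := IsIntegrallyClosed.isIntegral_iff.1 ((hz.map j).tower_top (A := S'))
    have hsc : s * algebraMap E S' c = algebraMap E S' b := by
      apply IsFractionRing.injective S' (FractionRing S')
      rw [map_mul, hs, map_div₀, j.commutes, j.commutes]
      exact div_mul_cancel₀ _ (fun h => hc0 (IsFractionRing.injective S' (FractionRing S') (h.trans (map_zero _).symm)))
    have h1 : b ∈ Ideal.span {c} := by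
      rw [← Ideal.comap_map_eq_self_of_faithfullyFlat (B := S') (Ideal.span {c}), Ideal.mem_comap, Ideal.map_span,
        Set.image_singleton, Ideal.mem_span_singleton']
      exact ⟨s, hsc⟩
    obtain ⟨d, hd⟩ := Ideal.mem_span_singleton'.1 h1
    refine ⟨d, ?_⟩
    rw [eq_div_iff (IsFractionRing.to_map_ne_zero_of_mem_nonZeroDivisors hc), ← map_mul, hd]
  · obtain ⟨C, _, _, q, _, _, _, hC, -, hl⟩ := EtAlg7.exists_presentation hE
    haveI := hC
    haveI : Module.Flat C E := IsLocalization.flat E q.primeCompl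
    haveI : Module.Flat T E := Module.Flat.trans T C E
    exact Module.FaithfullyFlat.of_flat_of_isLocalHom

/-- A fraction of a normal local domain integral over an essentially étale algebra lies in the domain. -/
theorem dvd_of_isIntegral_essEtale (A T E F κ : Type u) [CommRing A] [IsLocalRing A] [CommRing T] [IsLocalRing T]
    [IsDomain T] [IsIntegrallyClosed T] [CommRing E] [IsLocalRing E] [Field F] [Field κ] [Algebra A T] [Algebra A E]
    [Algebra A F] [Algebra A κ] (hE : EGA4loc.IsEssentiallyEtale A E) (i : T →ₐ[A] F) (hi : Function.Injective i)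
    (σ : E →ₐ[A] F) (t : T →ₐ[A] κ) (ht : RingHom.ker t = maximalIdeal T) (e : E →ₐ[A] κ)
    (hker : ∀ y : T ⊗[A] E, Algebra.TensorProduct.productMap i σ y = 0 → Algebra.TensorProduct.productMap t e y = 0)
    (a b : T) (ha : a ≠ 0) (p : E[X]) (hp : p.Monic) (hz : eval₂ σ.toRingHom (i b / i a) p = 0) : a ∣ b := by
  letI : Algebra T F := i.toRingHom.toAlgebra
  letI : Algebra T κ := t.toRingHom.toAlgebra
  haveI : IsScalarTower A T F := IsScalarTower.of_algebraMap_eq fun x => (i.commutes x).symm
  haveI : IsScalarTower A T κ := IsScalarTower.of_algebraMap_eq fun x => (t.commutes x).symm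
  obtain ⟨C, _, _, q, _, _, _, hC, hq, hl⟩ := EtAlg7.exists_presentation hE
  haveI := hC
  let g : T ⊗[A] C →ₐ[T] κ := Algebra.TensorProduct.lift (Algebra.ofId T κ)
    (e.comp (IsScalarTower.toAlgHom A C E)) fun _ _ => Commute.all _ _
  let φ : T ⊗[A] C →ₐ[T] F := Algebra.TensorProduct.lift (Algebra.ofId T F)
    (σ.comp (IsScalarTower.toAlgHom A C E)) fun _ _ => Commute.all _ _
  let Q : Ideal (T ⊗[A] C) := RingHom.ker g
  haveI : Q.IsPrime := RingHom.ker_isPrime _
  have hQ : Q.comap (algebraMap T (T ⊗[A] C)) = maximalIdeal T := by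
    rw [← ht]
    ext x
    show g (algebraMap T _ x) = 0 ↔ t x = 0
    rw [AlgHom.commutes]
    rfl
  let E' := Localization.AtPrime Q
  have hE' : EGA4loc.IsEssentiallyEtale T E' :=
    ⟨T ⊗[A] C, inferInstance, inferInstance, Q, inferInstance, inferInstance, hQ, ⟨AlgEquiv.refl⟩⟩
  haveI := EssEtLib.isLocalHom_algebraMap hE'
  obtain ⟨_, hnorm, hTE', hff⟩ := essEtale_normal_props T E' hE'
  haveI := hff
  haveI := hnorm
  haveI := EtAlg7.formallyUnramified hE'
  haveI := EtAlg7.essFiniteType hE'
  have hmap : ∀ y : T ⊗[A] C, φ y = Algebra.TensorProduct.productMap i σ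
      (Algebra.TensorProduct.map (AlgHom.id A T) (IsScalarTower.toAlgHom A C E) y) := fun y => by
    induction y using TensorProduct.induction_on with
    | zero => simp
    | tmul x c => simp [φ, RingHom.algebraMap_toAlgebra]
    | add y z hy hz => rw [map_add, map_add, map_add, hy, hz]
  have hmap' : ∀ y : T ⊗[A] C, g y = Algebra.TensorProduct.productMap t e
      (Algebra.TensorProduct.map (AlgHom.id A T) (IsScalarTower.toAlgHom A C E) y) := fun y => by
    induction y using TensorProduct.induction_on with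
    | zero => simp
    | tmul x c => simp [g, RingHom.algebraMap_toAlgebra]
    | add y z hy hz => rw [map_add, map_add, map_add, hy, hz]
  have hu : ∀ y : Q.primeCompl, IsUnit (φ y) := fun y => isUnit_iff_ne_zero.2 fun h => y.2 (by
    show g (y : T ⊗[A] C) = 0
    rw [hmap']
    exact hker _ ((hmap _).symm.trans h))
  let π : E' →ₐ[T] F := IsLocalization.liftAlgHom (M := Q.primeCompl) (f := φ) hu
  have hπ : ∀ x, π (algebraMap (T ⊗[A] C) E' x) = φ x := fun x => IsLocalization.lift_eq _ x
  have hinjπ : Function.Injective π := by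
    rw [injective_iff_map_eq_zero]
    intro x hx
    by_contra hx0
    obtain ⟨s, hs, z, hsz⟩ := (isAlgebraic_of_unramified T E' hTE' x).exists_nonzero_dvd
      (mem_nonZeroDivisors_of_ne_zero hx0)
    have : algebraMap T F s = 0 := by rw [← π.commutes, hsz, map_mul, hx, zero_mul]
    exact hs (hi (this.trans (map_zero i).symm))
  -- the lift of `E`
  have hq' : ∀ c : q.primeCompl, IsUnit (algebraMap (T ⊗[A] C) E' (1 ⊗ₜ[A] (c : C))) := fun c => by
    refine IsLocalization.map_units E' (⟨_, fun h => ?_⟩ : Q.primeCompl)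
    have h' : g (1 ⊗ₜ[A] (c : C)) = 0 := h
    have h2 : g (1 ⊗ₜ[A] (c : C)) = e (algebraMap C E c) := by simp [g]
    exact ((IsLocalization.map_units E c).map e).ne_zero (h2.symm.trans h')
  let ρ : E →+* E' := IsLocalization.lift (M := q.primeCompl)
    (g := (algebraMap (T ⊗[A] C) E').comp (Algebra.TensorProduct.includeRight (R := A) (A := T) (B := C)).toRingHom) hq'
  have hρ : π.toRingHom.comp ρ = σ.toRingHom := by
    refine IsLocalization.ringHom_ext q.primeCompl (RingHom.ext fun c => ?_)
    show π (ρ (algebraMap C E c)) = σ (algebraMap C E c)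
    rw [show ρ (algebraMap C E c) = algebraMap (T ⊗[A] C) E' (1 ⊗ₜ[A] c) from IsLocalization.lift_eq _ c, hπ]
    simp [φ]
  let L := FractionRing E'
  have ha' : algebraMap T E' a ≠ 0 := fun h => ha (hTE' (h.trans (map_zero _).symm))
  let j : L →+* F := IsFractionRing.lift hinjπ
  have hj : ∀ x, j (algebraMap E' L x) = π x := fun x => IsFractionRing.lift_algebraMap hinjπ x
  let z : L := algebraMap E' L (algebraMap T E' b) / algebraMap E' L (algebraMap T E' a)
  have hzint : IsIntegral E' z := by
    refine ⟨p.map ρ, hp.map ρ, j.injective ?_⟩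
    rw [map_zero, hom_eval₂, eval₂_map]
    refine Eq.trans ?_ hz
    congr 1
    · rw [← hρ]; exact RingHom.ext fun x => hj _
    · rw [map_div₀, hj, hj, π.commutes, π.commutes]
      rfl
  obtain ⟨w, hw⟩ := IsIntegrallyClosed.isIntegral_iff.1 hzint
  have hwb : w * algebraMap T E' a = algebraMap T E' b := by
    apply IsFractionRing.injective E' L
    rw [map_mul, hw]
    exact div_mul_cancel₀ _ fun h => ha' (IsFractionRing.injective E' L (h.trans (map_zero _).symm))
  have h1 : b ∈ Ideal.span {a} := by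
    rw [← Ideal.comap_map_eq_self_of_faithfullyFlat (B := E') (Ideal.span {a}), Ideal.mem_comap, Ideal.map_span,
      Set.image_singleton, Ideal.mem_span_singleton']
    exact ⟨w, hwb⟩
  exact Ideal.mem_span_singleton.1 h1

/-- Localizations of the trace of an integral closure at primes over a field factor are normal domains. -/
theorem normal_localization_trace (A K F : Type u) [CommRing A] [CommRing K] [Field F] [Algebra A K] [Algebra A F]
    (π : K →ₐ[A] F) (L : Subalgebra A K) (η : K) (hηL : η ∈ L) (hη : η * η = η) (hπη : π η = 0)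
    (hker : ∀ l ∈ L, π l = 0 → η * l = l) (hinv : ∀ l ∈ L, π l ≠ 0 → ∃ v ∈ L, π (l * v) = 1)
    (n : Ideal ↥(L ⊓ integralClosure A K)) [n.IsPrime]
    (hn : ∀ z : ↥(L ⊓ integralClosure A K), π (z : K) = 0 → z ∈ n) :
    ∃ i : Localization.AtPrime n →ₐ[A] F, Function.Injective i ∧
      (∀ z : ↥(L ⊓ integralClosure A K), i (algebraMap ↥(L ⊓ integralClosure A K) _ z) = π (z : K)) ∧
      ∃ _ : IsDomain (Localization.AtPrime n), IsIntegrallyClosed (Localization.AtPrime n) := by
  classical
  let B : Subalgebra A K := L ⊓ integralClosure A K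
  let T := Localization.AtPrime n
  have hεint : IsIntegral A (1 - η) := by
    refine ⟨X ^ 2 - X, monic_X_pow_sub (degree_X_le.trans_lt (WithBot.coe_lt_coe.2 one_lt_two)), ?_⟩
    rw [eval₂_sub, eval₂_X_pow, eval₂_X]
    linear_combination hη
  let ε : B := ⟨1 - η, L.sub_mem L.one_mem hηL, hεint⟩
  have hηint : IsIntegral A η := by
    have := (isIntegral_one (R := A) (B := K)).sub hεint
    rwa [sub_sub_cancel] at this
  have hεn : ε ∉ n := fun h => by
    refine (inferInstance : n.IsPrime).ne_top ((Ideal.eq_top_iff_one n).2 ?_)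
    have h2 : (⟨η, hηL, hηint⟩ : B) ∈ n := hn _ hπη
    convert n.add_mem h h2 using 1
    exact Subtype.ext (sub_add_cancel 1 η).symm
  have hu₁ : ∀ s : n.primeCompl, IsUnit ((π.comp B.val) s) := fun s => isUnit_iff_ne_zero.2 fun h => s.2 (hn _ h)
  let i : T →ₐ[A] F := IsLocalization.liftAlgHom (M := n.primeCompl) (f := π.comp B.val) hu₁
  have hi₀ : ∀ z : B, i (algebraMap B T z) = π (z : K) := fun z => IsLocalization.lift_eq _ z
  have hinj : Function.Injective i := by
    rw [injective_iff_map_eq_zero]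
    intro z hz
    obtain ⟨b, s, rfl⟩ := IsLocalization.exists_mk'_eq n.primeCompl z
    refine (IsLocalization.mk'_eq_zero_iff b s).2 ⟨⟨ε, hεn⟩, Subtype.ext ?_⟩
    have hb : π (b : K) = 0 := by rw [← hi₀, ← IsLocalization.mk'_spec T b s, map_mul, hz, zero_mul]
    show (1 - η) * (b : K) = 0
    rw [sub_mul, one_mul, hker _ b.2.1 hb, sub_self]
  haveI hdom : IsDomain T := hinj.isDomain i.toRingHom
  refine ⟨i, hinj, hi₀, hdom, (isIntegrallyClosed_iff (FractionRing T)).2 fun {z} hz => ?_⟩
  let jT : FractionRing T →+* F := IsFractionRing.lift (g := i.toRingHom) hinj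
  have hjT : ∀ x, jT (algebraMap T _ x) = i x := fun x => IsFractionRing.lift_algebraMap (g := i.toRingHom) hinj x
  have hrange : ∀ x : T, ∃ l ∈ L, π l = i x := fun x => by
    obtain ⟨b, s, rfl⟩ := IsLocalization.exists_mk'_eq n.primeCompl x
    obtain ⟨v, hv, h1⟩ := hinv _ (s : B).2.1 (hu₁ s).ne_zero
    refine ⟨(b : K) * v, L.mul_mem b.2.1 hv, ?_⟩
    rw [map_mul, ← hi₀, ← IsLocalization.mk'_spec T b s, map_mul, hi₀, mul_assoc, ← map_mul, h1, mul_one]
  obtain ⟨l, hlL, hl⟩ : ∃ l ∈ L, π l = jT z := by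
    obtain ⟨x, y, hy, rfl⟩ := IsFractionRing.div_surjective (A := T) z
    obtain ⟨lx, hlxL, hlx⟩ := hrange x
    obtain ⟨ly, hlyL, hly⟩ := hrange y
    have hy0 : π ly ≠ 0 := fun h => nonZeroDivisors.ne_zero hy (hinj ((hly.symm.trans h).trans (map_zero i).symm))
    obtain ⟨v, hv, h1⟩ := hinv _ hlyL hy0
    refine ⟨lx * v, L.mul_mem hlxL hv, ?_⟩
    rw [map_div₀, hjT, hjT, ← hlx, ← hly, eq_div_iff hy0, map_mul, mul_assoc, ← map_mul, mul_comm v, h1, mul_one]
  letI : Algebra T F := i.toRingHom.toAlgebra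
  letI : Algebra B F := (π.comp B.val).toRingHom.toAlgebra
  haveI : IsScalarTower B T F := IsScalarTower.of_algebraMap_eq fun z => (hi₀ z).symm
  haveI : IsScalarTower A B F := IsScalarTower.of_algebraMap_eq fun a => ((π.comp B.val).commutes a).symm
  have hzint : IsIntegral T (jT z) := by
    obtain ⟨p, hp, hpz⟩ := hz
    refine ⟨p, hp, ?_⟩
    have h := congrArg jT hpz
    rw [map_zero, hom_eval₂, show jT.comp (algebraMap T (FractionRing T)) = algebraMap T F from
      RingHom.ext hjT] at h
    exact h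
  obtain ⟨⟨s, hs⟩, hsint⟩ := IsIntegral.exists_multiple_integral_of_isLocalization n.primeCompl (jT z) hzint
  haveI : Algebra.IsIntegral A B := ⟨fun w => (isIntegral_algHom_iff B.val Subtype.val_injective).1 w.2.2⟩
  obtain ⟨p, hp, hpz⟩ := isIntegral_trans (R := A) _ hsint
  let w : K := (1 - η) * ((s : K) * l)
  have hwL : w ∈ L := L.mul_mem ε.2.1 (L.mul_mem s.2.1 hlL)
  have hπw : π w = (⟨s, hs⟩ : n.primeCompl) • jT z := by
    rw [Submonoid.smul_def, Algebra.smul_def, ← hl]
    show π ((1 - η) * ((s : K) * l)) = π (s : K) * π l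
    rw [map_mul, map_sub, map_one, hπη, sub_zero, one_mul, map_mul]
  have hwint : IsIntegral A w := by
    have h0 : π (aeval w p) = 0 := by rw [← aeval_algHom_apply, hπw]; exact hpz
    have h1 : aeval w p ∈ L := by
      rw [show aeval w p = L.val (aeval (⟨w, hwL⟩ : L) p) from aeval_algHom_apply L.val (⟨w, hwL⟩ : L) p]
      exact Subtype.prop _
    refine ⟨X * p, monic_X.mul hp, ?_⟩
    rw [← aeval_def, map_mul, aeval_X, ← hker _ h1 h0]
    show ((1 - η) * ((s : K) * l)) * (η * aeval w p) = 0
    linear_combination -((s : K) * l * aeval w p) * hη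
  refine ⟨IsLocalization.mk' T (⟨w, hwL, hwint⟩ : B) ⟨s, hs⟩, jT.injective ?_⟩
  rw [hjT]
  refine (hu₁ ⟨s, hs⟩).mul_right_cancel ?_
  rw [show (π.comp B.val) ((⟨s, hs⟩ : n.primeCompl) : B) = i (algebraMap B T s) from (hi₀ s).symm, ← map_mul,
    show IsLocalization.mk' T (⟨w, hwL, hwint⟩ : B) ⟨s, hs⟩ * algebraMap B T s =
      algebraMap B T (⟨w, hwL, hwint⟩ : B) from IsLocalization.mk'_spec T _ (⟨s, hs⟩ : n.primeCompl),
    hi₀, hi₀, hπw, Submonoid.smul_def, Algebra.smul_def, mul_comm]
  rfl

/-- Kernels of the branch map and of the residue map of a localized trace are compared after clearing denominators. -/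
theorem ker_localized (A B E R F κ : Type u) [CommRing A] [CommRing B] [CommRing E] [CommRing R] [Field F] [Field κ]
    [Algebra A B] [Algebra A E] [Algebra A R] [Algebra A F] [Algebra A κ] (n : Ideal B) [n.IsPrime]
    (i : Localization.AtPrime n →ₐ[A] F) (t : Localization.AtPrime n →ₐ[A] κ) (π : R →ₐ[A] F) (μ : R →ₐ[A] κ)
    (j : B →ₐ[A] R) (ε : E →ₐ[A] R) (hi : ∀ b, i (algebraMap B _ b) = π (j b))
    (ht : ∀ b, t (algebraMap B _ b) = μ (j b)) (hπμ : ∀ z, π z = 0 → μ z = 0)
    (hn : ∀ b : B, b ∉ n → μ (j b) ≠ 0) (y : Localization.AtPrime n ⊗[A] E)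
    (hy : Algebra.TensorProduct.productMap i (π.comp ε) y = 0) :
    Algebra.TensorProduct.productMap t (μ.comp ε) y = 0 := by
  have key : ∀ y : Localization.AtPrime n ⊗[A] E, ∃ s : n.primeCompl, ∃ z : R,
      i (algebraMap B _ (s : B)) * Algebra.TensorProduct.productMap i (π.comp ε) y = π z ∧
      t (algebraMap B _ (s : B)) * Algebra.TensorProduct.productMap t (μ.comp ε) y = μ z := by
    intro y
    induction y using TensorProduct.induction_on with
    | zero => exact ⟨1, 0, by simp, by simp⟩
    | tmul x c =>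
      obtain ⟨b, s, rfl⟩ := IsLocalization.exists_mk'_eq n.primeCompl x
      refine ⟨s, j b * ε c, ?_, ?_⟩
      · rw [Algebra.TensorProduct.productMap_apply_tmul, ← mul_assoc, ← map_mul, IsLocalization.mk'_spec', hi,
          AlgHom.comp_apply, ← map_mul]
      · rw [Algebra.TensorProduct.productMap_apply_tmul, ← mul_assoc, ← map_mul, IsLocalization.mk'_spec', ht,
          AlgHom.comp_apply, ← map_mul]
    | add y y' hy hy' =>
      obtain ⟨s, z, h1, h2⟩ := hy
      obtain ⟨s', z', h1', h2'⟩ := hy'
      refine ⟨s * s', j s' * z + j s * z', ?_, ?_⟩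
      · rw [Submonoid.coe_mul, map_mul, map_mul, map_add, map_add π, map_mul π, map_mul π, ← hi, ← hi, ← h1, ← h1']
        ring
      · rw [Submonoid.coe_mul, map_mul, map_mul, map_add, map_add μ, map_mul μ, map_mul μ, ← ht, ← ht, ← h2, ← h2']
        ring
  obtain ⟨s, z, h1, h2⟩ := key y
  rw [hy, mul_zero] at h1
  rw [hπμ z h1.symm, ht] at h2
  exact (mul_eq_zero.1 h2).resolve_left (hn s s.2)

/-- The multiplier statement for an abstract field factor. -/
theorem exists_integral_multiplier_aux (A E K F : Type u) [CommRing A] [IsLocalRing A] [CommRing E] [IsLocalRing E]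
    [CommRing K] [Field F] [Algebra A E] [Algebra A K] [Algebra A F] (hE : EGA4loc.IsEssentiallyEtale A E)
    (π : K →ₐ[A] F) (L : Subalgebra A K) (η : K) (hηL : η ∈ L) (hη : η * η = η) (hπη : π η = 0)
    (hkerL : ∀ l ∈ L, π l = 0 → η * l = l) (hinvL : ∀ l ∈ L, π l ≠ 0 → ∃ v ∈ L, π (l * v) = 1)
    (E' : Subalgebra A K) (hE' : ∀ z, IsIntegral A z → z ∈ E') (eE : E →ₐ[A] E')
    (M : Ideal E') [M.IsMaximal] (hπM : ∀ z : E', π (z : K) = 0 → z ∈ M)
    (x : K) (hxL : x ∈ L) (a : A) (ha : IsUnit (algebraMap A K a)) (hax : IsIntegral A (algebraMap A K a * x))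
    (p : E[X]) (hp : p.Monic) (hpx : eval₂ (E'.val.comp eE).toRingHom x p = 0) :
    ∃ s ∈ L, IsIntegral A s ∧ (∀ hs : s ∈ E', (⟨s, hs⟩ : E') ∉ M) ∧ IsIntegral A (s * x) := by
  classical
  letI : Field (E' ⧸ M) := Ideal.Quotient.field M
  let B : Subalgebra A K := L ⊓ integralClosure A K
  have hBE : ∀ z : B, (z : K) ∈ E' := fun z => hE' _ z.2.2
  let j : B →ₐ[A] E' := B.val.codRestrict E' hBE
  let n : Ideal B := M.comap j
  haveI : n.IsPrime := Ideal.IsPrime.comap _
  let κm : E' →ₐ[A] E' ⧸ M := Ideal.Quotient.mkₐ A M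
  have hPmem : ∀ z : E', π (z : K) = 0 → z ∈ M := hπM
  let T := Localization.AtPrime n
  obtain ⟨i, hinj, hi₀, _, _⟩ := normal_localization_trace A K F π L η hηL hη hπη hkerL hinvL n
    (fun z hz => hπM (j z) hz)
  have hu₂ : ∀ s : n.primeCompl, IsUnit ((κm.comp j) s) := fun s => isUnit_iff_ne_zero.2 fun h =>
    s.2 (show j (s : B) ∈ M from Ideal.Quotient.eq_zero_iff_mem.1 h)
  let tκ : T →ₐ[A] E' ⧸ M := IsLocalization.liftAlgHom (M := n.primeCompl) (f := κm.comp j) hu₂
  have ht₀ : ∀ z : B, tκ (algebraMap B T z) = κm (j z) := fun z => IsLocalization.lift_eq _ z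
  have htker : RingHom.ker tκ = maximalIdeal T := by
    ext z
    obtain ⟨b, s, rfl⟩ := IsLocalization.exists_mk'_eq n.primeCompl z
    rw [RingHom.mem_ker, IsLocalization.AtPrime.mk'_mem_maximal_iff T n]
    have h : tκ (IsLocalization.mk' T b s) * κm (j s) = κm (j b) := by
      rw [← ht₀, ← ht₀, ← map_mul, IsLocalization.mk'_spec]
    constructor
    · intro h0
      rw [h0, zero_mul] at h
      exact show j b ∈ M from Ideal.Quotient.eq_zero_iff_mem.1 h.symm
    · intro hb
      rw [show κm (j b) = 0 from Ideal.Quotient.eq_zero_iff_mem.2 (show j b ∈ M from hb)] at h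
      exact (mul_eq_zero.1 h).resolve_right (hu₂ s).ne_zero
  let σ : E →ₐ[A] F := (π.comp E'.val).comp eE
  have hker : ∀ y : T ⊗[A] E, Algebra.TensorProduct.productMap i σ y = 0 →
      Algebra.TensorProduct.productMap tκ (κm.comp eE) y = 0 :=
    ker_localized A B E E' (F) (E' ⧸ M) n i tκ (π.comp E'.val) κm j eE hi₀ ht₀
      (fun z hz => (Ideal.Quotient.eq_zero_iff_mem (I := M)).2 (hPmem z hz))
      (fun b hb => (hu₂ ⟨b, hb⟩).ne_zero)
  -- the element
  let bx : B := ⟨algebraMap A K a * x, L.mul_mem (L.algebraMap_mem a) hxL, hax⟩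
  have haF : π (algebraMap A K a) ≠ 0 := (ha.map π).ne_zero
  have ha0 : algebraMap A T a ≠ 0 := fun h => haF (by rw [π.commutes, ← i.commutes, h, map_zero])
  have hdiv := dvd_of_isIntegral_essEtale A T E (F) (E' ⧸ M) hE i hinj σ tκ htker (κm.comp eE) hker
    (algebraMap A T a) (algebraMap B T bx) ha0 p hp (by
      rw [hi₀, i.commutes, ← π.commutes, show π (bx : K) / π (algebraMap A K a) = π x from by
        rw [div_eq_iff haF, ← map_mul, mul_comm]]
      exact (hom_eval₂ p _ π.toRingHom x).symm.trans (by rw [hpx, map_zero]))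
  obtain ⟨c, hc⟩ := hdiv
  obtain ⟨r, s, rfl⟩ := IsLocalization.exists_mk'_eq n.primeCompl c
  have h1 : algebraMap B T (bx * (s : B)) = algebraMap B T (algebraMap A B a * r) := by
    rw [map_mul, map_mul, hc, mul_assoc, IsLocalization.mk'_spec, ← IsScalarTower.algebraMap_apply A B T]
  obtain ⟨s', hs'⟩ := IsLocalization.exists_of_eq (M := n.primeCompl) h1
  refine ⟨(((s' : B) * (s : B) : B) : K), ((s' : B) * (s : B)).2.1, ((s' : B) * (s : B)).2.2, fun hs hmem => ?_, ?_⟩
  · exact (Ideal.IsPrime.mul_notMem inferInstance s'.2 s.2) (show j ((s' : B) * (s : B)) ∈ M from hmem)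
  · have : (((s' : B) * (s : B) : B) : K) * x = ((s' : B) : K) * (r : K) := by
      refine ha.mul_left_cancel ?_
      have h2 : ((s' : B) : K) * ((algebraMap A K a * x) * ((s : B) : K)) =
          ((s' : B) : K) * (algebraMap A K a * (r : K)) := congrArg Subtype.val hs'
      show algebraMap A K a * ((((s' : B) : K) * ((s : B) : K)) * x) = algebraMap A K a * _
      linear_combination h2
    rw [this]
    exact (s' : B).2.2.mul r.2.2


/-- Elements of an intermediate fraction ring integral over an essentially étale algebra are integral over the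
base up to a multiplier outside a given maximal ideal upstairs. -/
theorem exists_integral_multiplier (A E : Type u) [CommRing A] [IsLocalRing A] [IsReduced A] [IsNoetherianRing A]
    [CommRing E] [IsLocalRing E] [Algebra A E] [IsLocalHom (algebraMap A E)]
    (hE : EGA4loc.IsEssentiallyEtale A E) (L : Subalgebra A (FractionRing E))
    (hL : ∀ a ∈ A⁰, ∃ y ∈ L, algebraMap A (FractionRing E) a * y = 1) (x : FractionRing E) (hxL : x ∈ L)
    (hx : IsIntegral E x) (M : Ideal ((integralClosure E (FractionRing E)).restrictScalars A)) [hM : M.IsMaximal] :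
    ∃ s ∈ L, IsIntegral A s ∧ (∀ hs : s ∈ (integralClosure E (FractionRing E)).restrictScalars A, (⟨s, hs⟩ :
      (integralClosure E (FractionRing E)).restrictScalars A) ∉ M) ∧ IsIntegral A (s * x) := by
  classical
  let KE := FractionRing E
  let E' := (integralClosure E KE).restrictScalars A
  have hmin : (minimalPrimes A).Finite := minimalPrimes.finite_of_isNoetherianRing A
  obtain ⟨hloc, t, ht⟩ := S16448.result A E hmin hE
  haveI := EssEtFrac5.isArtinianRing_fractionRing hmin
  haveI := EtAlg7.formallyUnramified hE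
  haveI := EtAlg7.essFiniteType hE
  haveI : IsNoetherianRing E := Algebra.EssFiniteType.isNoetherianRing A E
  haveI : IsReduced E := by
    obtain ⟨B₀, _, _, q, _, _, _, hB₀, -, hl⟩ := EtAlg7.exists_presentation hE
    haveI := hB₀
    haveI := Hensel.isReduced_of_etale A B₀
    exact isReduced_localizationPreserves q.primeCompl E inferInstance
  haveI : IsArtinianRing KE := EssEtFrac5.isArtinianRing_fractionRing (minimalPrimes.finite_of_isNoetherianRing E)
  haveI : IsReduced KE := isReduced_localizationPreserves E⁰ _ inferInstance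
  have hu : ∀ a : A⁰, IsUnit (algebraMap A KE a) := fun a => by
    obtain ⟨y, -, hy⟩ := hL a a.2
    exact IsUnit.of_mul_eq_one _ hy
  -- `L` is Artinian
  let K := FractionRing A
  let g : K →ₐ[A] KE := IsLocalization.liftAlgHom (M := A⁰) (f := Algebra.ofId A KE) hu
  letI : Algebra K KE := g.toRingHom.toAlgebra
  haveI : IsScalarTower A K KE := IsScalarTower.of_algebraMap_eq fun a => (g.commutes a).symm
  haveI : Module.Finite K KE := ⟨⟨t, eq_top_iff.2 fun x _ => by
    obtain ⟨a, ha, hx⟩ := ht x
    have h1 : algebraMap A KE a * x ∈ Submodule.span K (t : Set KE) := Submodule.span_le_restrictScalars A K _ hx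
    have h2 := Submodule.smul_mem _ (IsLocalization.mk' K (1 : A) ⟨a, ha⟩) h1
    rwa [Algebra.smul_def, ← mul_assoc, IsScalarTower.algebraMap_apply A K KE, ← map_mul,
      IsLocalization.mk'_spec, map_one, map_one, one_mul] at h2⟩⟩
  have hK : ∀ c : K, algebraMap K KE c ∈ L := fun c => by
    obtain ⟨r, a, rfl⟩ := IsLocalization.exists_mk'_eq A⁰ c
    obtain ⟨y, hy, hy'⟩ := hL a a.2
    have : algebraMap K KE (IsLocalization.mk' K r a) = algebraMap A KE r * y := by
      refine (hu a).mul_right_cancel ?_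
      rw [IsScalarTower.algebraMap_apply A K KE (a : A), ← map_mul, IsLocalization.mk'_spec,
        ← IsScalarTower.algebraMap_apply A K KE, ← IsScalarTower.algebraMap_apply A K KE, mul_assoc, mul_comm y, hy', mul_one]
    rw [this]
    exact L.mul_mem (L.algebraMap_mem r) hy
  letI : Algebra K L := ((algebraMap K KE).codRestrict L.toSubring hK).toAlgebra
  haveI : Module.Finite K L := by
    let ι : L →ₗ[K] KE :=
      { toFun := fun z => z.1
        map_add' := fun _ _ => rfl
        map_smul' := fun _ _ => rfl }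
    exact Module.Finite.of_injective ι Subtype.val_injective
  haveI : IsArtinianRing L := IsArtinianRing.of_finite K L
  haveI : IsReduced L := isReduced_of_injective L.val Subtype.val_injective
  haveI : Algebra.IsIntegral K KE := Algebra.IsIntegral.of_finite K KE
  obtain ⟨⟨a, ha⟩, hax⟩ := IsIntegral.exists_multiple_integral_of_isLocalization A⁰ (Rₘ := K) x
    (Algebra.IsIntegral.isIntegral x)
  rw [Submonoid.smul_def, Algebra.smul_def] at hax
  -- the branch
  obtain ⟨P, hP, hPM⟩ := Ideal.exists_minimalPrimes_le (I := (⊥ : Ideal E')) (J := M) bot_le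
  obtain ⟨q, hq, hqP⟩ := Ideal.exists_comap_eq_of_mem_minimalPrimes_of_injective (f := E'.val.toRingHom)
    Subtype.val_injective P hP
  haveI := hq
  haveI : q.IsMaximal := IsArtinianRing.isMaximal_of_isPrime q
  letI : Field (KE ⧸ q) := Ideal.Quotient.field q
  let qL : Ideal L := q.comap L.val
  haveI : qL.IsPrime := Ideal.IsPrime.comap _
  haveI : qL.IsMaximal := IsArtinianRing.isMaximal_of_isPrime qL
  obtain ⟨η, hη, hηI⟩ := (Ideal.isIdempotentElem_iff_of_fg qL (IsNoetherian.noetherian _)).1
    (le_antisymm Ideal.mul_le_right fun x hx => by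
      obtain ⟨n, y, hy⟩ := IsArtinian.exists_pow_succ_smul_dvd x (1 : L)
      simp only [smul_eq_mul, mul_one] at hy
      have hv : x = y * (x * x) := sub_eq_zero.1 (IsNilpotent.eq_zero ⟨n + 1, by
        calc (x - y * (x * x)) ^ (n + 1) = (x ^ n - x ^ (n + 1) * y) * x * (1 - y * x) ^ n := by
              rw [show x - y * (x * x) = x * (1 - y * x) by ring, mul_pow]; ring
          _ = 0 := by rw [← hy, sub_self, zero_mul, zero_mul]⟩)
      rw [hv, ← mul_assoc]
      exact Ideal.mul_mem_mul (Ideal.mul_mem_left _ y hx) hx)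
  have hηq : η ∈ qL := hηI.ge (Submodule.mem_span_singleton_self η)
  obtain ⟨p, hp, hpx⟩ := hx
  refine exists_integral_multiplier_aux A E KE (KE ⧸ q) hE (Ideal.Quotient.mkₐ A q) L η η.2 (congrArg Subtype.val hη)
    (Ideal.Quotient.eq_zero_iff_mem.2 hηq)
    (fun l hl h => ?_) (fun l hl h => ?_) E' (fun z hz => hz.tower_top)
    ((IsScalarTower.toAlgHom A E KE).codRestrict E' fun z => isIntegral_algebraMap) M
    (fun z hz => hPM (hqP.le (show (z : KE) ∈ q from Ideal.Quotient.eq_zero_iff_mem.1 hz)))
    x hxL a (hu ⟨a, ha⟩) hax p hp hpx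
  · obtain ⟨c, hc⟩ := Ideal.mem_span_singleton'.1
      (hηI.le (show (⟨l, hl⟩ : L) ∈ qL from (Ideal.Quotient.eq_zero_iff_mem (I := q)).1 h))
    have h1 : (c : KE) * (η : KE) = l := congrArg Subtype.val hc
    have h2 : (η : KE) * (η : KE) = (η : KE) := congrArg Subtype.val hη
    rw [← h1]
    linear_combination (c : KE) * h2
  · letI := Ideal.Quotient.field qL
    have h0 : Ideal.Quotient.mk qL ⟨l, hl⟩ ≠ 0 := fun h' =>
      h ((Ideal.Quotient.eq_zero_iff_mem (I := q)).2 (show (⟨l, hl⟩ : L) ∈ qL from Ideal.Quotient.eq_zero_iff_mem.1 h'))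
    obtain ⟨v, hv⟩ := Ideal.Quotient.mk_surjective ((Ideal.Quotient.mk qL ⟨l, hl⟩)⁻¹)
    refine ⟨v, v.2, ?_⟩
    rw [← map_one (Ideal.Quotient.mkₐ A q)]
    refine Ideal.Quotient.eq.2 ?_
    have : Ideal.Quotient.mk qL (⟨l, hl⟩ * v) = Ideal.Quotient.mk qL 1 := by
      rw [map_mul, hv, mul_inv_cancel₀ h0, map_one]
    exact show l * (v : KE) - 1 ∈ q from (Ideal.Quotient.eq.1 this : (⟨l, hl⟩ * v - 1 : L) ∈ qL)

end Groth.Agent.SHEss
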