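import Groth.Agent.SHEss.Basic
import Mathlib.RingTheory.QuasiFinite.Basic

/-!
# Descent of essential finite type from a semilocal integral extension
-/

set_option autoImplicit false
set_option linter.style.haveILetI false
set_option maxHeartbeats 1000000
set_option synthInstance.maxHeartbeats 200000

universe u

open IsLocalRing

namespace Groth.Agent.SHEss

section Closure

variable {A D : Type u} [CommRing A] [CommRing D] [IsLocalRing D] [Algebra A D]

/-- A finite set lies in an essentially finite type local subalgebra with local inclusion. -/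
theorem exists_essFiniteType_local (F : Finset D) :
    ∃ D₀ : Subalgebra A D, (F : Set D) ⊆ D₀ ∧ ∃ _ : IsLocalRing D₀, IsLocalHom (algebraMap D₀ D) ∧
      Algebra.EssFiniteType A D₀ ∧
      ∀ D₁ : Subalgebra A D, (F : Set D) ⊆ D₁ → IsLocalHom (algebraMap D₁ D) → D₀ ≤ D₁ := by
  classical
  let R₀ := Algebra.adjoin A (F : Set D)
  let D₀ : Subalgebra A D :=
    { carrier := {x | ∃ b ∈ R₀, ∃ c ∈ R₀, IsUnit c ∧ x * c = b}
      mul_mem' := by
        rintro x y ⟨b, hb, c, hc, hu, h⟩ ⟨b', hb', c', hc', hu', h'⟩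
        exact ⟨_, R₀.mul_mem hb hb', _, R₀.mul_mem hc hc', hu.mul hu', by rw [← h, ← h']; ring⟩
      add_mem' := by
        rintro x y ⟨b, hb, c, hc, hu, h⟩ ⟨b', hb', c', hc', hu', h'⟩
        exact ⟨_, R₀.add_mem (R₀.mul_mem hb hc') (R₀.mul_mem hb' hc), _, R₀.mul_mem hc hc', hu.mul hu',
          by rw [← h, ← h']; ring⟩
      algebraMap_mem' := fun a => ⟨_, R₀.algebraMap_mem a, 1, R₀.one_mem, isUnit_one, mul_one _⟩ }
  have hR₀ : R₀ ≤ D₀ := fun b hb => ⟨b, hb, 1, R₀.one_mem, isUnit_one, mul_one _⟩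
  have hinv : ∀ x : D₀, IsUnit (x : D) → IsUnit x := by
    rintro ⟨x, b, hb, c, hc, hu, h⟩ hx
    have hbu : IsUnit b := h ▸ hx.mul hu
    have hy : c * ↑hbu.unit⁻¹ ∈ D₀ := ⟨c, hc, b, hb, hbu, by rw [mul_assoc, hbu.val_inv_mul, mul_one]⟩
    refine IsUnit.of_mul_eq_one (⟨_, hy⟩ : D₀) (Subtype.ext ?_)
    show x * (c * ↑hbu.unit⁻¹) = 1
    rw [← mul_assoc, h, hbu.mul_val_inv]
  haveI hlh : IsLocalHom (algebraMap D₀ D) := ⟨fun x hx => hinv x hx⟩
  refine ⟨D₀, fun x hx => hR₀ (Algebra.subset_adjoin hx), RingHom.domain_isLocalRing (algebraMap D₀ D), hlh,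
    ?_, fun D₁ hF₁ hl₁ => ?_⟩
  rotate_left
  · rintro x ⟨b, hb, c, hc, hu, h⟩
    have hle : R₀ ≤ D₁ := Algebra.adjoin_le hF₁
    obtain ⟨v, hv⟩ := (hl₁.map_nonunit (⟨c, hle hc⟩ : D₁) hu).exists_right_inv
    have hv' : c * (v : D) = 1 := congrArg Subtype.val hv
    have : x = b * (v : D) := by rw [← h, mul_assoc, hv', mul_one]
    exact this ▸ D₁.mul_mem (hle hb) v.2
  letI : Algebra R₀ D₀ := (Subalgebra.inclusion hR₀).toRingHom.toAlgebra
  haveI : IsScalarTower A R₀ D₀ := IsScalarTower.of_algebraMap_eq fun a => rfl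
  let M : Submonoid R₀ := (IsUnit.submonoid D).comap R₀.val
  haveI : IsLocalization M D₀ :=
    { map_units := fun y => hinv _ y.2
      surj := fun z => by
        obtain ⟨b, hb, c, hc, hu, h⟩ := z.2
        exact ⟨(⟨b, hb⟩, ⟨⟨c, hc⟩, hu⟩), Subtype.ext h⟩
      exists_of_eq := fun {x y} h => ⟨1, by
        rw [show x = y from Subtype.ext (congrArg (fun z : D₀ => (z : D)) h)]⟩ }
  haveI : Algebra.FiniteType A R₀ := ⟨(Subalgebra.fg_top _).2 ⟨F, rfl⟩⟩
  haveI : Algebra.EssFiniteType R₀ D₀ := Algebra.EssFiniteType.of_isLocalization D₀ M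
  exact Algebra.EssFiniteType.comp A R₀ D₀

end Closure

/-- An element of a generated subalgebra only needs finitely many generators of the variable part. -/
theorem exists_finset_mem_adjoin {A D D' : Type u} [CommRing A] [CommRing D] [CommRing D'] [Algebra A D']
    (ι : D → D') (G : Set D') (v : D') (hv : v ∈ Algebra.adjoin A (Set.range ι ∪ G)) :
    ∃ F : Finset D, v ∈ Algebra.adjoin A (ι '' (F : Set D) ∪ G) := by
  classical
  induction hv using Algebra.adjoin_induction with
  | mem v hv =>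
    rcases hv with ⟨d, rfl⟩ | hv
    · exact ⟨{d}, Algebra.subset_adjoin (Or.inl ⟨d, Finset.mem_singleton_self d, rfl⟩)⟩
    · exact ⟨∅, Algebra.subset_adjoin (Or.inr hv)⟩
  | algebraMap r => exact ⟨∅, Subalgebra.algebraMap_mem _ r⟩
  | add x y _ _ hx hy =>
    obtain ⟨F, hx⟩ := hx
    obtain ⟨F', hy⟩ := hy
    exact ⟨F ∪ F', add_mem
      (Algebra.adjoin_mono (Set.union_subset_union_left _ (Set.image_mono (Finset.coe_subset.2 Finset.subset_union_left))) hx)
      (Algebra.adjoin_mono (Set.union_subset_union_left _ (Set.image_mono (Finset.coe_subset.2 Finset.subset_union_right))) hy)⟩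
  | mul x y _ _ hx hy =>
    obtain ⟨F, hx⟩ := hx
    obtain ⟨F', hy⟩ := hy
    exact ⟨F ∪ F', mul_mem
      (Algebra.adjoin_mono (Set.union_subset_union_left _ (Set.image_mono (Finset.coe_subset.2 Finset.subset_union_left))) hx)
      (Algebra.adjoin_mono (Set.union_subset_union_left _ (Set.image_mono (Finset.coe_subset.2 Finset.subset_union_right))) hy)⟩

/-- A local subalgebra of a semilocal integral extension which is a localization of a finite base algebra at units
is essentially of finite type. -/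
theorem essFiniteType_of_semilocal (A D D' : Type u) [CommRing A] [IsNoetherianRing A] [IsLocalRing A] [CommRing D]
    [IsLocalRing D] [CommRing D'] [Algebra A D] [IsLocalHom (algebraMap A D)] [Algebra A D'] [Algebra D D'] [IsScalarTower A D D']
    [Algebra.IsIntegral D D'] (hinj : Function.Injective (algebraMap D D'))
    (B : Subalgebra A D') [Module.Finite A B] (hfin : {N : Ideal D' | N.IsMaximal}.Finite)
    (hfrac : ∀ x : D', ∃ s ∈ B, IsUnit s ∧ s * x ∈ B) : Algebra.EssFiniteType A D := by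
  classical
  haveI : Nontrivial D' := hinj.nontrivial
  haveI := hfin.to_subtype
  haveI := Fintype.ofFinite {N : Ideal D' | N.IsMaximal}
  obtain ⟨G₀, hG₀⟩ := Module.Finite.fg_top (R := A) (M := B)
  let G : Finset D' := G₀.image Subtype.val
  have hBG : ∀ b ∈ B, b ∈ Submodule.span A (G : Set D') := fun b hb => by
    have h : (⟨b, hb⟩ : B) ∈ Submodule.span A (G₀ : Set B) := hG₀ ▸ trivial
    have h' := Submodule.apply_mem_span_image_of_mem_span B.val.toLinearMap h
    rw [Finset.coe_image]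
    exact h'
  let ι := algebraMap D D'
  -- `D'` is generated by `B` over `D`
  let W := Algebra.adjoin D (G : Set D')
  have hBW : ∀ b ∈ B, b ∈ W := fun b hb =>
    (Submodule.span_le (p := (Subalgebra.toSubmodule W).restrictScalars A)).2
      (fun g hg => Algebra.subset_adjoin hg) (hBG b hb)
  haveI : Algebra.IsIntegral W D' := Algebra.IsIntegral.tower_top (R := D)
  have hlW : ∀ w : W, IsUnit (w : D') → IsUnit w := fun w hw =>
    ((show (algebraMap W D').IsIntegral from fun z => Algebra.IsIntegral.isIntegral z).isLocalHom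
      Subtype.val_injective).map_nonunit w hw
  have htopW : ∀ x : D', x ∈ W := fun x => by
    obtain ⟨s, hs, hu, hsx⟩ := hfrac x
    obtain ⟨v, hv⟩ := (hlW ⟨s, hBW s hs⟩ hu).exists_left_inv
    have h1 : (v : D') * s = 1 := congrArg Subtype.val hv
    have h2 : x = (v : D') * (s * x) := by rw [← mul_assoc, h1, one_mul]
    exact h2 ▸ W.mul_mem v.2 (hBW _ hsx)
  have htop : ∀ x : D', x ∈ Algebra.adjoin A (Set.range ι ∪ (G : Set D')) := fun x => by
    have h := htopW x
    induction h using Algebra.adjoin_induction with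
    | mem z hz => exact Algebra.subset_adjoin (Or.inr hz)
    | algebraMap d => exact Algebra.subset_adjoin (Or.inl ⟨d, rfl⟩)
    | add y z _ _ hy hz => exact add_mem hy hz
    | mul y z _ _ hy hz => exact mul_mem hy hz
  -- the residue field is finite over the base
  obtain ⟨N₀, hN₀⟩ := Ideal.exists_maximal D'
  haveI := hN₀
  let κ := D' ⧸ N₀
  letI : Field κ := Ideal.Quotient.field N₀
  let μ : D' →ₐ[A] κ := Ideal.Quotient.mkₐ A N₀
  haveI : Module.Finite A κ := by
    let Bκ := (μ.comp B.val).range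
    haveI : Module.Finite A Bκ := Module.Finite.of_surjective (μ.comp B.val).rangeRestrict.toLinearMap
      (AlgHom.rangeRestrict_surjective _)
    haveI : Algebra.IsIntegral A Bκ := Algebra.IsIntegral.of_finite A Bκ
    refine Module.Finite.of_surjective Bκ.val.toLinearMap fun x => ?_
    obtain ⟨x, rfl⟩ := Ideal.Quotient.mk_surjective x
    obtain ⟨s, hs, hu, hsx⟩ := hfrac x
    have hs0 : μ s ≠ 0 := (hu.map μ).ne_zero
    have hsB : μ s ∈ Bκ := ⟨⟨s, hs⟩, rfl⟩
    have hinv : (μ s)⁻¹ ∈ Bκ := by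
      haveI : Algebra.IsIntegral A B := Algebra.IsIntegral.of_finite A B
      let nB : Ideal B := N₀.comap B.val
      haveI : nB.IsPrime := Ideal.comap_isPrime _ _
      haveI : nB.IsMaximal := by
        refine Ideal.isMaximal_of_isIntegral_of_isMaximal_comap (R := A) nB ?_
        have h : nB.comap (algebraMap A B) = ((N₀.comap ι).comap (algebraMap A D)) := by
          ext a
          show algebraMap A D' a ∈ N₀ ↔ ι (algebraMap A D a) ∈ N₀
          rw [← IsScalarTower.algebraMap_apply A D D']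
        rw [h, IsLocalRing.eq_maximalIdeal (Ideal.isMaximal_comap_of_isIntegral_of_isMaximal (R := D) N₀)]
        rw [show (maximalIdeal D).comap (algebraMap A D) = maximalIdeal A from
          ((local_hom_TFAE (algebraMap A D)).out 0 4).1 ‹_›]
        infer_instance
      obtain ⟨t, i, hi, hti⟩ := Ideal.IsMaximal.exists_inv ‹nB.IsMaximal› (x := (⟨s, hs⟩ : B))
        (fun h => hs0 (Ideal.Quotient.eq_zero_iff_mem.2 h))
      have h1 : μ (t : D') * μ s = 1 := by
        have h := congrArg (fun z : B => μ (z : D')) hti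
        have h2 : μ (i : D') = 0 := Ideal.Quotient.eq_zero_iff_mem.2 hi
        rw [show (((t * (⟨s, hs⟩ : B) + i : B)) : D') = (t : D') * s + (i : D') from rfl, map_add, map_mul, h2,
          add_zero, OneMemClass.coe_one, map_one] at h
        exact h
      exact (eq_inv_of_mul_eq_one_left h1) ▸ ⟨t, rfl⟩
    refine ⟨⟨(μ s)⁻¹ * μ (s * x), Bκ.mul_mem hinv ⟨⟨_, hsx⟩, rfl⟩⟩, ?_⟩
    show (μ s)⁻¹ * μ (s * x) = μ x
    rw [map_mul, ← mul_assoc, inv_mul_cancel₀ hs0, one_mul]
  have hD : ∀ d : D, d ∈ maximalIdeal D ↔ μ (ι d) = 0 := fun d => by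
    have h : N₀.comap ι = maximalIdeal D :=
      IsLocalRing.eq_maximalIdeal (Ideal.isMaximal_comap_of_isIntegral_of_isMaximal N₀)
    rw [← h, Ideal.mem_comap]
    exact (Ideal.Quotient.eq_zero_iff_mem).symm
  let ρ : ResidueField D →ₗ[A] κ :=
    (Submodule.liftQ ((maximalIdeal D).restrictScalars A) (μ.comp (IsScalarTower.toAlgHom A D D')).toLinearMap
      fun d hd => (hD d).1 hd)
  haveI : Module.Finite A (ResidueField D) := Module.Finite.of_injective ρ (by
    rw [injective_iff_map_eq_zero]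
    intro z hz
    obtain ⟨d, rfl⟩ := residue_surjective z
    exact (residue_eq_zero_iff d).2 ((hD d).2 hz))
  obtain ⟨P₀, hP₀⟩ := Module.Finite.fg_top (R := A) (M := ResidueField D)
  choose lift hlift using fun z : ResidueField D => residue_surjective (R := D) z
  obtain ⟨D₀, hF₀, hl₀, hlh₀, hE₀, hmin₀⟩ := exists_essFiniteType_local (A := A) (P₀.image lift)
  haveI := hl₀
  haveI := hlh₀
  haveI := hE₀
  have hres : ∀ d : D, ∃ f ∈ D₀, d - f ∈ maximalIdeal D := fun d => by
    have h : residue D d ∈ Submodule.span A (P₀ : Set (ResidueField D)) := hP₀ ▸ trivial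
    obtain ⟨f, hf, hfd⟩ : residue D d ∈ (Subalgebra.toSubmodule D₀).map
        (IsScalarTower.toAlgHom A D (ResidueField D)).toLinearMap :=
      (Submodule.span_le (p := (Subalgebra.toSubmodule D₀).map (IsScalarTower.toAlgHom A D (ResidueField D)).toLinearMap)).2
        (fun z hz => Submodule.mem_map.2 ⟨lift z, hF₀ (Finset.mem_image_of_mem lift hz), hlift z⟩) h
    refine ⟨f, hf, (residue_eq_zero_iff _).1 ?_⟩
    rw [map_sub, sub_eq_zero]
    exact hfd.symm
  let Rof : Subalgebra A D → Subalgebra A D' := fun R => Algebra.adjoin A (ι '' (R : Set D) ∪ (G : Set D'))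
  have hιmem : ∀ (R : Subalgebra A D) (d : D), d ∈ R → ι d ∈ Rof R := fun R d hd =>
    Algebra.subset_adjoin (Or.inl ⟨d, hd, rfl⟩)
  have hBR : ∀ (R : Subalgebra A D) (b : D'), b ∈ B → b ∈ Rof R := fun R b hb =>
    (Submodule.span_le (p := Subalgebra.toSubmodule (Rof R))).2
      (fun g hg => Algebra.subset_adjoin (Or.inr hg)) (hBG b hb)
  have hBint : ∀ g ∈ G, IsIntegral A g := fun g hg => by
    obtain ⟨g, -, rfl⟩ := Finset.mem_image.1 hg
    haveI : Algebra.IsIntegral A B := Algebra.IsIntegral.of_finite A B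
    exact (Algebra.IsIntegral.isIntegral (R := A) g).map B.val
  have hfinR : ∀ R : Subalgebra A D, ∃ _ : Algebra R (Rof R), IsScalarTower A R (Rof R) ∧ Module.Finite R (Rof R) ∧
      ∀ r : R, ((algebraMap R (Rof R) r : Rof R) : D') = ι r := fun R => by
    let j : R →ₐ[A] Rof R := ((IsScalarTower.toAlgHom A D D').comp R.val).codRestrict _ fun r => hιmem R r r.2
    letI : Algebra R (Rof R) := j.toRingHom.toAlgebra
    haveI : IsScalarTower A R (Rof R) := IsScalarTower.of_algebraMap_eq fun a => (j.commutes a).symm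
    refine ⟨_, inferInstance, ?_, fun r => rfl⟩
    let GR : Set (Rof R) := {g | (g : D') ∈ (G : Set D')}
    have hGR : GR.Finite := G.finite_toSet.preimage Subtype.val_injective.injOn
    have htopR : Algebra.adjoin R GR = ⊤ := by
      refine eq_top_iff.2 fun z _ => ?_
      obtain ⟨z, hz⟩ := z
      induction hz using Algebra.adjoin_induction with
      | mem z hz =>
        rcases hz with ⟨r, hr, rfl⟩ | hz
        · exact Subalgebra.algebraMap_mem (Algebra.adjoin R GR) (⟨r, hr⟩ : R)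
        · exact Algebra.subset_adjoin hz
      | algebraMap a =>
        exact (Algebra.adjoin R GR).restrictScalars A |>.algebraMap_mem a
      | add x y hx' hy' hx hy => exact add_mem (hx trivial) (hy trivial)
      | mul x y hx' hy' hx hy => exact mul_mem (hx trivial) (hy trivial)
    exact ⟨by
      have := fg_adjoin_of_finite (R := R) hGR fun g hg =>
        IsIntegral.tower_top (R := A) ((isIntegral_algHom_iff (Rof R).val Subtype.val_injective).1 (hBint _ hg))
      rwa [htopR, Algebra.top_toSubmodule] at this⟩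
  obtain ⟨alg₀, htower₀, hfin₀, hcoe₀⟩ := hfinR D₀
  let R₀ := Rof D₀
  letI := alg₀
  haveI := htower₀
  haveI := hfin₀
  haveI : Algebra.IsIntegral D₀ R₀ := Algebra.IsIntegral.of_finite D₀ R₀
  haveI : Algebra.QuasiFinite D₀ R₀ := inferInstance
  have hPfin := Algebra.QuasiFinite.finite_primesOver (S := R₀) (maximalIdeal D₀)
  haveI := hPfin.to_subtype
  haveI := Fintype.ofFinite ((maximalIdeal D₀).primesOver R₀)
  have hbad : ∀ P : (maximalIdeal D₀).primesOver R₀,
      (∃ N : Ideal D', N.IsMaximal ∧ P.1 = N.comap R₀.val) ∨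
      ∃ F : Finset D, ∃ s ∈ P.1, ∃ v : D', v ∈ Algebra.adjoin A (ι '' (F : Set D) ∪ (G : Set D')) ∧ v * (s : D') = 1 := by
    intro P
    refine or_iff_not_imp_left.2 fun hno => ?_
    push Not at hno
    haveI := P.2.1
    have hPmax : P.1.IsMaximal := Ideal.isMaximal_of_isIntegral_of_isMaximal_comap (R := D₀) P.1 (by
      haveI := P.2.2
      show (P.1.under D₀).IsMaximal
      rw [← P.2.2.over]; infer_instance)
    obtain ⟨s, hsP, hs⟩ : ∃ s ∈ P.1, ∀ N : {N : Ideal D' | N.IsMaximal}, (s : D') ∉ N.1 := by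
      by_contra hcon
      push Not at hcon
      have hsub : (P.1 : Set R₀) ⊆ ⋃ N ∈ (↑(Finset.univ : Finset {N : Ideal D' | N.IsMaximal}) : Set {N : Ideal D' | N.IsMaximal}),
          ((N.1.comap R₀.val : Ideal R₀) : Set R₀) := fun s hs => by
        obtain ⟨N, hN⟩ := hcon s hs
        exact Set.mem_biUnion (Finset.mem_coe.2 (Finset.mem_univ N)) hN
      obtain ⟨N, -, hle⟩ := (Ideal.subset_union_prime ⟨N₀, hN₀⟩ ⟨N₀, hN₀⟩ fun N _ _ _ => by
        haveI : N.1.IsMaximal := N.2; exact Ideal.comap_isPrime _ _).1 hsub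
      haveI : N.1.IsMaximal := N.2
      exact hno N.1 N.2 (hPmax.eq_of_le (Ideal.IsPrime.ne_top (Ideal.comap_isPrime _ _)) hle)
    have hu : IsUnit (s : D') := by
      by_contra hn
      obtain ⟨N, hN, hsN⟩ := exists_max_ideal_of_mem_nonunits hn
      exact hs ⟨N, hN⟩ hsN
    obtain ⟨v, hv⟩ := hu.exists_left_inv
    obtain ⟨F, hF⟩ := exists_finset_mem_adjoin ι (G : Set D') v (htop v)
    exact ⟨F, s, hsP, v, hF, hv⟩
  have hbad' : ∀ P : (maximalIdeal D₀).primesOver R₀, ∃ F : Finset D,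
      (∃ N : Ideal D', N.IsMaximal ∧ P.1 = N.comap R₀.val) ∨
      ∃ s ∈ P.1, ∃ v : D', v ∈ Algebra.adjoin A (ι '' (F : Set D) ∪ (G : Set D')) ∧ v * (s : D') = 1 := fun P => by
    rcases hbad P with h | ⟨F, h⟩
    · exact ⟨∅, Or.inl h⟩
    · exact ⟨F, Or.inr h⟩
  choose FP hFP using hbad'
  obtain ⟨D₁, hF₁, hl₁, hlh₁, hE₁, -⟩ :=
    exists_essFiniteType_local (A := A) (P₀.image lift ∪ Finset.univ.biUnion FP)
  haveI := hl₁
  haveI := hlh₁
  haveI := hE₁
  obtain ⟨alg₁, htower₁, hfin₁, hcoe₁⟩ := hfinR D₁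
  let R₁ := Rof D₁
  letI := alg₁
  haveI := htower₁
  haveI := hfin₁
  haveI : Algebra.IsIntegral D₁ R₁ := Algebra.IsIntegral.of_finite D₁ R₁
  have hD₀₁ : D₀ ≤ D₁ := hmin₀ D₁ (fun x hx => hF₁ (Finset.mem_union_left _ hx)) hlh₁
  have hle₁ : R₀ ≤ R₁ := Algebra.adjoin_mono (Set.union_subset_union_left _ (Set.image_mono fun d hd => hD₀₁ hd))
  have hmax₁ : ∀ P₁ : Ideal R₁, P₁.IsMaximal → ∃ N : Ideal D', N.IsMaximal ∧ N.comap R₁.val ≤ P₁ := by
    intro P₁ hP₁
    haveI := hP₁
    have hm₁ : P₁.comap (algebraMap D₁ R₁) = maximalIdeal D₁ :=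
      IsLocalRing.eq_maximalIdeal (Ideal.isMaximal_comap_of_isIntegral_of_isMaximal P₁)
    let P01 : Ideal R₀ := P₁.comap (Subalgebra.inclusion hle₁)
    haveI : P01.IsPrime := Ideal.comap_isPrime _ _
    have hP01 : P01 ∈ (maximalIdeal D₀).primesOver R₀ := ⟨inferInstance, ⟨by
      ext d
      have h : Subalgebra.inclusion hle₁ (algebraMap D₀ R₀ d) = algebraMap D₁ R₁ ⟨d, hD₀₁ d.2⟩ :=
        Subtype.ext ((hcoe₀ d).trans (hcoe₁ ⟨d, hD₀₁ d.2⟩).symm)
      show d ∈ maximalIdeal D₀ ↔ Subalgebra.inclusion hle₁ (algebraMap D₀ R₀ d) ∈ P₁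
      rw [h, ← Ideal.mem_comap, hm₁, mem_maximalIdeal, mem_maximalIdeal, mem_nonunits_iff, mem_nonunits_iff]
      exact not_congr ⟨fun hu => hlh₁.map_nonunit _ (hu.map (algebraMap D₀ D)),
        fun hu => hlh₀.map_nonunit _ (hu.map (algebraMap D₁ D))⟩⟩⟩
    obtain ⟨N, hN, hNle⟩ : ∃ N : Ideal D', N.IsMaximal ∧ ∀ z : R₀, z ∈ P01 ↔ (z : D') ∈ N := by
      rcases hFP ⟨P01, hP01⟩ with ⟨N, hN, hPN⟩ | ⟨s, hsP, v, hv, hvs⟩
      · exact ⟨N, hN, fun z => Eq.to_iff (congrArg (fun I : Ideal R₀ => z ∈ I) hPN)⟩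
      · exfalso
        have hv₁ : v ∈ R₁ := Algebra.adjoin_mono (Set.union_subset_union_left _ (Set.image_mono fun d hd =>
          hF₁ (Finset.mem_union_right _ (Finset.mem_biUnion.2 ⟨⟨P01, hP01⟩, Finset.mem_univ _, hd⟩)))) hv
        refine hP₁.ne_top ((Ideal.eq_top_iff_one P₁).2 ?_)
        have h : (⟨v, hv₁⟩ : R₁) * Subalgebra.inclusion hle₁ s = 1 := Subtype.ext hvs
        rw [← h]
        exact P₁.mul_mem_left _ hsP
    refine ⟨N, hN, fun z hz => ?_⟩
    have hzN : (z : D') ∈ N := hz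
    have key : ∀ z : R₁, ∃ y : R₀, z - Subalgebra.inclusion hle₁ y ∈ P₁ ∧ (z : D') - (y : D') ∈ N := by
      rintro ⟨z, hz⟩
      induction hz using Algebra.adjoin_induction with
      | mem z hz =>
        rcases hz with ⟨d, hd, rfl⟩ | hz
        · obtain ⟨f, hf, hdf⟩ := hres d
          refine ⟨⟨ι f, hιmem _ f hf⟩, ?_, ?_⟩
          · have h : (⟨d - f, D₁.sub_mem hd (hD₀₁ hf)⟩ : D₁) ∈ maximalIdeal D₁ := fun hu => hdf (hu.map D₁.val)
            rw [← hm₁, Ideal.mem_comap] at h
            convert h using 1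
            exact Subtype.ext ((hcoe₁ _).trans (map_sub ι d f)).symm
          · show ι d - ι f ∈ N
            rw [← map_sub]
            haveI := hN
            exact (IsLocalRing.eq_maximalIdeal (Ideal.isMaximal_comap_of_isIntegral_of_isMaximal (R := D) N)).ge hdf
        · exact ⟨⟨z, Algebra.subset_adjoin (Or.inr hz)⟩, by
            convert P₁.zero_mem using 1
            exact Subtype.ext (sub_self z), by rw [sub_self]; exact N.zero_mem⟩
      | algebraMap a =>
        exact ⟨algebraMap A R₀ a, by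
            convert P₁.zero_mem using 1
            exact Subtype.ext (sub_self _), by
            show algebraMap A D' a - algebraMap A D' a ∈ N
            rw [sub_self]; exact N.zero_mem⟩
      | add x y hx' hy' hx hy =>
        obtain ⟨a, ha, ha'⟩ := hx
        obtain ⟨b, hb, hb'⟩ := hy
        refine ⟨a + b, ?_, ?_⟩
        · convert P₁.add_mem ha hb using 1
          rw [map_add]; exact Subtype.ext (add_sub_add_comm _ _ _ _)
        · convert N.add_mem ha' hb' using 1
          exact add_sub_add_comm _ _ _ _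
      | mul x y hx' hy' hx hy =>
        obtain ⟨a, ha, ha'⟩ := hx
        obtain ⟨b, hb, hb'⟩ := hy
        refine ⟨a * b, ?_, ?_⟩
        · convert P₁.add_mem (P₁.mul_mem_right (⟨y, hy'⟩ : R₁) ha) (P₁.mul_mem_left (Subalgebra.inclusion hle₁ a) hb) using 1
          refine Subtype.ext ?_
          show x * y - (a : D') * (b : D') = (x - (a : D')) * y + (a : D') * (y - (b : D'))
          ring
        · convert N.add_mem (N.mul_mem_right y ha') (N.mul_mem_left (a : D') hb') using 1
          show x * y - (a : D') * (b : D') = (x - (a : D')) * y + (a : D') * (y - (b : D'))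
          ring
    obtain ⟨y, hy, hy'⟩ := key z
    have hyN : (y : D') ∈ N := by
      have := N.sub_mem hzN hy'
      rwa [sub_sub_cancel] at this
    have hy1 : Subalgebra.inclusion hle₁ y ∈ P₁ := (hNle y).2 hyN
    have := P₁.add_mem hy hy1
    rwa [sub_add_cancel] at this
  have htop₁ : ∀ x : D', x ∈ R₁ := fun x => by
    obtain ⟨s, hs, hu, hsx⟩ := hfrac x
    have hu₁ : IsUnit (⟨s, hBR D₁ s hs⟩ : R₁) := by
      by_contra hn
      obtain ⟨P₁, hP₁, hsP⟩ := exists_max_ideal_of_mem_nonunits hn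
      obtain ⟨N, hN, hle⟩ := hmax₁ P₁ hP₁
      haveI := hN
      haveI : (N.comap R₁.val).IsPrime := Ideal.comap_isPrime _ _
      have hmaxN : (N.comap R₁.val).IsMaximal := by
        refine Ideal.isMaximal_of_isIntegral_of_isMaximal_comap (R := D₁) _ ?_
        have : (N.comap R₁.val).comap (algebraMap D₁ R₁) = (maximalIdeal D).comap D₁.val := by
          rw [← IsLocalRing.eq_maximalIdeal (Ideal.isMaximal_comap_of_isIntegral_of_isMaximal (R := D) N)]
          ext d
          show ((algebraMap D₁ R₁ d : R₁) : D') ∈ N ↔ ι (d : D) ∈ N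
          rw [hcoe₁]
        rw [this]
        have : (maximalIdeal D).comap D₁.val = maximalIdeal D₁ := by
          ext d
          rw [Ideal.mem_comap, mem_maximalIdeal, mem_maximalIdeal, mem_nonunits_iff, mem_nonunits_iff]
          exact not_congr ⟨fun hu => hlh₁.map_nonunit _ hu, fun hu => hu.map D₁.val⟩
        rw [this]; infer_instance
      have hsN : (⟨s, hBR D₁ s hs⟩ : R₁) ∈ N.comap R₁.val :=
        (hmaxN.eq_of_le hP₁.ne_top hle).ge hsP
      exact hN.ne_top (Ideal.eq_top_of_isUnit_mem _ hsN hu)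
    obtain ⟨v, hv⟩ := hu₁.exists_left_inv
    have h1 : (v : D') * s = 1 := congrArg Subtype.val hv
    have h2 : x = (v : D') * (s * x) := by rw [← mul_assoc, h1, one_mul]
    exact h2 ▸ R₁.mul_mem v.2 (hBR D₁ _ hsx)
  let f : D →ₗ[D₁] R₁ :=
    { toFun := fun d => ⟨ι d, htop₁ _⟩
      map_add' := fun x y => Subtype.ext (map_add ι x y)
      map_smul' := fun r d => Subtype.ext (by
        rw [RingHom.id_apply, Algebra.smul_def, Algebra.smul_def]
        show ι ((r : D) * d) = ((algebraMap D₁ R₁ r : R₁) : D') * ι d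
        rw [hcoe₁, map_mul]) }
  haveI : IsNoetherianRing D₁ := Algebra.EssFiniteType.isNoetherianRing A D₁
  haveI : Module.Finite D₁ D := Module.Finite.of_injective f fun x y h => hinj (congrArg Subtype.val h)
  exact Algebra.EssFiniteType.comp A D₁ D

/-- Prime avoidance against the maximal ideals of a semilocal ring. -/
theorem exists_mem_isUnit_of_semilocal {R D' : Type u} [CommRing R] [CommRing D'] (ι : R →+* D')
    (hfin : {N : Ideal D' | N.IsMaximal}.Finite) (I : Ideal R)
    (h : ∀ N : Ideal D', N.IsMaximal → ∃ r ∈ I, ι r ∉ N) : ∃ r ∈ I, IsUnit (ι r) := by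
  classical
  by_contra hcon
  push Not at hcon
  haveI := hfin.to_subtype
  haveI := Fintype.ofFinite {N : Ideal D' | N.IsMaximal}
  let c : {N : Ideal D' | N.IsMaximal} → Ideal R := fun N => N.1.comap ι
  have hsub : (I : Set R) ⊆ ⋃ N ∈ (↑(Finset.univ : Finset {N : Ideal D' | N.IsMaximal}) : Set {N : Ideal D' | N.IsMaximal}),
      (c N : Set R) := fun r hr => by
    obtain ⟨N, hN, hrN⟩ := exists_max_ideal_of_mem_nonunits (hcon r hr)
    exact Set.mem_biUnion (Finset.mem_coe.2 (Finset.mem_univ (⟨N, hN⟩ : {N : Ideal D' | N.IsMaximal}))) hrN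
  rcases isEmpty_or_nonempty {N : Ideal D' | N.IsMaximal} with he | ⟨⟨N₀⟩⟩
  · obtain ⟨N, hN, -⟩ := exists_max_ideal_of_mem_nonunits (hcon 0 I.zero_mem)
    exact he.false ⟨N, hN⟩
  obtain ⟨N, -, hle⟩ := (Ideal.subset_union_prime (f := c) N₀ N₀ fun N _ _ _ => by
    haveI : N.1.IsMaximal := N.2
    exact Ideal.comap_isPrime _ _).1 hsub
  obtain ⟨r, hr, hrN⟩ := h N.1 N.2
  exact hrN (hle hr)

end Groth.Agent.SHEss
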