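import Groth.Agent.SHEss.Contain
import Groth.Agent.EssEtLib.LocalHom
import Groth.Agent.Hensel.HenselizationFibre
import Groth.Agent.S0540

/-!
# Normalizations of intermediate rings inside the fraction ring of a strict henselization
-/

set_option autoImplicit false
set_option linter.style.haveILetI false
set_option synthInstance.maxHeartbeats 200000

universe u

open IsLocalRing Polynomial nonZeroDivisors

namespace Groth.Agent.SHEss

variable {A S : Type u} [CommRing A] [IsLocalRing A] [CommRing S] [IsLocalRing S] [Algebra A S]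
  [IsLocalHom (algebraMap A S)] [Hensel.IsStrictHenselization A S]

/-- Non-zero-divisors of the base are units in the fraction ring of a strict henselization. -/
theorem isUnit_algebraMap_fractionRing {a : A} (ha : a ∈ A⁰) : IsUnit (algebraMap A (FractionRing S) a) := by
  haveI := Hensel.faithfullyFlat_of_isStrictHenselization A S
  have h : algebraMap A S a ∈ S⁰ := by
    refine mem_nonZeroDivisors_iff_right.2 fun w hw => ?_
    have hreg : IsSMulRegular S a := Module.Flat.isSMulRegular_of_nonZeroDivisors ha
    refine hreg ?_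
    show a • w = a • (0 : S)
    rw [smul_zero, Algebra.smul_def, mul_comm, hw]
  rw [IsScalarTower.algebraMap_apply A S (FractionRing S)]
  exact IsLocalization.map_units (FractionRing S) (⟨_, h⟩ : S⁰)

variable [IsReduced A] [IsNoetherianRing A]

/-- A non-zero-divisor of a dominated intermediate ring divides one of the base inside it. -/
theorem exists_mul_eq_algebraMap_sub (D : Subalgebra A S) (d : D⁰) :
    ∃ a ∈ A⁰, ∃ d' : D, (d : D) * d' = algebraMap A D a := by
  classical
  obtain ⟨E, hsE, hEloc, hEl, hE⟩ := exists_essEtale_subalgebra (A := A) ({((d : D) : S)} : Finset S)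
  haveI := EssEtLib.isLocalHom_algebraMap hE
  haveI := hEloc
  let D₁ : Subalgebra A E := D.comap E.val
  obtain ⟨a, ha, d', hd'⟩ := (exists_mul_eq_algebraMap (minimalPrimes.finite_of_isNoetherianRing A) hE D₁).1
    ⟨⟨_, hsE (Finset.mem_singleton_self _)⟩, (d : D).2⟩
    (mem_nonZeroDivisors_iff_right.2 fun w hw => by
      have h1 : (⟨((w : E) : S), w.2⟩ : D) * (d : D) = 0 :=
        Subtype.ext (congrArg (fun t : D₁ => ((t : E) : S)) hw)
      have h2 := (mem_nonZeroDivisors_iff_right.1 d.2) _ h1
      exact Subtype.ext (Subtype.ext (congrArg (fun t : D => (t : S)) h2)))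
  exact ⟨a, ha, ⟨((d' : E) : S), d'.2⟩, Subtype.ext ((congrArg Subtype.val hd' :) )⟩

/-- A dominated intermediate ring has finitely many minimal primes. -/
theorem finite_minimalPrimes_intermediate (D : Subalgebra A S) : (minimalPrimes D).Finite := by
  haveI : IsNoetherianRing S := (S0540.result A S).1 inferInstance
  refine ((minimalPrimes.finite_of_isNoetherianRing S).image (Ideal.comap D.val.toRingHom)).subset fun P hP => ?_
  obtain ⟨P', hP', hP'P⟩ := Ideal.exists_comap_eq_of_mem_minimalPrimes_of_injective (f := D.val.toRingHom)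
    Subtype.val_injective P hP
  haveI := hP'
  obtain ⟨Q, hQ, hQle⟩ := Ideal.exists_minimalPrimes_le (I := (⊥ : Ideal S)) (J := P') bot_le
  haveI := hQ.1.1
  exact ⟨Q, hQ, le_antisymm (hP'P ▸ Ideal.comap_mono hQle)
    (hP.2 ⟨Ideal.IsPrime.comap _, bot_le⟩ (hP'P ▸ Ideal.comap_mono hQle))⟩

/-- The normalization of a ring whose fractions have base denominators, as cut out in the fraction ring of the
strict henselization. -/
theorem exists_normalisation_equiv_gen (D : Type u) [CommRing D] [Algebra A D] [Algebra D S] [IsScalarTower A D S]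
    (hDS : Function.Injective (algebraMap D S)) (hmul : ∀ d : D⁰, ∃ a ∈ A⁰, ∃ d' : D, (d : D) * d' = algebraMap A D a)
    (D' : Subalgebra A (FractionRing S))
    (hD' : ∀ x : FractionRing S, x ∈ D' ↔ (IsIntegral D x ∧
      ∃ a ∈ A⁰, ∃ d : D, algebraMap A (FractionRing S) a * x = algebraMap D (FractionRing S) d))
    (ι : D →ₐ[A] D') (hι : ∀ d : D, (ι d : FractionRing S) = algebraMap D (FractionRing S) d) :
    ∃ e : integralClosure D (FractionRing D) ≃+* D', ∀ d : D, e (algebraMap D _ d) = ι d := by
  let K := FractionRing S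
  let KD := FractionRing D
  have hnzd : ∀ d : D⁰, IsUnit (Algebra.ofId D K d) := fun d => by
    obtain ⟨a, ha, d', h⟩ := hmul d
    refine isUnit_of_mul_isUnit_left (y := algebraMap D K d') ?_
    show IsUnit (algebraMap D K (d : D) * algebraMap D K d')
    rw [← map_mul, h, ← IsScalarTower.algebraMap_apply A D K]
    exact isUnit_algebraMap_fractionRing ha
  let φ : KD →ₐ[D] K := IsLocalization.liftAlgHom (M := D⁰) (f := Algebra.ofId D K) hnzd
  have hφ : ∀ d : D, φ (algebraMap D KD d) = algebraMap D K d := fun d => φ.commutes d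
  have hDK : Function.Injective (algebraMap D K) := by
    rw [IsScalarTower.algebraMap_eq D S K]
    exact (IsFractionRing.injective S K).comp hDS
  have hinj : Function.Injective φ := by
    rw [injective_iff_map_eq_zero]
    intro z hz
    obtain ⟨x, y, rfl⟩ := IsLocalization.exists_mk'_eq D⁰ z
    rw [IsLocalization.mk'_eq_zero_iff]
    refine ⟨1, ?_⟩
    have h1 : φ (algebraMap D KD x) = 0 := by
      rw [← IsLocalization.mk'_spec KD x y, map_mul, hz, zero_mul]
    rw [hφ] at h1
    rw [Submonoid.coe_one, one_mul]
    exact hDK (h1.trans (map_zero _).symm)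
  have hmem : ∀ z : integralClosure D KD, φ z ∈ D' := fun z => by
    refine (hD' _).2 ⟨z.2.map φ, ?_⟩
    obtain ⟨x, y, hxy⟩ := IsLocalization.exists_mk'_eq D⁰ (z : KD)
    obtain ⟨a, ha, d', h⟩ := hmul y
    refine ⟨a, ha, x * d', ?_⟩
    rw [← hφ, IsScalarTower.algebraMap_apply A D K, ← h, map_mul,
      show algebraMap D K (y : D) = φ (algebraMap D KD y) from (φ.commutes _).symm,
      show algebraMap D K d' = φ (algebraMap D KD d') from (φ.commutes _).symm, ← map_mul, ← map_mul, ← hxy, map_mul]
    rw [← map_mul, map_mul (algebraMap D KD)]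
    refine congrArg φ ?_
    linear_combination (IsLocalization.mk'_spec KD x y) * (algebraMap D KD d')
  let g : integralClosure D KD →+* D' :=
    (φ.toRingHom.comp (integralClosure D KD).val.toRingHom).codRestrict D'.toSubring hmem
  have hg : Function.Bijective g := by
    refine ⟨fun a b h => Subtype.ext (hinj (congrArg Subtype.val h)), fun x => ?_⟩
    obtain ⟨hx, a, ha, d, h⟩ := (hD' _).1 x.2
    have hreg : algebraMap A D a ∈ D⁰ := mem_nonZeroDivisors_iff_right.2 fun w hw => by
      have h1 : algebraMap D K w * algebraMap A K a = 0 := by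
        rw [IsScalarTower.algebraMap_apply A D K, ← map_mul, hw, map_zero]
      exact hDK (((isUnit_algebraMap_fractionRing ha).mul_left_eq_zero.1 h1).trans (map_zero _).symm)
    let z : KD := IsLocalization.mk' KD d ⟨_, hreg⟩
    have hz : φ z = x := by
      refine (isUnit_algebraMap_fractionRing (S := S) ha).mul_left_cancel ?_
      rw [h, IsScalarTower.algebraMap_apply A D K, ← φ.commutes, ← map_mul, mul_comm,
        show z * algebraMap D KD (algebraMap A D a) = algebraMap D KD d from IsLocalization.mk'_spec KD _ _, hφ]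
    have hzint : IsIntegral D z := (isIntegral_algHom_iff φ hinj).1 (hz.symm ▸ hx)
    exact ⟨⟨z, hzint⟩, Subtype.ext hz⟩
  exact ⟨RingEquiv.ofBijective g hg, fun d => Subtype.ext ((hφ d).trans (hι d).symm)⟩


/-- The normalization of a dominated intermediate ring as cut out in the fraction ring of the strict
henselization. -/
theorem exists_normalisation_equiv (D : Subalgebra A S) (D' : Subalgebra A (FractionRing S))
    (hD' : ∀ x : FractionRing S, x ∈ D' ↔ (IsIntegral D x ∧
      ∃ a ∈ A⁰, ∃ d ∈ D, algebraMap A (FractionRing S) a * x = algebraMap S (FractionRing S) d))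
    (ι : D →ₐ[A] D') (hι : ∀ d : D, (ι d : FractionRing S) = algebraMap S (FractionRing S) d) :
    ∃ e : integralClosure D (FractionRing D) ≃+* D', ∀ d : D, e (algebraMap D _ d) = ι d :=
  exists_normalisation_equiv_gen D Subtype.val_injective (exists_mul_eq_algebraMap_sub D) D'
    (fun x => (hD' x).trans (and_congr_right fun _ => ⟨fun ⟨a, ha, d, hd, h⟩ => ⟨a, ha, ⟨d, hd⟩, h⟩,
      fun ⟨a, ha, d, h⟩ => ⟨a, ha, (d : S), d.2, h⟩⟩)) ι hι

end Groth.Agent.SHEss
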