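import Groth.Agent.SHEss.GeomPts
import Groth.Agent.SHEss.NormInSH
import Groth.Agent.Hensel.HenselizationFibre
import Mathlib.RingTheory.Flat.FaithfullyFlat.Algebra
import Mathlib.LinearAlgebra.TensorProduct.RightExactness

/-!
# Geometric points and the residual tensor criterion
-/

set_option autoImplicit false
set_option linter.style.haveILetI false
set_option maxHeartbeats 1000000
set_option synthInstance.maxHeartbeats 200000

universe u

open IsLocalRing TensorProduct nonZeroDivisors

namespace Groth.Agent.SHEss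

/-- Under the residual tensor condition, geometric points restrict bijectively. -/
theorem pts_restrict_bijective {A A' D D' Ω : Type u} [CommRing A] [IsLocalRing A] [CommRing A'] [CommRing D]
    [IsLocalRing D] [CommRing D'] [Field Ω] [Algebra A A'] [Algebra A D] [Algebra A D'] [IsLocalHom (algebraMap A D)]
    [Algebra.IsIntegral A A'] (inc : A' →ₐ[A] D') (ι : D →ₐ[A] D') (hιint : ι.toRingHom.IsIntegral)
    (jD : D →+* Ω) (hjD : ∀ d ∈ maximalIdeal D, jD d = 0)
    (hsurj : Function.Surjective ((Ideal.Quotient.mkₐ A (Ideal.jacobson (⊥ : Ideal D'))).comp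
      (Algebra.TensorProduct.productMap inc ι)))
    (hker : RingHom.ker ((Ideal.Quotient.mkₐ A (Ideal.jacobson (⊥ : Ideal D'))).comp
        (Algebra.TensorProduct.productMap inc ι)) ≤
      (Ideal.jacobson (⊥ : Ideal A')).map (Algebra.TensorProduct.includeLeft : A' →ₐ[A] A' ⊗[A] D) ⊔
        (maximalIdeal D).map (Algebra.TensorProduct.includeRight : D →ₐ[A] A' ⊗[A] D)) :
    (∀ σ₁ σ₂ : D' →+* Ω, σ₁.comp ι.toRingHom = jD → σ₂.comp ι.toRingHom = jD →
        σ₁.comp inc.toRingHom = σ₂.comp inc.toRingHom → σ₁ = σ₂) ∧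
      ∀ τ : A' →+* Ω, τ.comp (algebraMap A A') = jD.comp (algebraMap A D) →
        ∃ σ : D' →+* Ω, σ.comp ι.toRingHom = jD ∧ σ.comp inc.toRingHom = τ := by
  classical
  have hjA : (RingHom.ker jD).comap (algebraMap A D) = maximalIdeal A := by
    have h : RingHom.ker jD = maximalIdeal D :=
      le_antisymm (IsLocalRing.le_maximalIdeal (RingHom.ker_ne_top jD)) hjD
    rw [h]
    exact ((local_hom_TFAE (algebraMap A D)).out 0 4).1 ‹_›
  let Ψ := Algebra.TensorProduct.productMap inc ι
  let q := (Ideal.Quotient.mkₐ A (Ideal.jacobson (⊥ : Ideal D'))).comp Ψ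
  have hkillσ : ∀ σ : D' →+* Ω, σ.comp ι.toRingHom = jD → Ideal.jacobson (⊥ : Ideal D') ≤ RingHom.ker σ := by
    intro σ hσ
    haveI : (RingHom.ker σ).IsPrime := RingHom.ker_isPrime σ
    have hmax : (RingHom.ker σ).IsMaximal := by
      refine Ideal.isMaximal_of_isIntegral_of_isMaximal_comap' ι.toRingHom hιint _ ?_
      rw [RingHom.comap_ker, hσ, le_antisymm (IsLocalRing.le_maximalIdeal (RingHom.ker_ne_top jD)) hjD]
      infer_instance
    exact sInf_le ⟨bot_le, hmax⟩
  refine ⟨fun σ₁ σ₂ h₁ h₂ h => ?_, fun τ hτ => ?_⟩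
  · have hΨ : σ₁.comp Ψ.toRingHom = σ₂.comp Ψ.toRingHom := by
      refine RingHom.ext fun z => ?_
      induction z using TensorProduct.induction_on with
      | zero => rw [map_zero, map_zero]
      | tmul x d =>
        show σ₁ (Ψ (x ⊗ₜ[A] d)) = σ₂ (Ψ (x ⊗ₜ[A] d))
        rw [show Ψ (x ⊗ₜ[A] d) = inc x * ι d from Algebra.TensorProduct.productMap_apply_tmul inc ι x d, map_mul, map_mul]
        exact congrArg₂ (· * ·) (RingHom.congr_fun h x) (RingHom.congr_fun (h₁.trans h₂.symm) d)
      | add y z hy hz => rw [map_add, map_add, hy, hz]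
    refine RingHom.ext fun z => ?_
    obtain ⟨y, hy⟩ := hsurj (Ideal.Quotient.mk _ z)
    have hz : Ψ y - z ∈ Ideal.jacobson (⊥ : Ideal D') := Ideal.Quotient.eq.1 hy
    have e₁ : σ₁ (Ψ y) = σ₁ z := sub_eq_zero.1 ((map_sub σ₁ _ _).symm.trans (hkillσ σ₁ h₁ hz))
    have e₂ : σ₂ (Ψ y) = σ₂ z := sub_eq_zero.1 ((map_sub σ₂ _ _).symm.trans (hkillσ σ₂ h₂ hz))
    rw [← e₁, ← e₂]
    exact RingHom.congr_fun hΨ y
  · letI : Algebra A Ω := (jD.comp (algebraMap A D)).toAlgebra
    let τₐ : A' →ₐ[A] Ω := { τ with commutes' := fun a => RingHom.congr_fun hτ a }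
    let jₐ : D →ₐ[A] Ω := { jD with commutes' := fun a => rfl }
    let θ := Algebra.TensorProduct.productMap τₐ jₐ
    have hθ : RingHom.ker q.toRingHom ≤ RingHom.ker θ.toRingHom := by
      intro z hz
      refine (sup_le ?_ ?_ : _ ≤ RingHom.ker θ.toRingHom) (hker hz)
      · rw [Ideal.map_le_iff_le_comap]
        intro x hx
        haveI : (RingHom.ker τ).IsPrime := RingHom.ker_isPrime τ
        have hmax : (RingHom.ker τ).IsMaximal := by
          refine Ideal.isMaximal_of_isIntegral_of_isMaximal_comap (R := A) _ ?_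
          rw [RingHom.comap_ker, hτ, ← RingHom.comap_ker, hjA]
          infer_instance
        have hx0 : τ x = 0 := (sInf_le ⟨bot_le, hmax⟩ : Ideal.jacobson (⊥ : Ideal A') ≤ RingHom.ker τ) hx
        show θ (x ⊗ₜ[A] 1) = 0
        rw [show θ (x ⊗ₜ[A] 1) = τₐ x * jₐ 1 from Algebra.TensorProduct.productMap_apply_tmul τₐ jₐ x 1, map_one, mul_one]
        exact hx0
      · rw [Ideal.map_le_iff_le_comap]
        intro d hd
        show θ (1 ⊗ₜ[A] d) = 0
        rw [show θ (1 ⊗ₜ[A] d) = τₐ 1 * jₐ d from Algebra.TensorProduct.productMap_apply_tmul τₐ jₐ 1 d, map_one, one_mul]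
        exact hjD d hd
    let σ₀ := RingHom.liftOfSurjective q.toRingHom hsurj ⟨θ.toRingHom, hθ⟩
    have hσ₀ : ∀ z, σ₀ (q z) = θ z := RingHom.liftOfRightInverse_comp_apply q.toRingHom _ _ ⟨θ.toRingHom, hθ⟩
    refine ⟨σ₀.comp (Ideal.Quotient.mk _), RingHom.ext fun d => ?_, RingHom.ext fun x => ?_⟩
    · have := hσ₀ (1 ⊗ₜ[A] d)
      simpa [q, Ψ, θ, jₐ] using this
    · have := hσ₀ (x ⊗ₜ[A] 1)
      simpa [q, Ψ, θ, τₐ] using this

/-- A point extends along an integral extension. -/
theorem exists_point_extension {R N Ω : Type u} [CommRing R] [CommRing N] [Field Ω] [IsAlgClosed Ω] (f : R →+* N)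
    (hf : f.IsIntegral) (θ : R →+* Ω) (hθ : (RingHom.ker θ).IsMaximal) (hker : RingHom.ker f ≤ RingHom.ker θ) :
    ∃ σ : N →+* Ω, σ.comp f = θ := by
  letI : Algebra R N := f.toAlgebra
  haveI : Algebra.IsIntegral R N := ⟨hf⟩
  obtain ⟨P, -, hP, hPc⟩ := Ideal.exists_ideal_over_prime_of_isIntegral (S := N) (RingHom.ker θ) ⊥ (by
    rw [← RingHom.ker_eq_comap_bot]; exact hker)
  haveI := hP
  haveI := hθ
  haveI : P.IsMaximal := Ideal.isMaximal_of_isIntegral_of_isMaximal_comap (R := R) P (hPc ▸ hθ)
  letI := Ideal.Quotient.field (RingHom.ker θ)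
  letI := Ideal.Quotient.field P
  letI : Algebra (R ⧸ RingHom.ker θ) (N ⧸ P) := (Ideal.quotientMap P f hPc.ge).toAlgebra
  letI : Algebra (R ⧸ RingHom.ker θ) Ω := (Ideal.Quotient.lift (RingHom.ker θ) θ fun _ ha => ha).toAlgebra
  haveI : Algebra.IsAlgebraic (R ⧸ RingHom.ker θ) (N ⧸ P) := by
    haveI : Algebra.IsIntegral (R ⧸ RingHom.ker θ) (N ⧸ P) := ⟨fun z => by
      obtain ⟨z, rfl⟩ := Ideal.Quotient.mk_surjective z
      obtain ⟨p, hp, hpz⟩ := Algebra.IsIntegral.isIntegral (R := R) z
      refine ⟨p.map (Ideal.Quotient.mk _), hp.map _, ?_⟩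
      rw [Polynomial.eval₂_map]
      exact (Polynomial.hom_eval₂ p f (Ideal.Quotient.mk P) z).symm.trans
        ((congrArg (Ideal.Quotient.mk P) hpz).trans (map_zero _))⟩
    infer_instance
  let σ : (N ⧸ P) →ₐ[R ⧸ RingHom.ker θ] Ω := IsAlgClosed.lift
  exact ⟨σ.toRingHom.comp (Ideal.Quotient.mk P), RingHom.ext fun r => σ.commutes (Ideal.Quotient.mk _ r)⟩

/-- A dominated intermediate ring with as many geometric branches as the base is unramified. -/
theorem map_maximalIdeal_of_card_eq {A S : Type u} [CommRing A] [IsLocalRing A] [IsReduced A] [IsNoetherianRing A]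
    [CommRing S] [IsLocalRing S] [Algebra A S] [IsLocalHom (algebraMap A S)] [Hensel.IsStrictHenselization A S]
    (D : Subalgebra A S) [IsLocalRing D] [IsLocalHom (algebraMap D S)] [IsLocalHom (algebraMap A D)]
    (hcard : ∀ (Dsh : Type u) [CommRing Dsh] [IsLocalRing Dsh] [Algebra D Dsh] [IsLocalHom (algebraMap D Dsh)]
      [Hensel.IsStrictHenselization D Dsh], ENat.card (minimalPrimes Dsh) = ENat.card (minimalPrimes S)) :
    (maximalIdeal A).map (algebraMap A D) = maximalIdeal D := by
  classical
  have H : Hensel.IsStrictHenselization A S := inferInstance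
  haveI : HenselianLocalRing S := H.henselian
  haveI := H.isSepClosure
  haveI : IsNoetherianRing S := (S0540.result A S).1 inferInstance
  haveI : IsReduced D := by
    haveI : IsReduced S := by
      haveI := (Hensel.isHenzLike_of_isStrictHenselization A S).isReduced_tensor A
      exact isReduced_of_injective (Algebra.TensorProduct.rid A A S).symm (Algebra.TensorProduct.rid A A S).symm.injective
    exact isReduced_of_injective D.val Subtype.val_injective
  let T := Hensel.StrictHenz D
  have HT : Hensel.IsStrictHenselization D T := inferInstance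
  haveI : HenselianLocalRing T := HT.henselian
  haveI := HT.isSepClosure
  haveI : IsSepClosure (ResidueField D) (ResidueField S) := by
    haveI : Algebra.IsSeparable (ResidueField A) (ResidueField S) := IsSepClosure.separable
    exact ⟨IsSepClosure.sep_closed (ResidueField A),
      Algebra.isSeparable_tower_top_of_isSeparable (ResidueField A) (ResidueField D) (ResidueField S)⟩
  let α : ResidueField T ≃ₐ[ResidueField D] ResidueField S := IsSepClosure.equiv (ResidueField D) _ _
  obtain ⟨π, ⟨hπ, hπr⟩, -⟩ := HT.universal S (algebraMap D S) α.toAlgHom.toRingHom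
    (RingHom.ext fun x => α.commutes x)
  letI : Algebra A T := ((algebraMap D T).comp (algebraMap A D)).toAlgebra
  haveI : IsScalarTower A D T := IsScalarTower.of_algebraMap_eq fun a => rfl
  haveI : IsLocalHom (algebraMap A T) := RingHom.isLocalHom_comp (algebraMap D T) (algebraMap A D)
  obtain ⟨back, ⟨hb, hbr⟩, -⟩ := H.universal T (algebraMap A T) α.symm.toAlgHom.toRingHom (RingHom.ext fun x => by
    obtain ⟨a, rfl⟩ := residue_surjective x
    show α.symm (residue S (algebraMap A S a)) = residue T (algebraMap A T a)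
    rw [show residue S (algebraMap A S a) =
      algebraMap (ResidueField D) (ResidueField S) (residue D (algebraMap A D a)) from rfl, α.symm.commutes]
    rfl)
  have hid : π.comp back = RingHom.id S := (H.universal S (algebraMap A S) (RingHom.id _) (RingHom.id_comp _)).unique
    ⟨by
      rw [RingHom.comp_assoc, hb]
      show π.comp ((algebraMap D T).comp (algebraMap A D)) = _
      rw [← RingHom.comp_assoc, hπ]
      rfl, fun x => by
      show residue S (π (back x)) = residue S x
      rw [hπr]
      show α (residue T (back x)) = _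
      rw [hbr]
      exact α.apply_symm_apply _⟩
    ⟨RingHom.id_comp _, fun x => rfl⟩
  have hsurj : Function.Surjective π := fun s => ⟨back s, RingHom.congr_fun hid s⟩
  have hTH := Hensel.isHenzLike_of_isStrictHenselization D T
  haveI : IsReduced T := by
    haveI := hTH.isReduced_tensor D
    exact isReduced_of_injective (Algebra.TensorProduct.rid D D T).symm (Algebra.TensorProduct.rid D D T).symm.injective
  have hminD := finite_minimalPrimes_intermediate D
  have hmap : ∀ Q ∈ minimalPrimes S, Q.comap π ∈ minimalPrimes T := fun Q hQ => by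
    haveI := hQ.1.1
    refine (BrnchLib.mem_minimalPrimes_iff_comap hTH).2 ?_
    rw [Ideal.comap_comap, hπ]
    haveI : (Q.comap (algebraMap D S)).IsPrime := Ideal.IsPrime.comap _
    have hsub : ((Q.comap (algebraMap D S) : Ideal D) : Set D) ⊆ ⋃ p ∈ hminD.toFinset, ((id p : Ideal D) : Set D) := by
      intro x hx
      by_contra hn
      simp only [Set.mem_iUnion, Set.Finite.mem_toFinset, not_exists] at hn
      have hxd : x ∈ D⁰ := by
        refine mem_nonZeroDivisors_iff_right.2 fun y hy => ?_
        have : y ∈ sInf ((⊥ : Ideal D).minimalPrimes) := Ideal.mem_sInf.2 fun {p} hp =>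
          (hp.1.1.mem_or_mem (hy ▸ p.zero_mem : y * x ∈ p)).resolve_right (hn p hp)
        rw [Ideal.sInf_minimalPrimes, ← Ideal.zero_eq_bot] at this
        exact (mem_nilradical.1 this).eq_zero
      obtain ⟨a, ha, d', h⟩ := exists_mul_eq_algebraMap_sub D ⟨x, hxd⟩
      haveI := Hensel.faithfullyFlat_of_isStrictHenselization A S
      have haQ : algebraMap A S a ∈ Q := by
        have := congrArg Subtype.val h
        rw [show ((algebraMap A D a : D) : S) = algebraMap A S a from rfl] at this
        rw [← this]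
        exact Q.mul_mem_right _ hx
      have h3 : algebraMap A S a ∈ S⁰ := by
        refine mem_nonZeroDivisors_iff_right.2 fun w hw => ?_
        have hreg : IsSMulRegular S a := Module.Flat.isSMulRegular_of_nonZeroDivisors ha
        refine hreg ?_
        show a • w = a • (0 : S)
        rw [smul_zero, Algebra.smul_def, mul_comm, hw]
      exact Set.disjoint_left.1 (Ideal.disjoint_nonZeroDivisors_of_mem_minimalPrimes (p := Q) hQ) haQ h3
    obtain ⟨p, hp, hle⟩ := (Ideal.subset_union_prime ⊤ ⊤ (fun p hp _ _ => (hminD.mem_toFinset.1 hp).1.1)).1 hsub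
    exact (le_antisymm hle ((hminD.mem_toFinset.1 hp).2 ⟨inferInstance, bot_le⟩ hle)) ▸ hminD.mem_toFinset.1 hp
  let c : minimalPrimes S → minimalPrimes T := fun Q => ⟨Q.1.comap π, hmap Q.1 Q.2⟩
  have hc : Function.Injective c := fun P Q h =>
    Subtype.ext (Ideal.comap_injective_of_surjective π hsurj (congrArg Subtype.val h))
  haveI : Finite (minimalPrimes S) := (minimalPrimes.finite_of_isNoetherianRing S).to_subtype
  have hcardT := hcard T
  haveI : Finite (minimalPrimes T) := ENat.card_lt_top.1 (hcardT ▸ ENat.card_lt_top.2 inferInstance)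
  have hcard' : Nat.card (minimalPrimes T) ≤ Nat.card (minimalPrimes S) := by
    rw [ENat.card_eq_coe_natCard, ENat.card_eq_coe_natCard] at hcardT
    exact le_of_eq (by exact_mod_cast hcardT)
  have hbij := hc.bijective_of_nat_card_le hcard'
  have hinj : Function.Injective π := by
    rw [injective_iff_map_eq_zero]
    intro x hx
    refine (nilpotent_iff_mem_prime.2 fun J hJ => ?_).eq_zero
    obtain ⟨P, hP, hle⟩ := Ideal.exists_minimalPrimes_le (I := (⊥ : Ideal T)) (J := J) bot_le
    obtain ⟨Q, hQ⟩ := hbij.2 ⟨P, hP⟩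
    refine hle ?_
    rw [show P = Q.1.comap π from (congrArg Subtype.val hQ).symm, Ideal.mem_comap, hx]
    exact Q.1.zero_mem
  refine le_antisymm (Ideal.map_le_iff_le_comap.2 fun a ha => map_nonunit (algebraMap A D) a ha) fun x hx => ?_
  haveI := Hensel.faithfullyFlat_of_isStrictHenselization D T
  rw [← Ideal.comap_map_eq_self_of_faithfullyFlat (B := T) ((maximalIdeal A).map (algebraMap A D)), Ideal.mem_comap,
    Ideal.map_map]
  have hxS : algebraMap D S x ∈ (maximalIdeal A).map (algebraMap A S) := by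
    rw [Hensel.map_maximalIdeal_of_isStrictHenselization]
    exact map_nonunit (algebraMap D S) x hx
  have h1 : algebraMap D T x = back (algebraMap D S x) := hinj (by
    rw [show π (algebraMap D T x) = algebraMap D S x from RingHom.congr_fun hπ x]
    exact (RingHom.congr_fun hid _).symm)
  rw [h1]
  have h2 := Ideal.mem_map_of_mem back hxS
  rw [Ideal.map_map, hb] at h2
  exact h2

/-- The Jacobson radical of the tensor product of an integral algebra with an essentially étale algebra. -/
theorem jacobson_tensor {A S : Type u} [CommRing A] [IsLocalRing A] [CommRing S] [IsLocalRing S] [Algebra A S]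
    [IsLocalHom (algebraMap A S)] [Hensel.IsStrictHenselization A S] (A' D : Type u) [CommRing A'] [CommRing D]
    [IsLocalRing D] [Algebra A A'] [Algebra A D] [Algebra D S] [IsScalarTower A D S] [IsLocalHom (algebraMap A D)]
    [Module.FaithfullyFlat D S] [Algebra.IsIntegral A A']
    (hm : (maximalIdeal A).map (algebraMap A D) = maximalIdeal D) :
    Ideal.jacobson (⊥ : Ideal (A' ⊗[A] D)) =
      (Ideal.jacobson (⊥ : Ideal A')).map (Algebra.TensorProduct.includeLeft : A' →ₐ[A] A' ⊗[A] D) ⊔
        (maximalIdeal D).map (Algebra.TensorProduct.includeRight : D →ₐ[A] A' ⊗[A] D) := by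
  classical
  let R := A' ⊗[A] D
  let iL : A' →ₐ[A] R := Algebra.TensorProduct.includeLeft
  let iR : D →ₐ[A] R := Algebra.TensorProduct.includeRight
  have hiR : iR.toRingHom.IsIntegral := by
    intro z
    induction z using TensorProduct.induction_on with
    | zero => exact RingHom.isIntegralElem_zero _
    | add y z hy hz => exact RingHom.IsIntegralElem.add _ hy hz
    | tmul x d =>
      have h1 : iR.toRingHom.IsIntegralElem (iL x) := by
        obtain ⟨p, hp, hpx⟩ := Algebra.IsIntegral.isIntegral (R := A) x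
        refine ⟨p.map (algebraMap A D), hp.map _, ?_⟩
        rw [Polynomial.eval₂_map, show iR.toRingHom.comp (algebraMap A D) = algebraMap A R from iR.comp_algebraMap]
        have h2 := Polynomial.hom_eval₂ p (algebraMap A A') iL.toRingHom x
        rw [hpx, map_zero, show iL.toRingHom.comp (algebraMap A A') = algebraMap A R from iL.comp_algebraMap] at h2
        exact h2.symm
      have h : x ⊗ₜ[A] d = iL x * iR d :=
        (by rw [Algebra.TensorProduct.tmul_mul_tmul, mul_one, one_mul] : x ⊗ₜ[A] d = (x ⊗ₜ[A] (1 : D)) * ((1 : A') ⊗ₜ[A] d))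
      rw [h]
      exact RingHom.IsIntegralElem.mul _ h1 (RingHom.isIntegralElem_map _)
  have hmA' : ∀ (P : Ideal A') [P.IsMaximal], P.comap (algebraMap A A') = maximalIdeal A := fun P _ =>
    IsLocalRing.eq_maximalIdeal (Ideal.isMaximal_comap_of_isIntegral_of_isMaximal P)
  refine le_antisymm (fun z hz => ?_) (le_sInf ?_)
  · let R₀ := A' ⧸ Ideal.jacobson (⊥ : Ideal A')
    let μ : R →ₐ[A] R₀ ⊗[A] D :=
      Algebra.TensorProduct.map (Ideal.Quotient.mkₐ A (Ideal.jacobson (⊥ : Ideal A'))) (AlgHom.id A D)
    have hμk : RingHom.ker μ ≤ (Ideal.jacobson (⊥ : Ideal A')).map iL ⊔ (maximalIdeal D).map iR := by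
      rw [show RingHom.ker μ = _ from Algebra.TensorProduct.map_ker (Ideal.Quotient.mkₐ A (Ideal.jacobson (⊥ : Ideal A')))
        (AlgHom.id A D) Ideal.Quotient.mk_surjective Function.surjective_id]
      refine sup_le ?_ ?_
      · refine le_sup_of_le_left (Ideal.map_mono ?_)
        exact fun x hx => Ideal.Quotient.eq_zero_iff_mem.1 hx
      · refine Ideal.map_le_iff_le_comap.2 fun d hd => ?_
        rw [show d = 0 from hd]
        exact Ideal.zero_mem _
    refine hμk ?_
    haveI : IsReduced R₀ := (Ideal.isRadical_iff_quotient_reduced _).1 (Ideal.isRadical_jacobson ⊥)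
    haveI : IsReduced (R₀ ⊗[A] D) := by
      haveI := (Hensel.isHenzLike_of_isStrictHenselization A S).isReduced_tensor R₀
      let f : R₀ ⊗[A] D →ₐ[A] S ⊗[A] R₀ :=
        (Algebra.TensorProduct.map (IsScalarTower.toAlgHom A D S) (AlgHom.id A R₀)).comp
          (Algebra.TensorProduct.comm A R₀ D).toAlgHom
      refine isReduced_of_injective f ((?_ : Function.Injective
        (Algebra.TensorProduct.map (IsScalarTower.toAlgHom A D S) (AlgHom.id A R₀))).comp
          (Algebra.TensorProduct.comm A R₀ D).injective)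
      have h := (AlgebraTensorModule.cancelBaseChange A D D S R₀).injective.comp
        (Module.FaithfullyFlat.tensorProduct_mk_injective (A := D) (B := S) (D ⊗[A] R₀))
      intro y y' hyy
      refine h ?_
      have key : ∀ y : D ⊗[A] R₀, AlgebraTensorModule.cancelBaseChange A D D S R₀ ((1 : S) ⊗ₜ[D] y) =
          Algebra.TensorProduct.map (IsScalarTower.toAlgHom A D S) (AlgHom.id A R₀) y := fun y => by
        induction y using TensorProduct.induction_on with
        | zero => rw [TensorProduct.tmul_zero, map_zero, map_zero]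
        | tmul d r => simp [Algebra.smul_def]
        | add a b ha hb => rw [TensorProduct.tmul_add, map_add, map_add, ha, hb]
      show AlgebraTensorModule.cancelBaseChange A D D S R₀ ((1 : S) ⊗ₜ[D] y) =
        AlgebraTensorModule.cancelBaseChange A D D S R₀ ((1 : S) ⊗ₜ[D] y')
      rw [key, key, hyy]
    show μ z = 0
    refine (nilpotent_iff_mem_prime.2 fun J hJ => ?_).eq_zero
    let P := J.comap μ.toRingHom
    haveI : P.IsPrime := Ideal.IsPrime.comap _
    suffices P.IsMaximal from (sInf_le ⟨bot_le, this⟩ : Ideal.jacobson (⊥ : Ideal R) ≤ P) hz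
    refine Ideal.isMaximal_of_isIntegral_of_isMaximal_comap' iR.toRingHom hiR P ?_
    have hmle : (maximalIdeal D) ≤ P.comap iR.toRingHom := by
      rw [← hm, Ideal.map_le_iff_le_comap]
      intro a ha
      show μ (iR (algebraMap A D a)) ∈ J
      rw [AlgHom.commutes, ← iL.commutes]
      show μ (algebraMap A A' a ⊗ₜ[A] (1 : D)) ∈ J
      have h0 : Ideal.Quotient.mk (Ideal.jacobson (⊥ : Ideal A')) (algebraMap A A' a) = 0 :=
        Ideal.Quotient.eq_zero_iff_mem.2 (Ideal.mem_sInf.2 fun {P} ⟨_, hP⟩ => by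
          haveI : P.IsMaximal := hP
          exact (hmA' P).ge ha)
      rw [show μ (algebraMap A A' a ⊗ₜ[A] (1 : D)) =
        Ideal.Quotient.mk (Ideal.jacobson (⊥ : Ideal A')) (algebraMap A A' a) ⊗ₜ[A] (1 : D) from rfl, h0,
        TensorProduct.zero_tmul]
      exact J.zero_mem
    rw [← (IsLocalRing.maximalIdeal.isMaximal D).eq_of_le (Ideal.IsPrime.ne_top (Ideal.IsPrime.comap _)) hmle]
    infer_instance
  · rintro P ⟨-, hP⟩
    haveI : P.IsMaximal := hP
    have hPD : (P.comap iR.toRingHom) = maximalIdeal D :=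
      IsLocalRing.eq_maximalIdeal (Ideal.isMaximal_comap_of_isIntegral_of_isMaximal' iR.toRingHom hiR P)
    refine sup_le ?_ (Ideal.map_le_iff_le_comap.2 hPD.ge)
    refine Ideal.map_le_iff_le_comap.2 ?_
    haveI : (P.comap iL.toRingHom).IsPrime := Ideal.IsPrime.comap _
    refine sInf_le ⟨bot_le, Ideal.isMaximal_of_isIntegral_of_isMaximal_comap (R := A) (P.comap iL.toRingHom) ?_⟩
    have : (P.comap iL.toRingHom).comap (algebraMap A A') = (P.comap iR.toRingHom).comap (algebraMap A D) := by
      ext a
      show iL (algebraMap A A' a) ∈ P ↔ iR (algebraMap A D a) ∈ P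
      rw [AlgHom.commutes, AlgHom.commutes]
    rw [this, hPD, (((local_hom_TFAE (algebraMap A D)).out 0 4).1 ‹_› :
      (maximalIdeal D).comap (algebraMap A D) = maximalIdeal A)]
    infer_instance

end Groth.Agent.SHEss
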