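import Groth.Agent.EtAlg7.EssEtale
import Mathlib.RingTheory.Smooth.IntegralClosure
import Mathlib.RingTheory.Polynomial.ScaleRoots

/-!
# The normalization of an essentially étale algebra is a tensor product
-/

set_option autoImplicit false
set_option linter.style.haveILetI false
set_option maxHeartbeats 1000000
set_option synthInstance.maxHeartbeats 200000

universe u

open IsLocalRing Polynomial TensorProduct nonZeroDivisors

namespace Groth.Agent.SHEss

variable {A D K : Type u} [CommRing A] [CommRing D] [CommRing K] [Algebra A D] [Algebra A K] [Algebra D K]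
  [IsScalarTower A D K]

/-- Fractions of the base tensor a flat algebra inject. -/
theorem injective_productMap_of_frac [Module.Flat A D] (hDK : Function.Injective (algebraMap D K))
    (hu : ∀ a ∈ A⁰, IsUnit (algebraMap A K a)) (A' : Subalgebra A K)
    (hA' : ∀ x ∈ A', ∃ a ∈ A⁰, ∃ b : A, algebraMap A K a * x = algebraMap A K b) :
    Function.Injective (Algebra.TensorProduct.productMap A'.val (IsScalarTower.toAlgHom A D K)) := by
  rw [injective_iff_map_eq_zero]
  intro z hz
  have hrep : ∀ z : A' ⊗[A] D, ∃ a ∈ A⁰, ∃ d : D, a • z = (1 : A') ⊗ₜ[A] d := by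
    intro z
    induction z using TensorProduct.induction_on with
    | zero => exact ⟨1, one_mem _, 0, by rw [smul_zero, TensorProduct.tmul_zero]⟩
    | tmul x d =>
      obtain ⟨a, ha, b, h⟩ := hA' x x.2
      refine ⟨a, ha, b • d, ?_⟩
      have h' : a • x = b • (1 : A') := Subtype.ext (by
        show a • (x : K) = b • (1 : K)
        rw [Algebra.smul_def, Algebra.smul_def, mul_one]; exact h)
      rw [TensorProduct.smul_tmul', h', TensorProduct.smul_tmul]
    | add y z hy hz =>
      obtain ⟨a, ha, d, h⟩ := hy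
      obtain ⟨a', ha', d', h'⟩ := hz
      refine ⟨a * a', mul_mem ha ha', a' • d + a • d', ?_⟩
      rw [smul_add, TensorProduct.tmul_add, TensorProduct.tmul_smul, TensorProduct.tmul_smul, ← h, ← h', smul_smul,
        smul_smul, mul_comm a a']
  obtain ⟨a, ha, d, h⟩ := hrep z
  have h1 : algebraMap D K d = 0 := by
    have := congrArg (Algebra.TensorProduct.productMap A'.val (IsScalarTower.toAlgHom A D K)) h
    rw [map_smul, hz, smul_zero, Algebra.TensorProduct.productMap_apply_tmul, map_one, one_mul] at this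
    exact this.symm
  rw [hDK (h1.trans (map_zero _).symm), TensorProduct.tmul_zero] at h
  have hreg : IsSMulRegular A' a := fun x y hxy => Subtype.ext ((hu a ha).mul_left_cancel (by
    have := congrArg (fun t : A' => (t : K)) hxy
    simpa [Algebra.smul_def] using this))
  have hregT : Function.Injective (LinearMap.rTensor D (LinearMap.lsmul A A' a)) :=
    Module.Flat.rTensor_preserves_injective_linearMap _ hreg
  refine hregT ?_
  rw [map_zero]
  refine Eq.trans ?_ h
  clear * -
  induction z using TensorProduct.induction_on with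
  | zero => rw [map_zero, smul_zero]
  | tmul x d => rfl
  | add y z hy hz => rw [map_add, smul_add, hy, hz]

/-- Integral fractions over an essentially étale algebra come from integral fractions of the base. -/
theorem mem_range_productMap_of_isIntegral [IsLocalRing A] (hD : EGA4loc.IsEssentiallyEtale A D)
    (hDK : Function.Injective (algebraMap D K)) (hu : ∀ a ∈ A⁰, IsUnit (algebraMap A K a)) (A' : Subalgebra A K)
    (hA' : ∀ x : K, IsIntegral A x → (∃ a ∈ A⁰, ∃ b : A, algebraMap A K a * x = algebraMap A K b) → x ∈ A')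
    (x : K) (hx : IsIntegral D x) (hfrac : ∃ a ∈ A⁰, ∃ d : D, algebraMap A K a * x = algebraMap D K d) :
    x ∈ (Algebra.TensorProduct.productMap A'.val (IsScalarTower.toAlgHom A D K)).range := by
  classical
  obtain ⟨C, _, _, q, _, _, _, hC, -, hl⟩ := EtAlg7.exists_presentation hD
  haveI := hC
  letI : Algebra C K := ((algebraMap D K).comp (algebraMap C D)).toAlgebra
  haveI : IsScalarTower C D K := IsScalarTower.of_algebraMap_eq fun c => rfl
  haveI : IsScalarTower A C K := IsScalarTower.of_algebraMap_eq fun a => by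
    show algebraMap A K a = algebraMap D K (algebraMap C D (algebraMap A C a))
    rw [← IsScalarTower.algebraMap_apply A C D, ← IsScalarTower.algebraMap_apply A D K]
  obtain ⟨a, ha, d, had⟩ := hfrac
  obtain ⟨c₀, t, rfl⟩ := IsLocalization.exists_mk'_eq q.primeCompl d
  obtain ⟨t₁, ht₁⟩ := IsIntegral.exists_multiple_integral_of_isLocalization q.primeCompl (Rₘ := D) x hx
  rw [Submonoid.smul_def, Algebra.smul_def] at ht₁
  let KA := FractionRing A
  let g : KA →ₐ[A] K := IsLocalization.liftAlgHom (M := A⁰) (f := Algebra.ofId A K) fun y => hu y y.2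
  let Φ : C ⊗[A] KA →ₐ[C] K := Algebra.TensorProduct.lift (Algebra.ofId C K) g fun _ _ => Commute.all _ _
  have hΦ : ∀ c w, Φ (c ⊗ₜ[A] w) = algebraMap C K c * g w := fun c w => by simp [Φ]
  let ia : KA := IsLocalization.mk' KA (1 : A) (⟨a, ha⟩ : A⁰)
  have hia : g ia * algebraMap A K a = 1 := by
    rw [← g.commutes, ← map_mul, show ia * algebraMap A KA a = algebraMap A KA 1 from
      IsLocalization.mk'_spec KA (1 : A) (⟨a, ha⟩ : A⁰), map_one, map_one]
  let z : C ⊗[A] KA := ((t₁ : C) * c₀) ⊗ₜ[A] ia
  have hz : Φ z = algebraMap C K (t : C) * (algebraMap C K (t₁ : C) * x) := by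
    rw [hΦ, map_mul]
    have h1 : algebraMap C K (c₀) = algebraMap A K a * x * algebraMap C K (t : C) := by
      rw [had, IsScalarTower.algebraMap_apply C D K (t : C), ← map_mul, IsLocalization.mk'_spec,
        ← IsScalarTower.algebraMap_apply C D K]
    rw [h1]
    linear_combination (algebraMap C K (t₁ : C) * x * algebraMap C K (t : C)) * hia
  have hwint : IsIntegral C (Φ z) := by rw [hz]; exact isIntegral_algebraMap.mul ht₁
  obtain ⟨p₀, hp₀, hp₀z⟩ := hwint
  let p : C[X] := X * p₀
  have hp : p.Monic := monic_X.mul hp₀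
  have hpz : Φ (aeval z p) = 0 := by
    rw [← aeval_algHom_apply, map_mul, aeval_X, show aeval (Φ z) p₀ = 0 from hp₀z, mul_zero]
  -- the kernel is killed by denominators
  have hrep : ∀ w : C ⊗[A] KA, ∃ (c : C) (b : A⁰), w = c ⊗ₜ[A] IsLocalization.mk' KA (1 : A) b := by
    intro w
    induction w using TensorProduct.induction_on with
    | zero => exact ⟨0, 1, by rw [TensorProduct.zero_tmul]⟩
    | tmul c w =>
      obtain ⟨r, b, rfl⟩ := IsLocalization.exists_mk'_eq A⁰ w
      exact ⟨r • c, b, by rw [TensorProduct.smul_tmul, IsLocalization.smul_mk', mul_one]⟩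
    | add v w hv hw =>
      obtain ⟨c, b, rfl⟩ := hv
      obtain ⟨c', b', rfl⟩ := hw
      refine ⟨(b' : A) • c + (b : A) • c', b * b', ?_⟩
      rw [TensorProduct.add_tmul, TensorProduct.smul_tmul, TensorProduct.smul_tmul, IsLocalization.smul_mk',
        IsLocalization.smul_mk', mul_one, mul_one]
      congr 2
      · rw [mul_comm b b', ← mul_one (b' : A), IsLocalization.mk'_mul, IsLocalization.mk'_self, one_mul]
      · rw [← mul_one (b : A), IsLocalization.mk'_mul, IsLocalization.mk'_self, one_mul]
  obtain ⟨c, b, hcb⟩ := hrep (aeval z p)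
  have hc0 : algebraMap C D c = 0 := by
    apply hDK
    rw [map_zero, ← IsScalarTower.algebraMap_apply C D K]
    rw [hcb, hΦ] at hpz
    have hb : IsUnit (g (IsLocalization.mk' KA (1 : A) b)) := by
      refine IsUnit.of_mul_eq_one (algebraMap A K (b : A)) ?_
      rw [← g.commutes, ← map_mul, IsLocalization.mk'_spec, map_one, map_one]
    exact hb.mul_left_eq_zero.1 hpz
  obtain ⟨u, hu'⟩ := (IsLocalization.map_eq_zero_iff q.primeCompl D c).1 hc0
  have hzu : IsIntegral C (algebraMap C (C ⊗[A] KA) (u : C) * z) := by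
    have hkill : algebraMap C (C ⊗[A] KA) (u : C) * aeval z p = 0 := by
      rw [hcb, Algebra.TensorProduct.algebraMap_apply, Algebra.algebraMap_self, RingHom.id_apply,
        Algebra.TensorProduct.tmul_mul_tmul, hu', TensorProduct.zero_tmul]
    haveI : Nontrivial C := nontrivial_of_ne (0 : C) 1 fun h =>
      (inferInstance : q.IsPrime).ne_top ((Ideal.eq_top_iff_one q).2 (h ▸ q.zero_mem))
    have hn : 1 ≤ p.natDegree := by
      rw [monic_X.natDegree_mul hp₀, natDegree_X]; exact Nat.le_add_right 1 _
    refine ⟨p.scaleRoots (u : C), (monic_scaleRoots_iff _).2 hp, ?_⟩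
    rw [← aeval_def]
    have := scaleRoots_eval₂_mul (f := algebraMap C (C ⊗[A] KA)) (p := p) z (u : C)
    rw [← aeval_def, ← aeval_def] at this
    rw [this]
    obtain ⟨m, hm⟩ : ∃ m, p.natDegree = m + 1 := ⟨p.natDegree - 1, (Nat.sub_add_cancel hn).symm⟩
    rw [hm, pow_succ, mul_assoc, hkill, mul_zero]
  obtain ⟨y, hy⟩ := (TensorProduct.toIntegralClosure_bijective_of_smooth (R := A) (S := C) (B := KA)).2 ⟨_, hzu⟩
  let Ψ := Algebra.TensorProduct.productMap A'.val (IsScalarTower.toAlgHom A D K)
  have hΨD : ∀ d : D, algebraMap D K d ∈ Ψ.range := fun d => ⟨1 ⊗ₜ[A] d, by simp [Ψ]⟩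
  have key : ∀ y : C ⊗[A] integralClosure A KA,
      Φ ((TensorProduct.toIntegralClosure A C KA y : integralClosure C (C ⊗[A] KA)) : C ⊗[A] KA) ∈ Ψ.range := by
    intro y
    induction y using TensorProduct.induction_on with
    | zero => rw [map_zero, ZeroMemClass.coe_zero, map_zero]; exact Ψ.range.zero_mem
    | add v w hv hw => rw [map_add, AddMemClass.coe_add, map_add]; exact Ψ.range.add_mem hv hw
    | tmul c w =>
      simp only [TensorProduct.toIntegralClosure, AlgHom.coe_codRestrict, Algebra.TensorProduct.map_tmul,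
        AlgHom.coe_id, id_eq, Subalgebra.coe_val]
      rw [hΦ]
      obtain ⟨r, s, hrs⟩ := IsLocalization.exists_mk'_eq A⁰ (w : KA)
      have hwA : g (w : KA) ∈ A' := hA' _ (w.2.map g) ⟨s, s.2, r, by
        rw [← g.commutes, ← map_mul, mul_comm, ← hrs, IsLocalization.mk'_spec, g.commutes]⟩
      exact Ψ.range.mul_mem (IsScalarTower.algebraMap_apply C D K c ▸ hΨD _) ⟨⟨_, hwA⟩ ⊗ₜ[A] 1, by simp [Ψ]⟩
  have h1 := key y
  rw [hy] at h1
  have h2 : algebraMap D K (algebraMap C D ((u : C) * (t : C) * (t₁ : C))) * x ∈ Ψ.range := by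
    rw [← IsScalarTower.algebraMap_apply C D K, map_mul, map_mul]
    have h3 : Φ (algebraMap C (C ⊗[A] KA) (u : C) * z) = algebraMap C K (u : C) * algebraMap C K (t : C) * algebraMap C K (t₁ : C) * x := by
      rw [map_mul, AlgHom.commutes, hz]; ring
    exact h3 ▸ h1
  obtain ⟨v, hv⟩ := (IsLocalization.map_units D
    (⟨(u : C) * (t : C) * (t₁ : C), mul_mem (mul_mem u.2 t.2) t₁.2⟩ : q.primeCompl)).exists_left_inv
  have h4 : algebraMap D K v * (algebraMap D K (algebraMap C D ((u : C) * (t : C) * (t₁ : C))) * x) = x := by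
    rw [← mul_assoc, ← map_mul, hv, map_one, one_mul]
  exact h4 ▸ Ψ.range.mul_mem (hΨD v) h2

end Groth.Agent.SHEss
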