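import Groth.Agent.SHEss.PtsCriterion
import Groth.Agent.SHEss.SubFiniteType
import Groth.Agent.SHEss.Contain
import Groth.Agent.AcycFin.StrictLoc
import Groth.Agent.BrnchLib.SHTower
import Groth.Agent.SHEss.TensorNorm
import Groth.Agent.Hensel.Factor
import Mathlib.RingTheory.LocalRing.Module

/-!
# Henselizations of intermediate rings as unions of essentially étale subalgebras
-/

set_option autoImplicit false
set_option linter.style.haveILetI false
set_option maxHeartbeats 1000000
set_option synthInstance.maxHeartbeats 200000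

universe u

open IsLocalRing TensorProduct nonZeroDivisors Polynomial

namespace Groth.Agent.SHEss

/-- A dominated intermediate ring with as many geometric branches as the base has the same strict henselization. -/
theorem isStrictHenselization_of_card_eq {A S : Type u} [CommRing A] [IsLocalRing A] [IsReduced A] [IsNoetherianRing A]
    [CommRing S] [IsLocalRing S] [Algebra A S] [IsLocalHom (algebraMap A S)] [Hensel.IsStrictHenselization A S]
    (D : Subalgebra A S) [IsLocalRing D] [IsLocalHom (algebraMap D S)] [IsLocalHom (algebraMap A D)]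
    (hcard : ∀ (Dsh : Type u) [CommRing Dsh] [IsLocalRing Dsh] [Algebra D Dsh] [IsLocalHom (algebraMap D Dsh)]
      [Hensel.IsStrictHenselization D Dsh], ENat.card (minimalPrimes Dsh) = ENat.card (minimalPrimes S)) :
    Hensel.IsStrictHenselization D S := by
  classical
  have H : Hensel.IsStrictHenselization A S := inferInstance
  haveI : HenselianLocalRing S := H.henselian
  haveI := H.isSepClosure
  haveI : IsNoetherianRing S := (S0540.result A S).1 inferInstance
  haveI : IsReduced D := by
    haveI : IsReduced S := by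
      haveI := (Hensel.isHenzLike_of_isStrictHenselization A S).isReduced_tensor A
      exact isReduced_of_injective (Algebra.TensorProduct.rid A A S).symm (Algebra.TensorProduct.rid A A S).symm.injective
    exact isReduced_of_injective D.val Subtype.val_injective
  let T := Hensel.StrictHenz D
  have HT : Hensel.IsStrictHenselization D T := inferInstance
  haveI : HenselianLocalRing T := HT.henselian
  haveI := HT.isSepClosure
  haveI : IsSepClosure (ResidueField D) (ResidueField S) := by
    haveI : Algebra.IsSeparable (ResidueField A) (ResidueField S) := IsSepClosure.separable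
    exact ⟨IsSepClosure.sep_closed (ResidueField A),
      Algebra.isSeparable_tower_top_of_isSeparable (ResidueField A) (ResidueField D) (ResidueField S)⟩
  let α : ResidueField T ≃ₐ[ResidueField D] ResidueField S := IsSepClosure.equiv (ResidueField D) _ _
  obtain ⟨π, ⟨hπ, hπr⟩, -⟩ := HT.universal S (algebraMap D S) α.toAlgHom.toRingHom
    (RingHom.ext fun x => α.commutes x)
  letI : Algebra A T := ((algebraMap D T).comp (algebraMap A D)).toAlgebra
  haveI : IsScalarTower A D T := IsScalarTower.of_algebraMap_eq fun a => rfl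
  haveI : IsLocalHom (algebraMap A T) := RingHom.isLocalHom_comp (algebraMap D T) (algebraMap A D)
  obtain ⟨back, ⟨hb, hbr⟩, -⟩ := H.universal T (algebraMap A T) α.symm.toAlgHom.toRingHom (RingHom.ext fun x => by
    obtain ⟨a, rfl⟩ := residue_surjective x
    show α.symm (residue S (algebraMap A S a)) = residue T (algebraMap A T a)
    rw [show residue S (algebraMap A S a) =
      algebraMap (ResidueField D) (ResidueField S) (residue D (algebraMap A D a)) from rfl, α.symm.commutes]
    rfl)
  have hid : π.comp back = RingHom.id S := (H.universal S (algebraMap A S) (RingHom.id _) (RingHom.id_comp _)).unique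
    ⟨by
      rw [RingHom.comp_assoc, hb]
      show π.comp ((algebraMap D T).comp (algebraMap A D)) = _
      rw [← RingHom.comp_assoc, hπ]
      rfl, fun x => by
      show residue S (π (back x)) = residue S x
      rw [hπr]
      show α (residue T (back x)) = _
      rw [hbr]
      exact α.apply_symm_apply _⟩
    ⟨RingHom.id_comp _, fun x => rfl⟩
  have hsurj : Function.Surjective π := fun s => ⟨back s, RingHom.congr_fun hid s⟩
  have hTH := Hensel.isHenzLike_of_isStrictHenselization D T
  haveI : IsReduced T := by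
    haveI := hTH.isReduced_tensor D
    exact isReduced_of_injective (Algebra.TensorProduct.rid D D T).symm (Algebra.TensorProduct.rid D D T).symm.injective
  have hminD := finite_minimalPrimes_intermediate D
  have hmap : ∀ Q ∈ minimalPrimes S, Q.comap π ∈ minimalPrimes T := fun Q hQ => by
    haveI := hQ.1.1
    refine (BrnchLib.mem_minimalPrimes_iff_comap hTH).2 ?_
    rw [Ideal.comap_comap, hπ]
    haveI : (Q.comap (algebraMap D S)).IsPrime := Ideal.IsPrime.comap _
    have hsub : ((Q.comap (algebraMap D S) : Ideal D) : Set D) ⊆ ⋃ p ∈ hminD.toFinset, ((id p : Ideal D) : Set D) := by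
      intro x hx
      by_contra hn
      simp only [Set.mem_iUnion, Set.Finite.mem_toFinset, not_exists] at hn
      have hxd : x ∈ D⁰ := by
        refine mem_nonZeroDivisors_iff_right.2 fun y hy => ?_
        have : y ∈ sInf ((⊥ : Ideal D).minimalPrimes) := Ideal.mem_sInf.2 fun {p} hp =>
          (hp.1.1.mem_or_mem (hy ▸ p.zero_mem : y * x ∈ p)).resolve_right (hn p hp)
        rw [Ideal.sInf_minimalPrimes, ← Ideal.zero_eq_bot] at this
        exact (mem_nilradical.1 this).eq_zero
      obtain ⟨a, ha, d', h⟩ := exists_mul_eq_algebraMap_sub D ⟨x, hxd⟩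
      haveI := Hensel.faithfullyFlat_of_isStrictHenselization A S
      have haQ : algebraMap A S a ∈ Q := by
        have := congrArg Subtype.val h
        rw [show ((algebraMap A D a : D) : S) = algebraMap A S a from rfl] at this
        rw [← this]
        exact Q.mul_mem_right _ hx
      have h3 : algebraMap A S a ∈ S⁰ := by
        refine mem_nonZeroDivisors_iff_right.2 fun w hw => ?_
        have hreg : IsSMulRegular S a := Module.Flat.isSMulRegular_of_nonZeroDivisors ha
        refine hreg ?_
        show a • w = a • (0 : S)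
        rw [smul_zero, Algebra.smul_def, mul_comm, hw]
      exact Set.disjoint_left.1 (Ideal.disjoint_nonZeroDivisors_of_mem_minimalPrimes (p := Q) hQ) haQ h3
    obtain ⟨p, hp, hle⟩ := (Ideal.subset_union_prime ⊤ ⊤ (fun p hp _ _ => (hminD.mem_toFinset.1 hp).1.1)).1 hsub
    exact (le_antisymm hle ((hminD.mem_toFinset.1 hp).2 ⟨inferInstance, bot_le⟩ hle)) ▸ hminD.mem_toFinset.1 hp
  let c : minimalPrimes S → minimalPrimes T := fun Q => ⟨Q.1.comap π, hmap Q.1 Q.2⟩
  have hc : Function.Injective c := fun P Q h =>
    Subtype.ext (Ideal.comap_injective_of_surjective π hsurj (congrArg Subtype.val h))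
  haveI : Finite (minimalPrimes S) := (minimalPrimes.finite_of_isNoetherianRing S).to_subtype
  have hcardT := hcard T
  haveI : Finite (minimalPrimes T) := ENat.card_lt_top.1 (hcardT ▸ ENat.card_lt_top.2 inferInstance)
  have hcard' : Nat.card (minimalPrimes T) ≤ Nat.card (minimalPrimes S) := by
    rw [ENat.card_eq_coe_natCard, ENat.card_eq_coe_natCard] at hcardT
    exact le_of_eq (by exact_mod_cast hcardT)
  have hbij := hc.bijective_of_nat_card_le hcard'
  have hinj : Function.Injective π := by
    rw [injective_iff_map_eq_zero]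
    intro x hx
    refine (nilpotent_iff_mem_prime.2 fun J hJ => ?_).eq_zero
    obtain ⟨P, hP, hle⟩ := Ideal.exists_minimalPrimes_le (I := (⊥ : Ideal T)) (J := J) bot_le
    obtain ⟨Q, hQ⟩ := hbij.2 ⟨P, hP⟩
    refine hle ?_
    rw [show P = Q.1.comap π from (congrArg Subtype.val hQ).symm, Ideal.mem_comap, hx]
    exact Q.1.zero_mem
  haveI : IsSepClosed (ResidueField S) := IsSepClosure.sep_closed (ResidueField A)
  exact AcycFin.isStrictHenselization_of_bijective (RingEquiv.ofBijective π ⟨hinj, hsurj⟩) hπ

/-- Powers of an element are independent over a henselian base below the residual degree. -/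
theorem eq_zero_of_sum_pow {H S : Type u} [CommRing H] [IsLocalRing H] [CommRing S] [IsLocalRing S] [Algebra H S]
    [IsLocalHom (algebraMap H S)] [Module.Flat H S] (θ : S) (c : ℕ → H)
    (h : ∑ j ∈ Finset.range (minpoly (ResidueField H) (residue S θ)).natDegree, algebraMap H S (c j) * θ ^ j = 0)
    (j : ℕ) (hj : j < (minpoly (ResidueField H) (residue S θ)).natDegree) : c j = 0 := by
  let k := ResidueField H
  let m := (minpoly k (residue S θ)).natDegree
  let v : ULift.{u} (Fin m) → S := fun i => θ ^ (i.down : ℕ)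
  let L : k ⊗[H] S →ₗ[k] ResidueField S :=
    TensorProduct.AlgebraTensorModule.lift
      ((LinearMap.lsmul k (S →ₗ[H] ResidueField S)).flip (IsScalarTower.toAlgHom H S (ResidueField S)).toLinearMap)
  have hL : ∀ (r : k) (s : S), L (r ⊗ₜ[H] s) = r • residue S s := fun r s => rfl
  have hind : LinearIndependent H v := by
    refine Module.IsLocalRing.linearIndependent_of_flat v ?_
    refine LinearIndependent.of_comp L ?_
    have h1 := (linearIndependent_pow (K := k) (residue S θ)).comp (fun i : ULift.{u} (Fin m) => i.down) (fun x y hxy => ULift.ext x y hxy)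
    convert h1 using 1
    case' e'_7 =>
      refine Module.ext' _ _ fun r x => ?_
      obtain ⟨r, rfl⟩ := residue_surjective r
      obtain ⟨x, rfl⟩ := residue_surjective x
      rfl
    funext i
    show L ((1 : k) ⊗ₜ[H] v i) = _
    rw [hL, one_smul, map_pow]
    rfl
  have h2 := Fintype.linearIndependent_iff.1 hind (fun i => c i.down) (by
    rw [← Fin.sum_univ_eq_sum_range] at h
    rw [← h]
    exact Fintype.sum_equiv Equiv.ulift _ _ fun i => Algebra.smul_def _ _)
  exact h2 ⟨⟨j, hj⟩⟩

/-- A henselian local ring dominated by a strict henselization is a union of essentially étale local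
subalgebras of it. -/
theorem exists_essEtale_sub_of_henselian {A S : Type u} [CommRing A] [IsLocalRing A] [CommRing S] [IsLocalRing S]
    [Algebra A S] [IsLocalHom (algebraMap A S)] [Hensel.IsStrictHenselization A S]
    (H : Type u) [CommRing H] [HenselianLocalRing H] [Algebra A H] [Algebra H S] [IsScalarTower A H S]
    [IsLocalHom (algebraMap H S)] [Module.Flat H S] (s : Finset S) (hs : (s : Set S) ⊆ Set.range (algebraMap H S)) :
    ∃ E : Subalgebra A S, (s : Set S) ⊆ (E : Set S) ∧ (E : Set S) ⊆ Set.range (algebraMap H S) ∧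
      ∃ _ : IsLocalRing E, EGA4loc.IsEssentiallyEtale A E := by
  classical
  have hSH : Hensel.IsStrictHenselization A S := inferInstance
  obtain ⟨E₀, hsE, hE₀loc, hE₀l, hE₀⟩ := exists_essEtale_subalgebra (A := A) s
  haveI := EssEtLib.isLocalHom_algebraMap hE₀
  haveI := EtAlg7.formallyUnramified hE₀
  haveI := EtAlg7.essFiniteType hE₀
  obtain ⟨f, θ, hf, hθ, hθ', hgen⟩ := exists_simple_root (A := A) (E := E₀)
  have hev : ∀ p : A[X], aeval (θ : S) p = ((aeval θ p : E₀) : S) := fun p => aeval_algHom_apply E₀.val θ p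
  have hf0 : aeval (θ : S) f = 0 := by rw [hev, hθ]; rfl
  have hf' : IsUnit (aeval (θ : S) (derivative f)) := by rw [hev]; exact hθ'.map E₀.val
  haveI : IsLocalHom (algebraMap A H) := ⟨fun a ha => isUnit_of_map_unit (algebraMap A S) a (by
    rw [IsScalarTower.algebraMap_apply A H S]; exact ha.map _)⟩
  let k := ResidueField H
  let z : ResidueField S := residue S (θ : S)
  have hzev : ∀ p : A[X], residue S (aeval (θ : S) p) = aeval z (p.map ((residue H).comp (algebraMap A H))) := fun p => by
    rw [aeval_def, hom_eval₂, aeval_def, eval₂_map]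
    congr 1
    refine RingHom.ext fun a => ?_
    show residue S (algebraMap A S a) = algebraMap k (ResidueField S) (residue H (algebraMap A H a))
    rw [IsScalarTower.algebraMap_apply A H S]
    rfl
  let fk : k[X] := f.map ((residue H).comp (algebraMap A H))
  have hfk : fk.Monic := hf.map _
  have hzf : aeval z fk = 0 := by rw [← hzev, hf0, map_zero]
  have hzint : IsIntegral k z := ⟨fk, hfk, hzf⟩
  let g₀ : k[X] := minpoly k z
  have hg₀ : g₀.Monic := minpoly.monic hzint
  obtain ⟨h₀, hfac⟩ : g₀ ∣ fk := minpoly.dvd k z hzf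
  have hh₀ : h₀.Monic := hg₀.of_mul_monic_left (hfac ▸ hfk)
  have hcop : IsCoprime g₀ h₀ := by
    refine ((minpoly.irreducible hzint).coprime_iff_not_dvd).2 fun hdvd => ?_
    obtain ⟨w, hw⟩ := hdvd
    have h1 : aeval z (derivative fk) = 0 := by
      have h0 : aeval z g₀ = 0 := minpoly.aeval k z
      rw [hfac, hw]
      simp [derivative_mul, h0]
    rw [derivative_map, ← hzev] at h1
    exact (residue_eq_zero_iff _).1 h1 hf'
  haveI : HenselianRing H (maximalIdeal H) := (Hensel.henselianRing_maximalIdeal_iff H).2 inferInstance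
  let fH : H[X] := f.map (algebraMap A H)
  obtain ⟨g, h, hg, hh, hgh, hfgh, hgr, hhr⟩ := Hensel.exists_factor_lift (maximalIdeal H) (f := fH) (hf.map _)
    (g₀ := g₀) (h₀ := h₀) hg₀ hh₀ hcop ((Polynomial.map_map _ _ _).trans hfac)
  let m := g₀.natDegree
  have hgm : g.natDegree = m := by
    have := hg.natDegree_map (Ideal.Quotient.mk (maximalIdeal H))
    rw [hgr] at this
    exact this.symm
  have hn : f.natDegree = g.natDegree + h.natDegree := by
    rw [← hg.natDegree_mul hh, ← hfgh, hf.natDegree_map]
  let P : MonicDegreeEq A f.natDegree := .mk f hf rfl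
  let C := UniversalCoprimeFactorizationRing g.natDegree h.natDegree hn P
  let e := UniversalCoprimeFactorizationRing.homEquiv H g.natDegree h.natDegree hn P
  let φ : C →ₐ[A] H := e.symm ⟨(.mk g hg rfl, .mk h hh rfl), hfgh.symm, hgh⟩
  let gC : C[X] := (UniversalCoprimeFactorizationRing.homEquiv C g.natDegree h.natDegree hn P (AlgHom.id A C)).1.1.1
  have hgC : gC.Monic := MonicDegreeEq.monic _
  have hgCφ : gC.map φ.toRingHom = g := by
    have h1 := UniversalCoprimeFactorizationRing.homEquiv_comp_fst C g.natDegree h.natDegree hn P (AlgHom.id A C) φ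
    rw [AlgHom.comp_id, Equiv.apply_symm_apply] at h1
    exact (congrArg Subtype.val h1).symm
  haveI : Algebra.Etale A C := inferInstance
  let q : Ideal C := (maximalIdeal H).comap φ.toRingHom
  have hqA : q.comap (algebraMap A C) = maximalIdeal A := by
    rw [Ideal.comap_comap, show φ.toRingHom.comp (algebraMap A C) = algebraMap A H from φ.comp_algebraMap]
    exact (((local_hom_TFAE (algebraMap A H)).out 0 4).1 ‹_› :)
  let L := Localization.AtPrime q
  have hL : EGA4loc.IsEssentiallyEtale A L :=
    ⟨C, inferInstance, inferInstance, q, inferInstance, inferInstance, hqA, ⟨AlgEquiv.refl⟩⟩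
  haveI := EssEtLib.isLocalHom_algebraMap hL
  let πH : L →ₐ[A] H := IsLocalization.liftAlgHom (M := q.primeCompl) (f := φ) fun y => by
    by_contra hy
    exact y.2 hy
  have hπH : ∀ c : C, πH (algebraMap C L c) = φ c := fun c => IsLocalization.lift_eq _ c
  haveI : IsLocalHom πH.toRingHom := EtAlg7.isLocalHom_algHom hL πH
  let π : L →ₐ[A] S := (IsScalarTower.toAlgHom A H S).comp πH
  have hinj : Function.Injective π := injective_algHom hL π
  let ε : L ≃ₐ[A] π.range := AlgEquiv.ofInjective π hinj
  haveI : IsLocalRing π.range := ε.toRingEquiv.isLocalRing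
  refine ⟨π.range, fun x hx => ?_, ?_, inferInstance, ?_⟩
  · -- the coefficients
    have hθg : aeval (θ : S) g = 0 := by
      have h1 : aeval (θ : S) g * aeval (θ : S) h = 0 := by
        rw [← map_mul, ← hfgh, aeval_map_algebraMap, hf0]
      refine (IsUnit.mul_left_eq_zero ?_).1 h1
      by_contra hu
      have h2 : aeval z h₀ = 0 := by
        rw [show h₀ = h.map (residue H) from hhr.symm, aeval_def, eval₂_map]
        refine Eq.trans ?_ ((residue_eq_zero_iff _).2 hu)
        rw [aeval_def, hom_eval₂]
        rfl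
      obtain ⟨u, v, huv⟩ := hcop
      have h3 := congrArg (aeval z) huv
      rw [map_add, map_mul, map_mul, minpoly.aeval, h2, mul_zero, mul_zero, add_zero, map_one] at h3
      exact zero_ne_one h3
    let ιC : C →+* S := (algebraMap H S).comp φ.toRingHom
    have hιA : ιC.comp (algebraMap A C) = algebraMap A S := by
      rw [RingHom.comp_assoc, show φ.toRingHom.comp (algebraMap A C) = algebraMap A H from φ.comp_algebraMap,
        ← IsScalarTower.algebraMap_eq]
    have hgC0 : eval₂ ιC (θ : S) gC = 0 := by rw [← eval₂_map, hgCφ]; exact hθg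
    haveI : Nontrivial C := φ.toRingHom.domain_nontrivial
    have hgCm : gC.natDegree = m := by
      exact (hgC.natDegree_map φ.toRingHom).symm.trans ((congrArg natDegree hgCφ).trans hgm)
    have hgC1 : gC ≠ 1 := fun h1 => by
      have := minpoly.natDegree_pos hzint
      rw [h1, natDegree_one] at hgCm
      exact absurd hgCm.symm this.ne'
    have hred : ∀ p : A[X], ∃ r : C[X], r.natDegree < m ∧ eval₂ ιC (θ : S) r = aeval (θ : S) p := fun p => by
      refine ⟨p.map (algebraMap A C) %ₘ gC, hgCm ▸ natDegree_modByMonic_lt _ hgC hgC1, ?_⟩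
      have h1 := congrArg (eval₂ ιC (θ : S)) (modByMonic_add_div (p.map (algebraMap A C)) gC)
      rw [eval₂_add, eval₂_mul, hgC0, zero_mul, add_zero, eval₂_map, hιA] at h1
      exact h1
    obtain ⟨p₀, q₀, hq₀, hpq⟩ := hgen ⟨x, hsE hx⟩
    obtain ⟨rp, hrp, hrpv⟩ := hred p₀
    obtain ⟨rq, hrq, hrqv⟩ := hred q₀
    obtain ⟨y, hy⟩ := hs hx
    have hxq : x * eval₂ ιC (θ : S) rq = eval₂ ιC (θ : S) rp := by
      rw [hrpv, hrqv, hev, hev]
      exact congrArg Subtype.val hpq
    rw [eval₂_eq_sum_range' ιC hrp, eval₂_eq_sum_range' ιC hrq, Finset.mul_sum, ← sub_eq_zero, ← Finset.sum_sub_distrib] at hxq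
    have hzero : ∀ j < m, y * φ (rq.coeff j) - φ (rp.coeff j) = 0 := fun j hj =>
      eq_zero_of_sum_pow (θ : S) (fun j => y * φ (rq.coeff j) - φ (rp.coeff j)) (by
        refine Eq.trans (Finset.sum_congr rfl fun i _ => ?_) hxq
        rw [map_sub, map_mul, sub_mul, hy, mul_assoc]
        rfl) j hj
    obtain ⟨j, hj, hju⟩ : ∃ j < m, IsUnit (φ (rq.coeff j)) := by
      by_contra hcon
      push Not at hcon
      have h1 : eval₂ ιC (θ : S) rq ∈ maximalIdeal S := by
        rw [eval₂_eq_sum_range' ιC hrq]
        refine sum_mem fun j hj => Ideal.mul_mem_right _ _ ?_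
        exact map_nonunit (algebraMap H S) _ (hcon j (Finset.mem_range.1 hj))
      rw [hrqv, hev] at h1
      exact h1 (hq₀.map E₀.val)
    have hbu : IsUnit (algebraMap C L (rq.coeff j)) := isUnit_of_map_unit πH.toRingHom _ (by
      rw [show πH.toRingHom (algebraMap C L (rq.coeff j)) = φ (rq.coeff j) from hπH _]; exact hju)
    refine ⟨algebraMap C L (rp.coeff j) * ↑hbu.unit⁻¹, ?_⟩
    show algebraMap H S (πH _) = x
    rw [← hy]
    refine congrArg _ (hju.mul_right_cancel ?_)
    rw [← hπH (rq.coeff j), ← map_mul, mul_assoc, hbu.val_inv_mul, mul_one, hπH, hπH]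
    exact (sub_eq_zero.1 (hzero j hj)).symm
  · rintro _ ⟨l, rfl⟩
    exact ⟨πH l, rfl⟩
  · obtain ⟨C', _, _, q', _, hC', hq', ⟨e'⟩⟩ := hL
    exact ⟨C', inferInstance, inferInstance, q', inferInstance, hC', hq', ⟨ε.symm.trans e'⟩⟩

/-- Integral fractions over an intermediate ring below which the strict henselization is faithfully flat come
from integral fractions of the base. -/
theorem mem_range_productMap_of_ff {A D S K : Type u} [CommRing A] [IsLocalRing A] [CommRing D] [CommRing S]
    [IsLocalRing S] [CommRing K] [Algebra A D] [Algebra A S] [IsLocalHom (algebraMap A S)]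
    [Hensel.IsStrictHenselization A S] [Algebra D S] [IsScalarTower A D S] [Module.FaithfullyFlat D S] [Algebra A K]
    [Algebra S K] [IsScalarTower A S K] [Algebra D K] [IsScalarTower A D K] [IsScalarTower D S K]
    (hSK : Function.Injective (algebraMap S K)) (hu : ∀ a ∈ A⁰, IsUnit (algebraMap A K a)) (A' : Subalgebra A K)
    (hA' : ∀ x : K, x ∈ A' ↔ (IsIntegral A x ∧ ∃ a ∈ A⁰, ∃ b : A, algebraMap A K a * x = algebraMap A K b))
    (x : K) (hx : IsIntegral D x) (hfrac : ∃ a ∈ A⁰, ∃ d : D, algebraMap A K a * x = algebraMap D K d) :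
    x ∈ (Algebra.TensorProduct.productMap A'.val (IsScalarTower.toAlgHom A D K)).range := by
  classical
  obtain ⟨a, ha, d, had⟩ := hfrac
  obtain ⟨p, hp, hpx⟩ := hx
  let pS : S[X] := p.map (algebraMap D S)
  obtain ⟨E, hsE, hEloc, hEl, hE⟩ := exists_essEtale_subalgebra (A := A) (insert (algebraMap D S d) pS.coeffs)
  haveI := EssEtLib.isLocalHom_algebraMap hE
  have hco : ∀ n, pS.coeff n ∈ E := fun n => by
    by_cases h : pS.coeff n = 0
    · rw [h]; exact E.zero_mem
    · exact hsE (Finset.mem_insert_of_mem (coeff_mem_coeffs h))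
  obtain ⟨q, hq, -, hqm⟩ := lifts_and_natDegree_eq_and_monic
    ((lifts_iff_coeff_lifts (f := algebraMap E S) pS).mpr fun n => ⟨⟨_, hco n⟩, rfl⟩) (hp.map _)
  have hxE : IsIntegral E x := ⟨q, hqm, by
    rw [IsScalarTower.algebraMap_eq E S K, ← eval₂_map, hq, eval₂_map, ← IsScalarTower.algebraMap_eq]
    exact hpx⟩
  obtain ⟨z, hz⟩ := mem_range_productMap_of_isIntegral hE (hSK.comp Subtype.val_injective) hu A'
    (fun y hy hy' => (hA' y).2 ⟨hy, hy'⟩) x hxE ⟨a, ha, ⟨_, hsE (Finset.mem_insert_self _ _)⟩, by
      rw [had, IsScalarTower.algebraMap_apply D S K]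
      rfl⟩
  let J : A → Ideal A := fun c =>
    { carrier := {b | ∃ y ∈ A', algebraMap A K c * y = algebraMap A K b}
      zero_mem' := ⟨0, A'.zero_mem, by rw [mul_zero, map_zero]⟩
      add_mem' := by
        rintro b₁ b₂ ⟨y₁, h₁, e₁⟩ ⟨y₂, h₂, e₂⟩
        exact ⟨y₁ + y₂, A'.add_mem h₁ h₂, by rw [mul_add, e₁, e₂, map_add]⟩
      smul_mem' := by
        rintro r b ⟨y, h, e⟩
        exact ⟨algebraMap A K r * y, A'.mul_mem (A'.algebraMap_mem r) h, by
          rw [smul_eq_mul, map_mul, ← e]; ring⟩ }
  have hP : ∀ z, ∃ c ∈ A⁰, ∃ e ∈ (J c).map (algebraMap A S),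
      algebraMap A K c * Algebra.TensorProduct.productMap A'.val (IsScalarTower.toAlgHom A E K) z = algebraMap S K e := fun z => by
    induction z using TensorProduct.induction_on with
    | zero => exact ⟨1, one_mem _, 0, zero_mem _, by rw [map_zero, mul_zero, map_zero]⟩
    | tmul y w =>
      obtain ⟨-, c, hc, b, hb⟩ := (hA' _).1 y.2
      refine ⟨c, hc, algebraMap A S b * (w : S), Ideal.mul_mem_right _ _ (Ideal.mem_map_of_mem _ ⟨_, y.2, hb⟩), ?_⟩
      rw [Algebra.TensorProduct.productMap_apply_tmul, map_mul, ← IsScalarTower.algebraMap_apply A S K, ← hb, ← mul_assoc]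
      rfl
    | add u v hu' hv' =>
      obtain ⟨c₁, h₁, e₁, he₁, q₁⟩ := hu'
      obtain ⟨c₂, h₂, e₂, he₂, q₂⟩ := hv'
      have hJ : ∀ c c' : A, ∀ e ∈ (J c).map (algebraMap A S), algebraMap A S c' * e ∈ (J (c * c')).map (algebraMap A S) := fun c c' e he => by
        have h3 : (Ideal.span {c'} * J c).map (algebraMap A S) ≤ (J (c * c')).map (algebraMap A S) := by
          refine Ideal.map_mono (Ideal.span_singleton_mul_le_iff.2 ?_)
          rintro b ⟨y, hy, e⟩
          exact ⟨y, hy, by rw [map_mul, map_mul, ← e]; ring⟩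
        refine h3 ?_
        rw [Ideal.map_mul, Ideal.map_span, Set.image_singleton]
        exact Ideal.mul_mem_mul (Ideal.mem_span_singleton_self _) he
      refine ⟨c₁ * c₂, mul_mem h₁ h₂, algebraMap A S c₂ * e₁ + algebraMap A S c₁ * e₂,
        add_mem (hJ _ _ _ he₁) (mul_comm c₂ c₁ ▸ hJ _ _ _ he₂), ?_⟩
      rw [map_add, map_add, map_mul, map_mul, map_mul, ← IsScalarTower.algebraMap_apply A S K,
        ← IsScalarTower.algebraMap_apply A S K, ← q₁, ← q₂]
      ring
  obtain ⟨c, hc, e, he, hce⟩ := hP z
  rw [show Algebra.TensorProduct.productMap A'.val (IsScalarTower.toAlgHom A E K) z = x from hz] at hce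
  -- descend
  have h1 : algebraMap D S (algebraMap A D c * d) = algebraMap A S a * e := by
    apply hSK
    rw [map_mul, map_mul, map_mul, ← IsScalarTower.algebraMap_apply A D S, ← IsScalarTower.algebraMap_apply A S K,
      ← IsScalarTower.algebraMap_apply A S K, ← hce, ← IsScalarTower.algebraMap_apply D S K, ← had]
    ring
  have h2 : algebraMap A D c * d ∈ (Ideal.span {a} * J c).map (algebraMap A D) := by
    rw [← Ideal.comap_map_eq_self_of_faithfullyFlat (B := S) ((Ideal.span {a} * J c).map (algebraMap A D)),
      Ideal.mem_comap, Ideal.map_map, ← IsScalarTower.algebraMap_eq, h1, Ideal.map_mul, Ideal.map_span,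
      Set.image_singleton]
    exact Ideal.mul_mem_mul (Ideal.mem_span_singleton_self _) he
  rw [Ideal.map_mul, Ideal.map_span, Set.image_singleton, Ideal.mem_span_singleton_mul] at h2
  obtain ⟨d₁, hd₁, hd₁e⟩ := h2
  have h3 : algebraMap A K c * x = algebraMap D K d₁ := by
    refine (hu a ha).mul_left_cancel ?_
    rw [mul_left_comm, had, IsScalarTower.algebraMap_apply A D K c, ← map_mul, ← hd₁e, map_mul,
      ← IsScalarTower.algebraMap_apply A D K]
  obtain ⟨v, hv⟩ := (hu c hc).exists_left_inv
  have h4 : ∀ d' ∈ (J c).map (algebraMap A D),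
      v * algebraMap D K d' ∈ (Algebra.TensorProduct.productMap A'.val (IsScalarTower.toAlgHom A D K)).range := by
    intro d' hd'
    induction hd' using Submodule.span_induction with
    | mem d' hd' =>
      obtain ⟨b, ⟨y, hy, hyb⟩, rfl⟩ := hd'
      refine ⟨(⟨y, hy⟩ : A') ⊗ₜ[A] 1, ?_⟩
      rw [← IsScalarTower.algebraMap_apply A D K, ← hyb, ← mul_assoc, hv, one_mul]
      show Algebra.TensorProduct.productMap A'.val (IsScalarTower.toAlgHom A D K) _ = y
      rw [Algebra.TensorProduct.productMap_apply_tmul, map_one, mul_one]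
      rfl
    | zero => rw [map_zero, mul_zero]; exact zero_mem _
    | add u w _ _ hu' hw => rw [map_add, mul_add]; exact add_mem hu' hw
    | smul r u _ hu' =>
      rw [smul_eq_mul, map_mul, mul_left_comm]
      exact mul_mem ⟨1 ⊗ₜ[A] r, by simp⟩ hu'
  have h5 : v * algebraMap D K d₁ = x := by rw [← h3, ← mul_assoc, hv, one_mul]
  exact h5 ▸ h4 d₁ hd₁

/-- If the henselization of an intermediate ring is a union of essentially étale subalgebras, the strict
henselization of the base is one of it. -/
theorem isStrictHenselization_of_henselization_union {A S : Type u} [CommRing A] [IsLocalRing A] [CommRing S]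
    [IsLocalRing S] [Algebra A S] [IsLocalHom (algebraMap A S)] [Hensel.IsStrictHenselization A S]
    (D : Subalgebra A S) [IsLocalRing D] [IsLocalHom (algebraMap D S)]
    (Dh : Type u) [CommRing Dh] [IsLocalRing Dh] [Algebra D Dh] [IsLocalHom (algebraMap D Dh)]
    [Hensel.IsHenselization D Dh] [Algebra Dh S] [IsScalarTower D Dh S]
    (hinj : Function.Injective (algebraMap Dh S))
    (hun : ∀ s : Finset S, (s : Set S) ⊆ Set.range (algebraMap Dh S) →
          ∃ E : Subalgebra A S, (s : Set S) ⊆ (E : Set S) ∧ (E : Set S) ⊆ Set.range (algebraMap Dh S) ∧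
            ∃ _ : IsLocalRing E, EGA4loc.IsEssentiallyEtale A E) :
    Hensel.IsStrictHenselization D S := by
  classical
  have H : Hensel.IsStrictHenselization A S := inferInstance
  haveI := H.isSepClosure
  haveI : Algebra.IsSeparable (ResidueField A) (ResidueField S) := IsSepClosure.separable
  haveI : IsLocalHom (algebraMap A D) := ⟨fun a ha => isUnit_of_map_unit (algebraMap A S) a (ha.map D.val)⟩
  refine ⟨H.henselian, ⟨IsSepClosure.sep_closed (ResidueField A),
    Algebra.isSeparable_tower_top_of_isSeparable (ResidueField A) (ResidueField D) (ResidueField S)⟩,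
    fun T _ _ f _ τ hτ => ?_⟩
  haveI : IsLocalHom (algebraMap Dh S) := ((local_hom_TFAE (algebraMap Dh S)).out 0 2).2 (by
    rw [← Hensel.map_maximalIdeal_of_isHenselization D Dh, Ideal.map_map, ← IsScalarTower.algebraMap_eq]
    exact Ideal.map_le_iff_le_comap.2 fun d hd => map_nonunit (algebraMap D S) d hd)
  haveI : IsLocalHom (f.comp (algebraMap A D)) := RingHom.isLocalHom_comp f (algebraMap A D)
  obtain ⟨fh, hfh, -⟩ := (inferInstance : Hensel.IsHenselization D Dh).universal T f inferInstance
  obtain ⟨g, ⟨hg, hgr⟩, huniq⟩ := H.universal T (f.comp (algebraMap A D)) τ (by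
    ext x
    obtain ⟨a, rfl⟩ := residue_surjective x
    have := RingHom.congr_fun hτ (residue D (algebraMap A D a))
    rw [RingHom.comp_apply, ResidueField.map_residue, ResidueField.map_residue] at this
    exact this)
  have hfr : ∀ h : Dh, residue T (fh h) = τ (residue S (algebraMap Dh S h)) := fun h => by
    obtain ⟨d, hd⟩ := Hensel.exists_sub_mem_of_isHenselization D Dh h
    have hfhle : (maximalIdeal D).map (algebraMap D Dh) ≤ (maximalIdeal T).comap fh :=
      Ideal.map_le_iff_le_comap.2 fun d hd => by
        show fh (algebraMap D Dh d) ∈ maximalIdeal T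
        rw [← RingHom.comp_apply fh, hfh]
        exact map_nonunit f d hd
    have h1 : residue T (fh h) = residue T (f d) := by
      rw [← sub_eq_zero, ← map_sub, residue_eq_zero_iff, ← hfh, RingHom.comp_apply, ← map_sub]
      exact hfhle hd
    have h2 : residue S (algebraMap Dh S h) = residue S (algebraMap D S d) := by
      rw [← sub_eq_zero, ← map_sub, residue_eq_zero_iff, IsScalarTower.algebraMap_apply D Dh S, ← map_sub]
      rw [Hensel.map_maximalIdeal_of_isHenselization] at hd
      exact map_nonunit (algebraMap Dh S) _ hd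
    rw [h1, h2]
    have := RingHom.congr_fun hτ (residue D d)
    rw [RingHom.comp_apply, ResidueField.map_residue, ResidueField.map_residue] at this
    exact this.symm
  have key : g.comp (algebraMap Dh S) = fh := RingHom.ext fun h => by
    obtain ⟨E, hsE, hErange, hEloc, hE⟩ := hun {algebraMap Dh S h} (by simp)
    haveI := hEloc
    haveI := EssEtLib.isLocalHom_algebraMap hE
    letI : Algebra A T := (f.comp (algebraMap A D)).toAlgebra
    letI : Algebra A Dh := ((algebraMap D Dh).comp (algebraMap A D)).toAlgebra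
    haveI : IsScalarTower A Dh S := IsScalarTower.of_algebraMap_eq fun a => by
      show algebraMap A S a = algebraMap Dh S (algebraMap D Dh (algebraMap A D a))
      rw [← IsScalarTower.algebraMap_apply D Dh S]
      rfl
    let ι : Dh ≃ₐ[A] (IsScalarTower.toAlgHom A Dh S).range := AlgEquiv.ofInjective _ hinj
    let eH : E →ₐ[A] Dh := ι.symm.toAlgHom.comp (E.val.codRestrict _ fun e => hErange e.2)
    have heH : ∀ e : E, algebraMap Dh S (eH e) = (e : S) := fun e =>
      congrArg Subtype.val (ι.apply_symm_apply (E.val.codRestrict _ (fun e => hErange e.2) e))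
    let g' : E →ₐ[A] T := { g.comp (algebraMap E S) with commutes' := fun a => RingHom.congr_fun hg a }
    let f' : E →ₐ[A] T := { fh.comp eH.toRingHom with
      commutes' := fun a => by
        show fh (eH (algebraMap A E a)) = f (algebraMap A D a)
        rw [AlgHom.commutes]
        exact RingHom.congr_fun hfh _ }
    have he : g' = f' := EtAlg7.algHom_ext_residue hE g' f' fun e => by
      show residue T (g (e : S)) = residue T (fh (eH e))
      rw [hgr, hfr, heH]
    have hmem : algebraMap Dh S h ∈ E := hsE (Finset.mem_singleton_self _)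
    exact (DFunLike.congr_fun he ⟨_, hmem⟩).trans (congrArg fh (hinj (heH ⟨_, hmem⟩)))
  refine ⟨g, ⟨?_, hgr⟩, fun g₁ hg₁ => huniq g₁ ⟨?_, hg₁.2⟩⟩
  · rw [IsScalarTower.algebraMap_eq D Dh S, ← RingHom.comp_assoc, key, hfh]
  · rw [← hg₁.1, RingHom.comp_assoc]
    rfl

end Groth.Agent.SHEss
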