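import Groth.Agent.SHEss.FiniteSub
import Groth.Agent.S0540

/-!
# The ind-étale subalgebra of a strict henselization with prescribed residue field
-/

set_option autoImplicit false
set_option linter.style.haveILetI false
set_option maxHeartbeats 1000000
set_option synthInstance.maxHeartbeats 200000

universe u

open IsLocalRing Polynomial

namespace Groth.Agent.SHEss

variable {A S : Type u} [CommRing A] [HenselianLocalRing A] [IsNoetherianRing A] [CommRing S] [IsLocalRing S]
  [Algebra A S] [IsLocalHom (algebraMap A S)] [Hensel.IsStrictHenselization A S]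

theorem isSeparable_residue : Algebra.IsSeparable (ResidueField A) (ResidueField S) := by
  haveI := (inferInstance : Hensel.IsStrictHenselization A S).isSepClosure
  exact IsSepClosure.separable

omit [HenselianLocalRing A] [IsNoetherianRing A] [IsLocalHom (algebraMap A S)] [Hensel.IsStrictHenselization A S] in
theorem residue_aeval_eq [IsLocalRing A] [IsLocalHom (algebraMap A S)] (x : S) (p : A[X]) :
    residue S (aeval x p) = aeval (residue S x) (p.map (residue A)) := by
  rw [aeval_def, hom_eval₂, aeval_def, eval₂_map]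
  rfl

/-- Elements of the residue field generated by residues of a subalgebra are residues of it. -/
theorem exists_residue_of_mem_adjoin (U : Subalgebra A S) (Z : Set (ResidueField S))
    (hZ : ∀ z ∈ Z, ∃ e ∈ U, residue S e = z) (w : ResidueField S)
    (hw : w ∈ IntermediateField.adjoin (ResidueField A) Z) : ∃ e ∈ U, residue S e = w := by
  haveI := isSeparable_residue (A := A) (S := S)
  have hw' : w ∈ Algebra.adjoin (ResidueField A) Z := by
    rw [← IntermediateField.adjoin_toSubalgebra_of_isAlgebraic fun z _ => Algebra.IsAlgebraic.isAlgebraic z]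
    exact hw
  clear hw
  induction hw' using Algebra.adjoin_induction with
  | mem z hz => exact hZ z hz
  | algebraMap r =>
    obtain ⟨a, rfl⟩ := residue_surjective r
    exact ⟨algebraMap A S a, U.algebraMap_mem a, rfl⟩
  | add x y _ _ hx hy =>
    obtain ⟨a, ha, rfl⟩ := hx
    obtain ⟨b, hb, rfl⟩ := hy
    exact ⟨a + b, add_mem ha hb, map_add _ _ _⟩
  | mul x y _ _ hx hy =>
    obtain ⟨a, ha, rfl⟩ := hx
    obtain ⟨b, hb, rfl⟩ := hy
    exact ⟨a * b, mul_mem ha hb, map_mul _ _ _⟩

variable (A)

/-- An étale generator with residue in `k'`. -/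
def IsEtRoot (k' : IntermediateField (ResidueField A) (ResidueField S)) (θ : S) : Prop :=
  residue S θ ∈ k' ∧ ∃ f : A[X], f.Monic ∧ Irreducible (f.map (residue A)) ∧ (f.map (residue A)).Separable ∧
    aeval θ f = 0

/-- The union of the finite étale subalgebras with residues in `k'`. -/
def etUnion (k' : IntermediateField (ResidueField A) (ResidueField S)) : Subalgebra A S :=
  Algebra.adjoin A {θ : S | IsEtRoot A k' θ}

variable {A}

/-- Each element of the residue field is the residue of an étale generator. -/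
theorem exists_etRoot (k' : IntermediateField (ResidueField A) (ResidueField S)) (z : ResidueField S) (hz : z ∈ k') :
    ∃ θ, IsEtRoot A k' θ ∧ residue S θ = z := by
  haveI := isSeparable_residue (A := A) (S := S)
  have hint : IsIntegral (ResidueField A) z := Algebra.IsSeparable.isIntegral _ z
  obtain ⟨f, hfm, -, hf⟩ := lifts_and_natDegree_eq_and_monic
    ((lifts_iff_coeff_lifts (minpoly (ResidueField A) z)).mpr fun n => residue_surjective _) (minpoly.monic hint)
  have hsep : (f.map (residue A)).Separable := by rw [hfm]; exact Algebra.IsSeparable.isSeparable _ z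
  obtain ⟨hH, hHl, -⟩ := henselian_sub (⊤ : Subalgebra A S)
  haveI := hH
  haveI := hHl
  obtain ⟨s, hs⟩ := residue_surjective z
  obtain ⟨θ, -, hθ, hθr⟩ := exists_root (D := (⊤ : Subalgebra A S)) ⟨s, Algebra.mem_top⟩ f hf hsep (by
    rw [hfm]
    show aeval (residue S s) _ = 0
    rw [hs, minpoly.aeval])
  have hθz : residue S θ = z := hθr.trans hs
  exact ⟨θ, ⟨hθz ▸ hz, f, hf, by rw [hfm]; exact minpoly.irreducible hint, hsep, hθ⟩, hθz⟩

/-- A root with residue in that of a subalgebra lies in it. -/
theorem etRoot_mem (U : Subalgebra A S) (k' : IntermediateField (ResidueField A) (ResidueField S)) (θ : S)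
    (hθ : IsEtRoot A k' θ) (h : ∃ e ∈ U, residue S e = residue S θ) : θ ∈ U := by
  obtain ⟨-, f, hf, -, hsep, hθ0⟩ := hθ
  obtain ⟨e, he, her⟩ := h
  exact mem_of_root_residue U f hf hsep θ hθ0 ⟨e, he⟩ her.symm

/-- Two étale generators are contained in a third. -/
theorem exists_etRoot_pair (k' : IntermediateField (ResidueField A) (ResidueField S)) (θ₁ θ₂ : S)
    (h₁ : IsEtRoot A k' θ₁) (h₂ : IsEtRoot A k' θ₂) :
    ∃ θ, IsEtRoot A k' θ ∧ θ₁ ∈ Algebra.adjoin A ({θ} : Set S) ∧ θ₂ ∈ Algebra.adjoin A ({θ} : Set S) := by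
  classical
  haveI := isSeparable_residue (A := A) (S := S)
  let F := IntermediateField.adjoin (ResidueField A) ({residue S θ₁, residue S θ₂} : Set (ResidueField S))
  haveI : FiniteDimensional (ResidueField A) F :=
    IntermediateField.finiteDimensional_adjoin fun z _ => Algebra.IsSeparable.isIntegral _ z
  haveI : Algebra.IsSeparable (ResidueField A) F :=
    Algebra.IsSeparable.of_algHom (ResidueField A) (ResidueField S) F.val
  obtain ⟨z, hz⟩ := Field.exists_primitive_element (ResidueField A) F
  have hFk : F ≤ k' := IntermediateField.adjoin_le_iff.2 (by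
    rintro w (rfl | rfl)
    · exact h₁.1
    · exact h₂.1)
  obtain ⟨θ, hθ, hθz⟩ := exists_etRoot k' (z : ResidueField S) (hFk z.2)
  have hF : F = IntermediateField.adjoin (ResidueField A) ({(z : ResidueField S)} : Set (ResidueField S)) := by
    have := congrArg IntermediateField.lift hz
    rw [IntermediateField.lift_adjoin, IntermediateField.lift_top, Set.image_singleton] at this
    exact this.symm
  have hres : ∀ w ∈ F, ∃ e ∈ Algebra.adjoin A ({θ} : Set S), residue S e = w := fun w hw => by
    rw [hF] at hw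
    refine exists_residue_of_mem_adjoin _ _ (fun y hy => ?_) w hw
    rw [Set.mem_singleton_iff.1 hy]
    exact ⟨θ, Algebra.self_mem_adjoin_singleton A θ, hθz⟩
  exact ⟨θ, hθ, etRoot_mem _ k' θ₁ h₁ (hres _ (IntermediateField.subset_adjoin _ _ (Set.mem_insert _ _))),
    etRoot_mem _ k' θ₂ h₂ (hres _ (IntermediateField.subset_adjoin _ _ (Set.mem_insert_of_mem _ rfl)))⟩

/-- Every finite subset of the union lies in one finite étale piece. -/
theorem exists_etRoot_finset (k' : IntermediateField (ResidueField A) (ResidueField S)) (s : Finset S)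
    (hs : ∀ x ∈ s, x ∈ etUnion A k') :
    ∃ θ, IsEtRoot A k' θ ∧ ∀ x ∈ s, x ∈ Algebra.adjoin A ({θ} : Set S) := by
  classical
  obtain ⟨θ₀, hθ₀, -⟩ := exists_etRoot k' 0 (zero_mem k')
  have hstep : ∀ θ₁ θ₂, IsEtRoot A k' θ₁ → IsEtRoot A k' θ₂ → ∃ θ, IsEtRoot A k' θ ∧
      Algebra.adjoin A ({θ₁} : Set S) ≤ Algebra.adjoin A ({θ} : Set S) ∧
      Algebra.adjoin A ({θ₂} : Set S) ≤ Algebra.adjoin A ({θ} : Set S) := fun θ₁ θ₂ h₁ h₂ => by
    obtain ⟨θ, hθ, e₁, e₂⟩ := exists_etRoot_pair k' θ₁ θ₂ h₁ h₂
    exact ⟨θ, hθ, Algebra.adjoin_le (Set.singleton_subset_iff.2 e₁),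
      Algebra.adjoin_le (Set.singleton_subset_iff.2 e₂)⟩
  have hone : ∀ x ∈ etUnion A k', ∃ θ, IsEtRoot A k' θ ∧ x ∈ Algebra.adjoin A ({θ} : Set S) := by
    intro x hx
    induction hx using Algebra.adjoin_induction with
    | mem y hy => exact ⟨y, hy, Algebra.self_mem_adjoin_singleton A y⟩
    | algebraMap r => exact ⟨θ₀, hθ₀, Subalgebra.algebraMap_mem _ r⟩
    | add x y _ _ hx hy =>
      obtain ⟨θ₁, h₁, hx⟩ := hx
      obtain ⟨θ₂, h₂, hy⟩ := hy
      obtain ⟨θ, hθ, l₁, l₂⟩ := hstep θ₁ θ₂ h₁ h₂
      exact ⟨θ, hθ, add_mem (l₁ hx) (l₂ hy)⟩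
    | mul x y _ _ hx hy =>
      obtain ⟨θ₁, h₁, hx⟩ := hx
      obtain ⟨θ₂, h₂, hy⟩ := hy
      obtain ⟨θ, hθ, l₁, l₂⟩ := hstep θ₁ θ₂ h₁ h₂
      exact ⟨θ, hθ, mul_mem (l₁ hx) (l₂ hy)⟩
  induction s using Finset.induction with
  | empty => exact ⟨θ₀, hθ₀, by simp⟩
  | insert a s _ ih =>
    obtain ⟨θ₁, h₁, hs₁⟩ := ih fun x hx => hs x (Finset.mem_insert_of_mem hx)
    obtain ⟨θ₂, h₂, ha⟩ := hone a (hs a (Finset.mem_insert_self a s))
    obtain ⟨θ, hθ, l₁, l₂⟩ := hstep θ₁ θ₂ h₁ h₂
    refine ⟨θ, hθ, fun x hx => ?_⟩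
    rcases Finset.mem_insert.1 hx with rfl | hx
    · exact l₂ ha
    · exact l₁ (hs₁ x hx)

/-- The finite étale pieces lie inside the union. -/
theorem adjoin_le_etUnion (k' : IntermediateField (ResidueField A) (ResidueField S)) (θ : S) (hθ : IsEtRoot A k' θ) :
    Algebra.adjoin A ({θ} : Set S) ≤ etUnion A k' :=
  Algebra.adjoin_le (Set.singleton_subset_iff.2 (Algebra.subset_adjoin hθ))

/-- Each piece is finite, local and essentially étale with faithfully flat inclusion. -/
theorem piece_props (k' : IntermediateField (ResidueField A) (ResidueField S)) (θ : S) (hθ : IsEtRoot A k' θ) :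
    ∃ _ : HenselianLocalRing (Algebra.adjoin A ({θ} : Set S)),
      IsLocalHom (algebraMap (Algebra.adjoin A ({θ} : Set S)) S) ∧
      EGA4loc.IsEssentiallyEtale A (Algebra.adjoin A ({θ} : Set S)) ∧
      Module.Finite A (Algebra.adjoin A ({θ} : Set S)) ∧
      Module.FaithfullyFlat (Algebra.adjoin A ({θ} : Set S)) S := by
  obtain ⟨-, f, hf, hirr, hsep, hθ0⟩ := hθ
  obtain ⟨⟨hl, hlh, hE, hfin⟩, -⟩ := adjoin_root_props f hf hirr hsep θ hθ0
  haveI := hl
  haveI := hlh
  haveI := hfin
  haveI := EssEtLib.isLocalHom_algebraMap hE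
  haveI := isStrictHenselization_of_intermediate (S := S) hE
  exact ⟨Hensel.henselianLocalRing_of_isIntegral_local A _, hlh, hE, hfin,
    Hensel.faithfullyFlat_of_isStrictHenselization _ S⟩

/-- The union is Noetherian. -/
theorem isNoetherianRing_etUnion (k' : IntermediateField (ResidueField A) (ResidueField S)) :
    IsNoetherianRing (etUnion A k') := by
  classical
  haveI : IsNoetherianRing S := (S0540.result A S).1 inferInstance
  let U := etUnion A k'
  have hcomap : ∀ I : Ideal U, (I.map (algebraMap U S)).comap (algebraMap U S) = I := fun I => by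
    refine le_antisymm (fun x hx => ?_) Ideal.le_comap_map
    obtain ⟨T, hT, hxT⟩ := Submodule.mem_span_finite_of_mem_span (R := S)
      (show algebraMap U S x ∈ Submodule.span S ((algebraMap U S) '' (I : Set U)) from hx)
    obtain ⟨θ, hθ, hmem⟩ := exists_etRoot_finset k' (insert (x : S) T) fun y hy => by
      rcases Finset.mem_insert.1 hy with rfl | hy
      · exact x.2
      · obtain ⟨i, -, rfl⟩ := hT hy
        exact i.2
    obtain ⟨_, -, -, -, hff⟩ := piece_props k' θ hθ
    let E := Algebra.adjoin A ({θ} : Set S)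
    haveI : Module.FaithfullyFlat E S := hff
    let ι : E →+* U := (Subalgebra.inclusion (adjoin_le_etUnion k' θ hθ)).toRingHom
    let J : Ideal E := I.comap ι
    have hJ : (⟨(x : S), hmem _ (Finset.mem_insert_self _ _)⟩ : E) ∈ (J.map (algebraMap E S)).comap (algebraMap E S) := by
      rw [Ideal.mem_comap]
      refine Submodule.span_le.2 (fun y hy => ?_) hxT
      obtain ⟨i, hi, rfl⟩ := hT hy
      exact Ideal.mem_map_of_mem (algebraMap E S)
        (show (⟨_, hmem _ (Finset.mem_insert_of_mem hy)⟩ : E) ∈ J from by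
          show ι _ ∈ I
          convert hi
          rfl)
    rw [Ideal.comap_map_eq_self_of_faithfullyFlat J] at hJ
    have h1 : ι ⟨(x : S), hmem _ (Finset.mem_insert_self _ _)⟩ = x := Subtype.ext rfl
    exact h1 ▸ hJ
  let e : Ideal U ↪o Ideal S := OrderEmbedding.ofMapLEIff (fun I => I.map (algebraMap U S)) fun I J =>
    ⟨fun h => (hcomap I).symm.trans_le ((Ideal.comap_mono h).trans (hcomap J).le), fun h => Ideal.map_mono h⟩
  exact isNoetherianRing_iff.2 (isNoetherian_iff'.2 ⟨(InvImage.wf e wellFounded_gt).mono fun a b h => e.lt_iff_lt.2 h⟩)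

/-- The residue field of a subalgebra, as an intermediate field. -/
noncomputable abbrev resField (D : Subalgebra A S) : IntermediateField (ResidueField A) (ResidueField S) :=
  IntermediateField.adjoin (ResidueField A) (residue S '' (D : Set S))

/-- The union with the residue field of a subalgebra lies in it. -/
theorem etUnion_resField_le (D : Subalgebra A S) : etUnion A (resField D) ≤ D :=
  Algebra.adjoin_le fun θ hθ => etRoot_mem D _ θ hθ
    (exists_residue_of_mem_adjoin D (residue S '' (D : Set S)) (by rintro z ⟨d, hd, h⟩; exact ⟨d, hd, h⟩) _ hθ.1)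

/-- A subalgebra containing `etUnion` of its residue field and inside a finite residual extension of it is
Noetherian. -/
theorem isNoetherianRing_of_le_etUnion (D : Subalgebra A S) (Z : Set (ResidueField S)) (hZ : Z.Finite)
    (h : D ≤ etUnion A (resField D ⊔ IntermediateField.adjoin (ResidueField A) Z)) : IsNoetherianRing D := by
  classical
  let U₀ := etUnion A (resField D)
  haveI : IsNoetherianRing U₀ := isNoetherianRing_etUnion _
  haveI := isIntegral_sh A S
  choose θ hθ hθr using fun z : Z => exists_etRoot (⊤ : IntermediateField (ResidueField A) (ResidueField S)) z.1 trivial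
  haveI := hZ.to_subtype
  let W := Algebra.adjoin U₀ (Set.range θ)
  haveI : Module.Finite U₀ W := Module.Finite.of_fg (fg_adjoin_of_finite (Set.finite_range θ) fun y _ =>
    IsIntegral.tower_top (R := A) (Algebra.IsIntegral.isIntegral y))
  have hW : etUnion A (resField D ⊔ IntermediateField.adjoin (ResidueField A) Z) ≤ W.restrictScalars A := by
    refine Algebra.adjoin_le fun η hη => etRoot_mem _ _ η hη ?_
    have h1 := hη.1
    rw [resField, ← IntermediateField.adjoin_union] at h1
    refine exists_residue_of_mem_adjoin _ _ ?_ _ h1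
    rintro z (⟨d, hd, rfl⟩ | hz)
    · obtain ⟨η', hη', hη'r⟩ := exists_etRoot (resField D) (residue S d)
        (IntermediateField.subset_adjoin _ _ ⟨d, hd, rfl⟩)
      exact ⟨η', W.algebraMap_mem ⟨η', Algebra.subset_adjoin hη'⟩, hη'r⟩
    · exact ⟨θ ⟨z, hz⟩, Algebra.subset_adjoin ⟨_, rfl⟩, hθr _⟩
  letI : Algebra U₀ D := (Subalgebra.inclusion (etUnion_resField_le D)).toRingHom.toAlgebra
  haveI : IsNoetherian U₀ W := isNoetherian_of_isNoetherianRing_of_finite U₀ W
  let f : D →ₗ[U₀] W :=
    { toFun := fun x => ⟨x.1, hW (h x.2)⟩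
      map_add' := fun _ _ => rfl
      map_smul' := fun _ _ => rfl }
  haveI : IsNoetherian U₀ D := isNoetherian_of_injective f fun x y hxy => Subtype.ext (congrArg (fun t : W => (t : S)) hxy)
  exact isNoetherianRing_iff.2 (isNoetherian_of_tower U₀ ‹_›)

end Groth.Agent.SHEss
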