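import Groth.Agent.SHEss.FiniteSub
import Groth.Agent.SHEss.GeomBase
import Groth.Agent.SHEss.EtUnion

/-!
# A branch of a subalgebra of a strict henselization
-/

set_option autoImplicit false
set_option linter.style.haveILetI false
set_option maxHeartbeats 1600000
set_option synthInstance.maxHeartbeats 200000

universe u

open IsLocalRing Polynomial

namespace Groth.Agent.SHEss

/-- If the residues of branch elements rational over a subalgebra `D` come from a subalgebra `U` containing a
base `E` whose ideal extends to the branch, then `D` agrees with `U` on the branch. -/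
theorem exists_sub_mem_branch_sub {A S : Type u} [CommRing A] [CommRing S] [IsLocalRing S] [Algebra A S]
    (E : Type u) [CommRing E] [HenselianLocalRing E] [IsNoetherianRing E] [Algebra A E] [Algebra E S]
    [IsScalarTower A E S] [IsLocalHom (algebraMap E S)] [Hensel.IsStrictHenselization E S]
    (D : Subalgebra A S) (U : Subalgebra A S) (hEU : ∀ e : E, algebraMap E S e ∈ U)
    (Q : Ideal S) [Q.IsPrime] (hQ : (Q.comap (algebraMap E S)).map (algebraMap E S) = Q)
    (hres : ∀ u : S, algebraMap (S ⧸ Q) (FractionRing (S ⧸ Q)) (Ideal.Quotient.mk Q u) ∈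
      Subfield.closure (Set.range (((algebraMap (S ⧸ Q) (FractionRing (S ⧸ Q))).comp (Ideal.Quotient.mk Q)).comp
        D.val.toRingHom)) → ∃ e ∈ U, residue S u = residue S e)
    (hU : ∀ e : E, algebraMap (S ⧸ Q) (FractionRing (S ⧸ Q)) (Ideal.Quotient.mk Q (algebraMap E S e)) ∈
      Subfield.closure (Set.range (((algebraMap (S ⧸ Q) (FractionRing (S ⧸ Q))).comp (Ideal.Quotient.mk Q)).comp
        D.val.toRingHom)))
    (x : D) : ∃ e ∈ U, (x : S) - e ∈ Q := by
  classical
  let P : Ideal E := Q.comap (algebraMap E S)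
  haveI : P.IsPrime := Ideal.IsPrime.comap _
  let B := E ⧸ P
  haveI : HenselianLocalRing B := IsoNatLib.henselianLocalRing_quotient P (Ideal.IsPrime.ne_top inferInstance)
  haveI : IsLocalRing (S ⧸ Q) := .of_surjective' (Ideal.Quotient.mk Q) Ideal.Quotient.mk_surjective
  haveI : IsLocalHom (Ideal.Quotient.mk Q) := .of_surjective _ Ideal.Quotient.mk_surjective
  letI : Algebra B (S ⧸ Q) := (Ideal.quotientMap Q (algebraMap E S) le_rfl).toAlgebra
  haveI : IsScalarTower E B (S ⧸ Q) := IsScalarTower.of_algebraMap_eq (R := E) (S := B) (A := S ⧸ Q) fun e => rfl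
  haveI : IsLocalHom (algebraMap B (S ⧸ Q)) := by
    constructor
    intro b hb
    obtain ⟨b, rfl⟩ := Ideal.Quotient.mk_surjective b
    have hb' : IsUnit (Ideal.Quotient.mk Q (algebraMap E S b)) := hb
    exact (isUnit_of_map_unit (algebraMap E S) b (isUnit_of_map_unit _ _ hb')).map _
  haveI : Hensel.IsStrictHenselization B (S ⧸ Q) := isStrictHenselization_quotient' E S P Q hQ
  let K := FractionRing B
  let Kb := FractionRing (S ⧸ Q)
  let πS : S →+* Kb := (algebraMap (S ⧸ Q) Kb).comp (Ideal.Quotient.mk Q)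
  let C := Subfield.closure (Set.range (πS.comp D.val.toRingHom))
  haveI := Hensel.faithfullyFlat_of_isStrictHenselization B (S ⧸ Q)
  haveI : FaithfulSMul B Kb := (faithfulSMul_iff_algebraMap_injective B Kb).2 (by
    rw [IsScalarTower.algebraMap_eq B (S ⧸ Q) Kb]
    exact (IsFractionRing.injective (S ⧸ Q) Kb).comp (FaithfulSMul.algebraMap_injective B (S ⧸ Q)))
  letI : Algebra K Kb := FractionRing.liftAlgebra B Kb
  haveI : IsScalarTower B K Kb := inferInstance
  let t : Finset Kb := {πS (x : S)}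
  obtain ⟨f', θ', hf', hirr', hsep', hθ', hgen⟩ := exists_root_generating (A := B) (S := S ⧸ Q) K Kb t
  have hKC : ∀ c : K, algebraMap K Kb c ∈ C := fun c => by
    obtain ⟨a, b, -, rfl⟩ := IsFractionRing.div_surjective (A := B) c
    rw [map_div₀, ← IsScalarTower.algebraMap_apply B K Kb, ← IsScalarTower.algebraMap_apply B K Kb]
    obtain ⟨a, rfl⟩ := Ideal.Quotient.mk_surjective a
    obtain ⟨b, rfl⟩ := Ideal.Quotient.mk_surjective b
    exact C.div_mem (hU a) (hU b)
  obtain ⟨u, hu⟩ := Ideal.Quotient.mk_surjective θ'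
  have huC : algebraMap (S ⧸ Q) Kb (Ideal.Quotient.mk Q u) ∈ C := by
    have hle' : (IntermediateField.adjoin K (t : Set Kb)).toSubfield ≤ C := by
      rw [IntermediateField.adjoin_toSubfield]
      refine Subfield.closure_le.2 (Set.union_subset ?_ ?_)
      · rintro _ ⟨c, rfl⟩; exact hKC c
      · intro w hw
        rw [Finset.coe_singleton, Set.mem_singleton_iff] at hw
        exact hw ▸ Subfield.subset_closure ⟨x, rfl⟩
    rw [hu]
    exact hle' (hgen.le (IntermediateField.mem_adjoin_simple_self K _))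
  obtain ⟨e₂, he₂U, he₂⟩ := hres u huC
  let Ub : Subalgebra B (S ⧸ Q) :=
    { (U.map (Ideal.Quotient.mkₐ A Q)).toSubsemiring with
      algebraMap_mem' := fun b => by
        obtain ⟨e, rfl⟩ := Ideal.Quotient.mk_surjective b
        exact ⟨algebraMap E S e, hEU e, rfl⟩ }
  have hr : residue (S ⧸ Q) θ' = residue (S ⧸ Q) (((⟨Ideal.Quotient.mk Q e₂, e₂, he₂U, rfl⟩ : Ub)) : S ⧸ Q) := by
    rw [← hu]
    show residue (S ⧸ Q) (Ideal.Quotient.mk Q u) = residue (S ⧸ Q) (Ideal.Quotient.mk Q e₂)
    rw [← sub_eq_zero, ← map_sub, ← map_sub, residue_eq_zero_iff]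
    refine map_nonunit (Ideal.Quotient.mk Q) _ ?_
    rw [← residue_eq_zero_iff, map_sub, sub_eq_zero]
    exact he₂
  have hθ'B : θ' ∈ Ub := mem_of_root_residue (A := B) (S := S ⧸ Q) Ub f' hf' hsep' θ' hθ' _ hr
  have hxF : algebraMap (S ⧸ Q) Kb (Ideal.Quotient.mk Q (x : S)) ∈ IntermediateField.adjoin K (t : Set Kb) :=
    IntermediateField.subset_adjoin K _ (by rw [Finset.coe_singleton]; exact rfl)
  rw [← hgen] at hxF
  have h2 := mem_adjoin_of_mem_field K Kb f' hf' hirr' hsep' θ' hθ' _ hxF
  obtain ⟨e, he, hee⟩ := Algebra.adjoin_le (Set.singleton_subset_iff.2 hθ'B) h2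
  exact ⟨e, he, Ideal.Quotient.eq.1 hee.symm⟩

end Groth.Agent.SHEss
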