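import Groth.Agent.BrnchLib.HenzStrict
import Groth.Agent.BrnchLib.NormRedEquiv

/-!
# Geometric points of the normalization count the minimal primes of the strict henselization
-/

set_option autoImplicit false
set_option linter.style.haveILetI false
set_option synthInstance.maxHeartbeats 200000

universe u

open IsLocalRing Polynomial

namespace Groth.Agent.SHEss

/-- The minimal primes of a strict henselization of a reduced local ring correspond to the geometric points
of the normalization over the closed point. -/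
theorem card_minimalPrimes_sh_eq (R Rs : Type u) [CommRing R] [IsLocalRing R] [IsReduced R]
    (hmin : (minimalPrimes R).Finite) [CommRing Rs] [IsLocalRing Rs] [Algebra R Rs]
    [IsLocalHom (algebraMap R Rs)] [Hensel.IsStrictHenselization R Rs]
    (R' : Type u) [CommRing R'] (ι : R →+* R') (e : integralClosure R (FractionRing R) ≃+* R')
    (he : ∀ r, e (algebraMap R _ r) = ι r)
    (Ω : Type u) [Field Ω] [IsAlgClosed Ω] (j : ResidueField R →+* Ω) :
    ENat.card (minimalPrimes Rs) = ENat.card {σ : R' →+* Ω // σ.comp ι = j.comp (residue R)} := by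
  classical
  rw [BrnchLib.card_minimalPrimes_strictHenselization R Rs, Brnch.numGeomBranches, if_pos hmin]
  let k := ResidueField R
  let Ω₀ := AlgebraicClosure k
  letI : Algebra k Ω := j.toAlgebra
  let ε : Ω₀ →ₐ[k] Ω := IsAlgClosed.lift
  obtain ⟨e₁, he₁⟩ := BrnchLib.exists_normRed_equiv R
  let θ : CAlg2.normRed R ≃+* R' := e₁.symm.trans e
  have hθ : ∀ r : R, θ (algebraMap (CAlg2.red R) _ (Ideal.Quotient.mk (nilradical R) r)) = ι r := fun r => by
    show e (e₁.symm _) = _
    rw [← he₁, e₁.symm_apply_apply, he]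
  have htc : ∀ r : R, ε (Brnch.toClosure R r) = j (residue R r) := fun r => ε.commutes (residue R r)
  let F : (Σ m : MaximalSpectrum (CAlg2.normRed R), Brnch.Emb R m) →
      {σ : R' →+* Ω // σ.comp ι = j.comp (residue R)} := fun p =>
    ⟨(ε.toRingHom.comp (p.2.1.comp (Ideal.Quotient.mk p.1.asIdeal))).comp θ.symm.toRingHom, by
      refine RingHom.ext fun r => ?_
      show ε (p.2.1 (Ideal.Quotient.mk p.1.asIdeal (θ.symm (ι r)))) = j (residue R r)
      rw [← hθ, θ.symm_apply_apply, ← htc]
      exact congrArg ε (RingHom.congr_fun p.2.2 r)⟩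
  refine ENat.card_congr (Equiv.ofBijective F ⟨?_, ?_⟩)
  · rintro ⟨m, σ⟩ ⟨m', σ'⟩ h
    have h0 : ∀ x, σ.1 (Ideal.Quotient.mk m.asIdeal x) = σ'.1 (Ideal.Quotient.mk m'.asIdeal x) := fun x => by
      have := RingHom.congr_fun (congrArg Subtype.val h) (θ x)
      have h2 : ε (σ.1 (Ideal.Quotient.mk m.asIdeal (θ.symm (θ x)))) =
          ε (σ'.1 (Ideal.Quotient.mk m'.asIdeal (θ.symm (θ x)))) := this
      rw [θ.symm_apply_apply] at h2
      exact ε.toRingHom.injective h2
    have hm : m = m' := by
      refine MaximalSpectrum.ext (Ideal.ext fun x => ?_)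
      haveI := m.isMaximal
      haveI := m'.isMaximal
      letI := Ideal.Quotient.field m.asIdeal
      letI := Ideal.Quotient.field m'.asIdeal
      rw [← Ideal.Quotient.eq_zero_iff_mem, ← Ideal.Quotient.eq_zero_iff_mem, ← map_eq_zero σ.1, h0, map_eq_zero]
    subst hm
    exact congrArg (Sigma.mk m) (Subtype.ext (Ideal.Quotient.ringHom_ext (RingHom.ext h0)))
  · rintro ⟨σ, hσ⟩
    let τ : CAlg2.normRed R →+* Ω := σ.comp θ.toRingHom
    have hτR : ∀ r : R, τ (algebraMap (CAlg2.red R) _ (Ideal.Quotient.mk (nilradical R) r)) = j (residue R r) := fun r => by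
      show σ (θ _) = _
      rw [hθ]
      exact RingHom.congr_fun hσ r
    have hrange : ∀ z, ∃ w, ε w = τ z := by
      intro z
      obtain ⟨p, hp, hpz⟩ := Algebra.IsIntegral.isIntegral (R := CAlg2.red R) z
      obtain ⟨q, hq, -, hqm⟩ := lifts_and_natDegree_eq_and_monic
        ((lifts_iff_coeff_lifts (f := Ideal.Quotient.mk (nilradical R)) p).mpr fun n => Ideal.Quotient.mk_surjective _) hp
      let P : k[X] := q.map (residue R)
      have hroot : eval₂ (algebraMap k Ω) (τ z) P = 0 := by
        rw [eval₂_map]
        have h := congrArg τ hpz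
        rw [map_zero, hom_eval₂, ← hq, eval₂_map] at h
        refine Eq.trans ?_ h
        congr 1
        exact RingHom.ext fun r => (hτR r).symm
      have hPm : (P.map (algebraMap k Ω)).Monic := (hqm.map _).map _
      have hmem : τ z ∈ (P.map (algebraMap k Ω)).roots := (mem_roots hPm.ne_zero).2 (by
        rwa [IsRoot, eval_map])
      rw [show algebraMap k Ω = ε.toRingHom.comp (algebraMap k Ω₀) from ε.comp_algebraMap.symm, ← map_map,
        (IsAlgClosed.splits (P.map (algebraMap k Ω₀))).roots_map, Multiset.mem_map] at hmem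
      obtain ⟨w, -, hw⟩ := hmem
      exact ⟨w, hw⟩
    choose w hw using hrange
    let σ₀ : CAlg2.normRed R →+* Ω₀ :=
      { toFun := w
        map_one' := ε.toRingHom.injective (by show ε (w 1) = ε 1; rw [hw, map_one, map_one])
        map_mul' := fun x y => ε.toRingHom.injective (by
          show ε (w (x * y)) = ε (w x * w y)
          rw [hw, map_mul, map_mul, hw, hw])
        map_zero' := ε.toRingHom.injective (by show ε (w 0) = ε 0; rw [hw, map_zero, map_zero])
        map_add' := fun x y => ε.toRingHom.injective (by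
          show ε (w (x + y)) = ε (w x + w y)
          rw [hw, map_add, map_add, hw, hw]) }
    haveI hprime : (RingHom.ker σ₀).IsPrime := RingHom.ker_isPrime σ₀
    have hmax : (RingHom.ker σ₀).IsMaximal := by
      haveI : Algebra.IsIntegral R (CAlg2.normRed R) := BrnchLib.isIntegral_normRed R
      refine Ideal.isMaximal_of_isIntegral_of_isMaximal_comap (R := R) _ ?_
      have : (RingHom.ker σ₀).comap (algebraMap R (CAlg2.normRed R)) = maximalIdeal R := by
        ext r
        rw [Ideal.mem_comap, RingHom.mem_ker, ← residue_eq_zero_iff, ← map_eq_zero j, ← hτR,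
          ← map_eq_zero ε.toRingHom, IsScalarTower.algebraMap_apply R (CAlg2.red R) (CAlg2.normRed R)]
        show ε (w _) = 0 ↔ _
        rw [hw]
        rfl
      rw [this]; infer_instance
    let σm : CAlg2.normRed R ⧸ RingHom.ker σ₀ →+* Ω₀ := Ideal.Quotient.lift _ σ₀ fun a ha => ha
    have hσm : σm.comp (Brnch.toResidue R ⟨_, hmax⟩) = Brnch.toClosure R := RingHom.ext fun r => by
      refine ε.toRingHom.injective ?_
      show ε (w _) = ε (Brnch.toClosure R r)
      rw [hw, htc]
      exact hτR r
    refine ⟨⟨⟨_, hmax⟩, σm, hσm⟩, Subtype.ext (RingHom.ext fun x => ?_)⟩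
    show ε (w (θ.symm x)) = σ x
    rw [hw]
    show σ (θ (θ.symm x)) = σ x
    rw [θ.apply_symm_apply]

end Groth.Agent.SHEss
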