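import Groth.Agent.SHEss.Basic
import Groth.Agent.Hensel.EtaleResidueExt
import Groth.Agent.Hensel.IntegralStrict
import Groth.Agent.EssEtLib.LocalHom
import Mathlib.RingTheory.Adjoin.PowerBasis

/-!
# Finite étale subalgebras generated by a root inside a strict henselization of a henselian domain
-/

set_option autoImplicit false
set_option linter.style.haveILetI false

universe u

open IsLocalRing Polynomial nonZeroDivisors

namespace Groth.Agent.SHEss

variable {A S : Type u} [CommRing A] [HenselianLocalRing A] [CommRing S] [IsLocalRing S] [Algebra A S]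
  [IsLocalHom (algebraMap A S)] [Hensel.IsStrictHenselization A S]

/-- A root in a strict henselization of a monic polynomial with irreducible separable reduction generates an
essentially étale local subalgebra, free on the powers of the root. -/
theorem adjoin_root_props (f : A[X]) (hf : f.Monic) (hirr : Irreducible (f.map (residue A)))
    (hsep : (f.map (residue A)).Separable) (θ : S) (hθ : aeval θ f = 0) :
    (∃ _ : IsLocalRing (Algebra.adjoin A ({θ} : Set S)), IsLocalHom (algebraMap (Algebra.adjoin A ({θ} : Set S)) S) ∧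
      EGA4loc.IsEssentiallyEtale A (Algebra.adjoin A ({θ} : Set S)) ∧ Module.Finite A (Algebra.adjoin A ({θ} : Set S))) ∧
      ∀ p : A[X], aeval θ p = 0 → f ∣ p := by
  let φ : AdjoinRoot f →ₐ[A] S := AdjoinRoot.liftAlgHom f (Algebra.ofId A S) θ hθ
  have hφ : ∀ p, φ (AdjoinRoot.mk f p) = aeval θ p := fun p => AdjoinRoot.liftAlgHom_mk _ _ _ hθ p
  let χ : A →+* ResidueField A := residue A
  let π : AdjoinRoot f →+* AdjoinRoot (f.map χ) := AdjoinRoot.map χ f (f.map χ) dvd_rfl
  have hπmk : ∀ p, π (AdjoinRoot.mk f p) = AdjoinRoot.mk (f.map χ) (p.map χ) := fun p => by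
    rw [← AdjoinRoot.aeval_eq (p.map χ), aeval_def, eval₂_map]
    exact AdjoinRoot.lift_mk _ p
  haveI : Fact (Irreducible (f.map χ)) := ⟨hirr⟩
  have hπs : Function.Surjective π := fun z => by
    obtain ⟨q, rfl⟩ := AdjoinRoot.mk_surjective z
    obtain ⟨p, rfl⟩ := map_surjective χ residue_surjective q
    exact ⟨AdjoinRoot.mk f p, hπmk p⟩
  haveI : Module.Finite A (AdjoinRoot f) := hf.finite_adjoinRoot
  have hker : RingHom.ker π = (maximalIdeal A).map (algebraMap A (AdjoinRoot f)) := by
    refine le_antisymm (fun x hx => ?_) (Ideal.map_le_iff_le_comap.mpr fun a ha => ?_)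
    · obtain ⟨p, rfl⟩ := AdjoinRoot.mk_surjective x
      rw [RingHom.mem_ker, hπmk, AdjoinRoot.mk_eq_zero] at hx
      obtain ⟨q, hq⟩ := hx
      obtain ⟨q', rfl⟩ := map_surjective χ residue_surjective q
      have hr : p - f * q' ∈ RingHom.ker (mapRingHom χ) := by
        rw [RingHom.mem_ker, coe_mapRingHom, Polynomial.map_sub, Polynomial.map_mul, hq, sub_self]
      rw [ker_mapRingHom, ker_residue] at hr
      have hr' := Ideal.mem_map_of_mem (AdjoinRoot.mk f) hr
      rwa [map_sub, map_mul, AdjoinRoot.mk_self, zero_mul, sub_zero, Ideal.map_map] at hr'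
    · show π (AdjoinRoot.mk f (C a)) = 0
      rw [hπmk, map_C, (residue_eq_zero_iff a).mpr ha, map_zero, map_zero]
  have hM : (RingHom.ker π).IsMaximal := RingHom.ker_isMaximal_of_surjective π hπs
  have hjac : (maximalIdeal A).map (algebraMap A (AdjoinRoot f)) ≤ (⊥ : Ideal (AdjoinRoot f)).jacobson :=
    Hensel.map_maximalIdeal_le_jacobson A (AdjoinRoot f)
  have huniq : ∀ N : Ideal (AdjoinRoot f), N.IsMaximal → N = RingHom.ker π := fun N hN => by
    refine (hM.eq_of_le hN.ne_top ?_).symm
    exact hker.trans_le (hjac.trans (by rw [Ideal.jacobson]; exact sInf_le ⟨bot_le, hN⟩))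
  haveI : IsLocalRing (AdjoinRoot f) := IsLocalRing.of_unique_max_ideal ⟨_, hM, huniq⟩
  have hmax : maximalIdeal (AdjoinRoot f) = RingHom.ker π := huniq _ inferInstance
  haveI : IsLocalHom (algebraMap A (AdjoinRoot f)) :=
    ((local_hom_TFAE (algebraMap A (AdjoinRoot f))).out 0 2).mpr (hker.symm.trans_le hmax.ge)
  haveI : Algebra.Etale A (AdjoinRoot f) := Hensel.etale_adjoinRoot hf (by
    by_contra h
    have h0 : aeval (AdjoinRoot.root f) (derivative f) ∈ RingHom.ker π := hmax ▸ h
    rw [RingHom.mem_ker, AdjoinRoot.aeval_eq, hπmk, AdjoinRoot.mk_eq_zero, ← derivative_map] at h0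
    exact hirr.not_isUnit (hsep.isUnit_of_dvd' dvd_rfl h0))
  have hcomap : (maximalIdeal (AdjoinRoot f)).comap (algebraMap A (AdjoinRoot f)) = maximalIdeal A := by
    ext a
    rw [Ideal.mem_comap, mem_maximalIdeal, mem_maximalIdeal, mem_nonunits_iff, mem_nonunits_iff,
      isUnit_map_iff (algebraMap A (AdjoinRoot f))]
  let e : Localization.AtPrime (maximalIdeal (AdjoinRoot f)) ≃ₐ[AdjoinRoot f] AdjoinRoot f :=
    (IsLocalization.atUnits (AdjoinRoot f) (maximalIdeal (AdjoinRoot f)).primeCompl
      (fun x hx => IsLocalRing.notMem_maximalIdeal.1 hx)).symm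
  have hQ : EGA4loc.IsEssentiallyEtale A (AdjoinRoot f) :=
    ⟨AdjoinRoot f, inferInstance, inferInstance, maximalIdeal (AdjoinRoot f), inferInstance, inferInstance, hcomap,
      ⟨(e.restrictScalars A).symm⟩⟩
  have hinj : Function.Injective φ := injective_algHom hQ φ
  have hrange : φ.range = Algebra.adjoin A ({θ} : Set S) := by
    rw [Algebra.adjoin_singleton_eq_range_aeval]
    ext x
    constructor
    · rintro ⟨y, rfl⟩
      obtain ⟨p, rfl⟩ := AdjoinRoot.mk_surjective y
      exact ⟨p, (hφ p).symm⟩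
    · rintro ⟨p, rfl⟩
      exact ⟨AdjoinRoot.mk f p, hφ p⟩
  let ε : AdjoinRoot f ≃ₐ[A] Algebra.adjoin A ({θ} : Set S) :=
    (AlgEquiv.ofInjective φ hinj).trans (Subalgebra.equivOfEq _ _ hrange)
  have hε : ∀ x, (ε x : S) = φ x := fun x => rfl
  haveI : IsLocalRing (Algebra.adjoin A ({θ} : Set S)) := ε.toRingEquiv.isLocalRing
  refine ⟨⟨inferInstance, ⟨fun y hy => ?_⟩, ?_, Module.Finite.equiv ε.toLinearEquiv⟩, fun p hp => ?_⟩
  · obtain ⟨x, rfl⟩ := ε.surjective y
    haveI : IsLocalHom φ.toRingHom := EtAlg7.isLocalHom_algHom hQ φ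
    exact (isUnit_of_map_unit φ.toRingHom x hy).map ε
  · obtain ⟨C, _, _, q, _, hC, hq, ⟨e'⟩⟩ := hQ
    exact ⟨C, inferInstance, inferInstance, q, inferInstance, hC, hq, ⟨ε.symm.trans e'⟩⟩
  · rw [← AdjoinRoot.mk_eq_zero]
    exact hinj (by rw [hφ, hp, map_zero])

/-- Roots of polynomials with separable reduction exist in henselian local intermediate rings containing a
lift of a residual root. -/
theorem exists_root {D : Subalgebra A S} [HenselianLocalRing D] [IsLocalHom (algebraMap D S)] (d₀ : D) (f : A[X])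
    (hf : f.Monic) (hsep : (f.map (residue A)).Separable)
    (h0 : aeval (residue S (d₀ : S)) (f.map (residue A)) = 0) :
    ∃ θ : S, θ ∈ D ∧ aeval θ f = 0 ∧ residue S θ = residue S (d₀ : S) := by
  have hev : ∀ p : A[X], residue S (aeval (d₀ : S) p) = aeval (residue S (d₀ : S)) (p.map (residue A)) := fun p => by
    rw [aeval_def, hom_eval₂, aeval_def, eval₂_map]
    rfl
  have hmem : ∀ d : D, residue S (d : S) = 0 → d ∈ maximalIdeal D := fun d hd hu => by
    rw [residue_eq_zero_iff] at hd
    exact hd (hu.map D.val)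
  obtain ⟨r, hr, hr'⟩ := HenselianLocalRing.is_henselian (f.map (algebraMap A D)) (hf.map _) d₀
    (hmem _ (by
      rw [eval_map, show ((eval₂ (algebraMap A D) d₀ f : D) : S) = aeval (d₀ : S) f from
        Polynomial.hom_eval₂ f (algebraMap A D) D.val.toRingHom d₀, hev, h0]))
    (by
      by_contra hu
      have hu' : residue S ((eval d₀ (derivative (f.map (algebraMap A D))) : D) : S) = 0 := by
        rw [residue_eq_zero_iff]
        exact fun h => hu (isUnit_of_map_unit (algebraMap D S) _ h)
      rw [derivative_map, eval_map, show ((eval₂ (algebraMap A D) d₀ (derivative f) : D) : S) = aeval (d₀ : S) (derivative f)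
        from Polynomial.hom_eval₂ _ (algebraMap A D) D.val.toRingHom d₀, hev, ← derivative_map] at hu'
      exact hsep.aeval_derivative_ne_zero h0 hu')
  refine ⟨r, r.2, ?_, ?_⟩
  · have : ((eval r (f.map (algebraMap A D)) : D) : S) = 0 := congrArg Subtype.val hr.eq_zero
    rwa [eval_map, show ((eval₂ (algebraMap A D) r f : D) : S) = aeval (r : S) f from
      Polynomial.hom_eval₂ f (algebraMap A D) D.val.toRingHom r] at this
  · rw [← sub_eq_zero, ← map_sub, residue_eq_zero_iff]
    exact fun h => hr' (isUnit_of_map_unit (algebraMap D S) (r - d₀) h)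

end Groth.Agent.SHEss
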