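import Groth.Agent.SHEss.Root
import Mathlib.FieldTheory.IsSepClosed

/-!
# Splitting of polynomials with separable reduction in a strict henselization
-/

set_option autoImplicit false
set_option linter.style.haveILetI false

universe u

open IsLocalRing Polynomial

namespace Groth.Agent.SHEss

variable {A S : Type u} [CommRing A] [HenselianLocalRing A] [CommRing S] [IsLocalRing S] [Algebra A S]
  [IsLocalHom (algebraMap A S)] [Hensel.IsStrictHenselization A S]

/-- A monic polynomial with separable reduction splits in a strict henselization. -/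
theorem exists_eq_prod_roots (f : A[X]) (hf : f.Monic) (hsep : (f.map (residue A)).Separable) :
    ∃ m : Multiset S, f.map (algebraMap A S) = (m.map fun a => X - C a).prod := by
  classical
  let ks := ResidueField S
  let k := ResidueField A
  have hH : Hensel.IsStrictHenselization A S := inferInstance
  haveI := hH.isSepClosure
  haveI : HenselianLocalRing S := hH.henselian
  haveI : IsSepClosed ks := IsSepClosure.sep_closed k
  haveI : IsLocalRing (⊤ : Subalgebra A S) := (Subalgebra.topEquiv (R := A) (A := S)).symm.toRingEquiv.isLocalRing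
  haveI : HenselianLocalRing (⊤ : Subalgebra A S) := Hensel.henselianLocalRing_of_ringEquiv (Subalgebra.topEquiv).symm.toRingEquiv
  haveI : IsLocalHom (algebraMap (⊤ : Subalgebra A S) S) := ⟨fun d hd => hd.map (Subalgebra.topEquiv (R := A) (A := S)).symm⟩
  have key : ∀ (g : S[X]) (R : Multiset ks), g.Monic → R.card = g.natDegree → R.Nodup →
      (∀ w ∈ R, ∃ s : S, g.IsRoot s ∧ residue S s = w) → ∃ m : Multiset S, g = (m.map fun a => X - C a).prod := by
    intro g R
    induction R using Multiset.induction_on generalizing g with
    | empty =>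
      intro hg hc _ _
      exact ⟨0, by rw [Multiset.map_zero, Multiset.prod_zero, hg.natDegree_eq_zero.1 hc.symm]⟩
    | cons w R ih =>
      intro hg hc hnd h
      obtain ⟨s, hs, hsw⟩ := h w (Multiset.mem_cons_self _ _)
      obtain ⟨g', rfl⟩ := dvd_iff_isRoot.2 hs
      have hg' : g'.Monic := (monic_X_sub_C s).of_mul_monic_left hg
      rw [Multiset.card_cons, (monic_X_sub_C s).natDegree_mul hg', natDegree_X_sub_C] at hc
      rw [Multiset.nodup_cons] at hnd
      obtain ⟨m, hm⟩ := ih g' hg' (by omega) hnd.2 fun v hv => by
        obtain ⟨t, ht, htv⟩ := h v (Multiset.mem_cons_of_mem hv)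
        refine ⟨t, ?_, htv⟩
        rw [IsRoot, eval_mul, eval_sub, eval_X, eval_C] at ht
        have hu : IsUnit (t - s) := by
          by_contra hn
          have := (residue_eq_zero_iff (t - s)).2 hn
          rw [map_sub, sub_eq_zero, htv, hsw] at this
          exact hnd.1 (this ▸ hv)
        exact hu.mul_right_eq_zero.1 ht
      exact ⟨s ::ₘ m, by rw [Multiset.map_cons, Multiset.prod_cons, ← hm]⟩
  have hsplit : ((f.map (residue A)).map (algebraMap k ks)).Splits := IsSepClosed.splits_of_separable _ hsep.map
  refine key _ ((f.map (residue A)).map (algebraMap k ks)).roots (hf.map _) ?_ (nodup_roots hsep.map) fun w hw => ?_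
  · rw [← hsplit.natDegree_eq_card_roots, natDegree_map, hf.natDegree_map, hf.natDegree_map]
  · obtain ⟨s, hs⟩ := residue_surjective w
    rw [mem_roots ((hf.map _).map _).ne_zero, IsRoot, eval_map, ← aeval_def] at hw
    obtain ⟨r, -, hr, hr'⟩ := exists_root (D := (⊤ : Subalgebra A S)) ⟨s, trivial⟩ f hf hsep
      (by show aeval (residue S s) _ = 0; rwa [hs])
    exact ⟨r, by rwa [IsRoot, eval_map, ← aeval_def], hr'.trans hs⟩

end Groth.Agent.SHEss
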