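import Groth.Agent.SHEss.Basic
import Groth.Agent.S16438
import Groth.Agent.S2781
import Groth.Agent.EtNorm.Basic
import Groth.Agent.EssEtLib.LocalHom
import Groth.Agent.Hensel.HenselizationNormal
import Mathlib.RingTheory.Algebraic.Integral

/-!
# Saturated subalgebras of essentially étale algebras over a normal local domain
-/

set_option autoImplicit false
set_option linter.style.haveILetI false

universe u

open IsLocalRing TensorProduct nonZeroDivisors

namespace Groth.Agent.SHEss

/-- An essentially finite type unramified domain over a domain is algebraic over it. -/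
theorem isAlgebraic_of_unramified (A D : Type u) [CommRing A] [IsDomain A] [CommRing D] [IsDomain D]
    [Algebra A D] [Algebra.FormallyUnramified A D] [Algebra.EssFiniteType A D]
    (hinj : Function.Injective (algebraMap A D)) (x : D) : IsAlgebraic A x := by
  let K := FractionRing A
  let L := FractionRing D
  haveI : FaithfulSMul A D := (faithfulSMul_iff_algebraMap_injective A D).2 hinj
  haveI : FaithfulSMul A L := (faithfulSMul_iff_algebraMap_injective A L).2 (by
    rw [IsScalarTower.algebraMap_eq A D L]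
    exact (IsFractionRing.injective D L).comp hinj)
  letI : Algebra K L := FractionRing.liftAlgebra A L
  haveI : IsScalarTower A K L := inferInstance
  haveI : Algebra.FormallyUnramified D L :=
    Algebra.FormallyUnramified.of_isLocalization D⁰
  haveI : Algebra.FormallyUnramified A L := Algebra.FormallyUnramified.comp A D L
  haveI : Algebra.FormallyUnramified K L := Algebra.FormallyUnramified.of_restrictScalars A K L
  haveI : Algebra.EssFiniteType D L := Algebra.EssFiniteType.of_isLocalization L D⁰
  haveI : Algebra.EssFiniteType A L := Algebra.EssFiniteType.comp A D L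
  haveI : Algebra.EssFiniteType K L := Algebra.EssFiniteType.of_comp A K L
  haveI : Module.Finite K L := Algebra.FormallyUnramified.finite_of_free K L
  haveI : Algebra.IsAlgebraic A L := (IsFractionRing.comap_isAlgebraic_iff (A := A) (K := K) (C := L)).mpr inferInstance
  exact (isAlgebraic_algebraMap_iff (A := L) (IsFractionRing.injective D L)).1 (Algebra.IsAlgebraic.isAlgebraic _)

/-- A strict henselization of a normal local domain is a normal domain. -/
theorem isDomain_normal_sh (R S : Type u) [CommRing R] [IsLocalRing R] [IsDomain R] [IsIntegrallyClosed R]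
    [CommRing S] [IsLocalRing S] [Algebra R S] [IsLocalHom (algebraMap R S)]
    [Hensel.IsStrictHenselization R S] : IsDomain S ∧ IsIntegrallyClosed S := by
  obtain ⟨e⟩ := Hensel.exists_algEquiv_strictHenz R S
  obtain ⟨h1, h2⟩ := Hensel.isDomain_isIntegrallyClosed_henz (R := R) (L := SeparableClosure (ResidueField R))
  exact ⟨e.toRingEquiv.symm.toMulEquiv.isDomain _, IsIntegrallyClosed.of_equiv e.toRingEquiv⟩

/-- An essentially étale local algebra is flat over every intermediate normal local domain. -/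
theorem flat_of_intermediate_normal (A T E : Type u) [CommRing A] [IsLocalRing A] [CommRing T] [IsLocalRing T]
    [IsDomain T] [IsIntegrallyClosed T] [CommRing E] [IsLocalRing E] [Algebra A T] [Algebra A E] [Algebra T E]
    [IsScalarTower A T E] [IsLocalHom (algebraMap T E)] (hE : EGA4loc.IsEssentiallyEtale A E)
    (hinj : Function.Injective (algebraMap T E)) : Module.Flat T E := by
  obtain ⟨C, _, _, q, _, _, _, hC, hq, hl⟩ := EtAlg7.exists_presentation hE
  haveI := hC
  let g : T ⊗[A] C →ₐ[T] E := Algebra.TensorProduct.lift (Algebra.ofId T E) (IsScalarTower.toAlgHom A C E)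
    fun _ _ => Commute.all _ _
  let Q : Ideal (T ⊗[A] C) := (maximalIdeal E).comap g
  have hQ : Q.comap (algebraMap T (T ⊗[A] C)) = maximalIdeal T := by
    ext t
    show g (algebraMap T _ t) ∈ maximalIdeal E ↔ _
    rw [AlgHom.commutes, mem_maximalIdeal, mem_maximalIdeal, mem_nonunits_iff, mem_nonunits_iff,
      isUnit_map_iff (algebraMap T E)]
  let E' := Localization.AtPrime Q
  have hE' : EGA4loc.IsEssentiallyEtale T E' :=
    ⟨T ⊗[A] C, inferInstance, inferInstance, Q, inferInstance, inferInstance, hQ, ⟨AlgEquiv.refl⟩⟩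
  haveI := EssEtLib.isLocalHom_algebraMap hE'
  haveI := EtAlg7.formallyUnramified hE'
  haveI := EtAlg7.essFiniteType hE'
  have hu : ∀ y : Q.primeCompl, IsUnit (g y) := fun y => by
    by_contra h
    exact y.2 h
  let π : E' →ₐ[T] E := IsLocalization.liftAlgHom (M := Q.primeCompl) (f := g) hu
  have hπ : ∀ x, π (algebraMap (T ⊗[A] C) E' x) = g x := fun x => IsLocalization.lift_eq _ x
  have hg : ∀ c : C, g (1 ⊗ₜ c) = algebraMap C E c := fun c => by simp [g]
  have hsurj : Function.Surjective π := fun e => by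
    obtain ⟨c, t, rfl⟩ := IsLocalization.exists_mk'_eq q.primeCompl e
    have ht : (1 ⊗ₜ[A] (t : C)) ∈ Q.primeCompl := fun h => by
      have h' : g (1 ⊗ₜ[A] (t : C)) ∈ maximalIdeal E := h
      rw [hg] at h'
      exact h' (IsLocalization.map_units E t)
    refine ⟨IsLocalization.mk' E' (1 ⊗ₜ[A] c) ⟨_, ht⟩, ?_⟩
    rw [IsLocalization.eq_mk'_iff_mul_eq, ← hg, ← hg, ← hπ, ← map_mul,
      show IsLocalization.mk' E' (1 ⊗ₜ[A] c) ⟨_, ht⟩ * algebraMap (T ⊗[A] C) E' (1 ⊗ₜ[A] (t : C)) = _
        from IsLocalization.mk'_spec E' (1 ⊗ₜ[A] c) ⟨_, ht⟩, hπ]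
  let S' := Hensel.StrictHenz T
  haveI : IsLocalHom (algebraMap T S') := inferInstance
  haveI : Algebra.IsSeparable (ResidueField T) (ResidueField E') := inferInstance
  haveI := (inferInstance : Hensel.IsStrictHenselization T S').isSepClosure
  haveI : IsSepClosed (ResidueField S') := IsSepClosure.sep_closed (ResidueField T)
  haveI : HenselianLocalRing S' := (inferInstance : Hensel.IsStrictHenselization T S').henselian
  let α : ResidueField E' →ₐ[ResidueField T] ResidueField S' := IsSepClosed.lift
  obtain ⟨ψ, ⟨hψl, hψc, -⟩, -⟩ := S2781.result T E' hE' S' (algebraMap T S') α.toRingHom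
    (RingHom.ext fun x => α.commutes x)
  let ψ' : E' →ₐ[T] S' := { ψ with commutes' := fun t => RingHom.congr_fun hψc t }
  obtain ⟨_, _⟩ := isDomain_normal_sh T S'
  haveI : IsDomain E' := (injective_algHom hE' ψ').isDomain ψ'.toRingHom
  haveI := Hensel.faithfullyFlat_of_isStrictHenselization T S'
  have hTE' : Function.Injective (algebraMap T E') := fun a b h =>
    FaithfulSMul.algebraMap_injective T S' (by rw [← ψ'.commutes, ← ψ'.commutes, h])
  have hinjπ : Function.Injective π := by
    rw [injective_iff_map_eq_zero]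
    intro x hx
    by_contra hx0
    obtain ⟨t, ht, z, htz⟩ := (isAlgebraic_of_unramified T E' hTE' x).exists_nonzero_dvd
      (mem_nonZeroDivisors_of_ne_zero hx0)
    have : algebraMap T E t = 0 := by rw [← π.commutes, htz, map_mul, hx, zero_mul]
    exact ht (hinj (this.trans (map_zero _).symm))
  haveI : Module.Flat (T ⊗[A] C) E' := IsLocalization.flat E' Q.primeCompl
  haveI : Module.Flat T E' := Module.Flat.trans T (T ⊗[A] C) E'
  exact Module.Flat.of_linearEquiv (AlgEquiv.ofBijective π ⟨hinjπ, hsurj⟩).toLinearEquiv.symm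

variable {A S : Type u} [CommRing A] [IsLocalRing A] [IsDomain A] [IsIntegrallyClosed A] [IsNoetherianRing A]
  [CommRing S] [IsLocalRing S] [Algebra A S] [IsLocalHom (algebraMap A S)]

/-- A subalgebra saturated for fractions inside an essentially étale local subalgebra of a strict henselization of
a normal noetherian local domain is essentially étale, with integral numerators and unit denominators. -/
theorem saturated [Hensel.IsStrictHenselization A S] {E : Subalgebra A S} [IsLocalRing E]
    [IsLocalHom (algebraMap E S)] (hE : EGA4loc.IsEssentiallyEtale A E) (T : Subalgebra A S) (hTE : T ≤ E)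
    (hT : ∀ b ∈ T, ∀ c ∈ T, c ≠ 0 → ∀ x ∈ E, x * c = b → x ∈ T) :
    ∃ _ : IsLocalRing T, IsLocalHom (algebraMap T S) ∧ EGA4loc.IsEssentiallyEtale A T ∧
      ∀ x ∈ T, ∃ b ∈ T, ∃ c ∈ T, IsIntegral A b ∧ IsIntegral A c ∧ IsUnit c ∧ x * c = b := by
  obtain ⟨_, _⟩ := isDomain_normal_sh A S
  haveI := Hensel.faithfullyFlat_of_isStrictHenselization A S
  haveI := EssEtLib.isLocalHom_algebraMap hE
  haveI := EtAlg7.formallyUnramified hE
  haveI := EtAlg7.essFiniteType hE
  haveI := isStrictHenselization_of_intermediate (S := S) hE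
  haveI := Hensel.faithfullyFlat_of_isStrictHenselization E S
  have hAS : Function.Injective (algebraMap A S) := FaithfulSMul.algebraMap_injective A S
  have hAE : Function.Injective (algebraMap A E) := fun a b h => hAS (congrArg Subtype.val h)
  have hdiv : ∀ b ∈ E, ∀ c ∈ E, c ≠ 0 → ∀ x : S, x * c = b → x ∈ E := fun b hb c hc hc0 x hx => by
    have h1 : (⟨b, hb⟩ : E) ∈ (Ideal.span {(⟨c, hc⟩ : E)}) := by
      rw [← Ideal.comap_map_eq_self_of_faithfullyFlat (B := S) (Ideal.span {(⟨c, hc⟩ : E)}), Ideal.mem_comap,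
        Ideal.map_span, Set.image_singleton, Ideal.mem_span_singleton']
      exact ⟨x, hx⟩
    obtain ⟨d, hd⟩ := Ideal.mem_span_singleton'.1 h1
    have : (d : S) = x := mul_right_cancel₀ hc0 ((congrArg Subtype.val hd).trans hx.symm)
    exact this ▸ d.2
  let B : Subalgebra A S := T ⊓ integralClosure A S
  haveI : Module.Finite A B := by
    haveI : IsDomain E := inferInstance
    haveI : Module.Finite A (integralClosure A E) := EtNorm.finite_integralClosure A E hAE
    let g : B →ₗ[A] integralClosure A E :=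
      (Subalgebra.inclusion (inf_le_left.trans hTE)).toLinearMap.codRestrict (integralClosure A E).toSubmodule
        fun z => (isIntegral_algHom_iff E.val Subtype.val_injective).1 z.2.2
    exact Module.Finite.of_injective g fun a b h =>
      Subtype.ext (congrArg (fun z : integralClosure A E => ((z : E) : S)) h)
  haveI : IsNoetherianRing B := IsNoetherianRing.of_finite A B
  haveI : IsIntegrallyClosed B := by
    refine (isIntegrallyClosed_iff (FractionRing B)).2 fun {x} hx => ?_
    obtain ⟨b, c, hc, rfl⟩ := IsFractionRing.div_surjective (A := B) x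
    have hc0 : (c : S) ≠ 0 := fun h => nonZeroDivisors.ne_zero hc (Subtype.ext h)
    let j : FractionRing B →ₐ[B] FractionRing S :=
      IsFractionRing.liftAlgHom (g := Algebra.ofId B (FractionRing S))
        ((IsFractionRing.injective S (FractionRing S)).comp Subtype.val_injective)
    obtain ⟨s, hs⟩ := IsIntegrallyClosed.isIntegral_iff.1 ((hx.map j).tower_top (A := S))
    have hsc : s * (c : S) = b := by
      apply IsFractionRing.injective S (FractionRing S)
      rw [map_mul, hs, map_div₀, j.commutes, j.commutes]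
      exact div_mul_cancel₀ _ (fun h => hc0 (IsFractionRing.injective S (FractionRing S) (h.trans (map_zero _).symm)))
    have hsE : s ∈ E := hdiv _ (hTE b.2.1) _ (hTE c.2.1) hc0 s hsc
    have hsi : IsIntegral A s := by
      have : IsIntegral B s := by
        rw [← isIntegral_algebraMap_iff (IsFractionRing.injective S (FractionRing S)), hs]
        exact hx.map j
      exact isIntegral_trans (R := A) (A := B) s this
    refine ⟨⟨s, hT _ b.2.1 _ c.2.1 hc0 s hsE hsc, hsi⟩, ?_⟩
    rw [eq_div_iff (IsFractionRing.to_map_ne_zero_of_mem_nonZeroDivisors hc), ← map_mul]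
    exact congrArg _ (Subtype.ext hsc)
  let T₀ : Subalgebra A S :=
    { carrier := {x | ∃ b ∈ B, ∃ c ∈ B, IsUnit c ∧ x * c = b}
      mul_mem' := by
        rintro x y ⟨b, hb, c, hc, hu, h⟩ ⟨b', hb', c', hc', hu', h'⟩
        exact ⟨_, B.mul_mem hb hb', _, B.mul_mem hc hc', hu.mul hu', by rw [← h, ← h']; ring⟩
      add_mem' := by
        rintro x y ⟨b, hb, c, hc, hu, h⟩ ⟨b', hb', c', hc', hu', h'⟩
        exact ⟨_, B.add_mem (B.mul_mem hb hc') (B.mul_mem hb' hc), _, B.mul_mem hc hc', hu.mul hu',
          by rw [← h, ← h']; ring⟩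
      algebraMap_mem' := fun a => ⟨_, B.algebraMap_mem a, 1, B.one_mem, isUnit_one, mul_one _⟩ }
  have hBT₀ : B ≤ T₀ := fun b hb => ⟨b, hb, 1, B.one_mem, isUnit_one, mul_one _⟩
  have hT₀T : T₀ ≤ T := by
    rintro x ⟨b, hb, c, hc, hu, h⟩
    exact hT b hb.1 c hc.1 hu.ne_zero x (hdiv _ (hTE hb.1) _ (hTE hc.1) hu.ne_zero x h) h
  have hinv : ∀ x : T₀, IsUnit (x : S) → IsUnit x := by
    rintro ⟨x, b, hb, c, hc, hu, h⟩ hx
    have hbu : IsUnit b := h ▸ hx.mul hu
    have hy : c * ↑hbu.unit⁻¹ ∈ T₀ := ⟨c, hc, b, hb, hbu, by rw [mul_assoc, hbu.val_inv_mul, mul_one]⟩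
    refine IsUnit.of_mul_eq_one (⟨_, hy⟩ : T₀) (Subtype.ext ?_)
    show x * (c * ↑hbu.unit⁻¹) = 1
    rw [← mul_assoc, h, hbu.mul_val_inv]
  haveI hlh : IsLocalHom (algebraMap T₀ S) := ⟨fun x hx => hinv x hx⟩
  haveI : IsLocalRing T₀ := RingHom.domain_isLocalRing (algebraMap T₀ S)
  letI : Algebra B T₀ := (Subalgebra.inclusion hBT₀).toRingHom.toAlgebra
  haveI : IsScalarTower A B T₀ := IsScalarTower.of_algebraMap_eq fun a => rfl
  let M : Submonoid B := (IsUnit.submonoid S).comap B.val
  haveI : IsLocalization M T₀ :=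
    { map_units := fun y => hinv _ y.2
      surj := fun z => by
        obtain ⟨b, hb, c, hc, hu, h⟩ := z.2
        exact ⟨(⟨b, hb⟩, ⟨⟨c, hc⟩, hu⟩), Subtype.ext h⟩
      exists_of_eq := fun {x y} h => ⟨1, by
        rw [show x = y from Subtype.ext (congrArg (fun z : T₀ => (z : S)) h)]⟩ }
  have hM : M ≤ B⁰ := fun y hy => mem_nonZeroDivisors_of_ne_zero fun h => by
    rw [h] at hy
    exact hy.ne_zero (map_zero B.val)
  haveI : IsIntegrallyClosed T₀ := isIntegrallyClosed_of_isLocalization T₀ M hM
  haveI : Algebra.EssFiniteType B T₀ := Algebra.EssFiniteType.of_isLocalization T₀ M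
  haveI : Algebra.EssFiniteType A T₀ := Algebra.EssFiniteType.comp A B T₀
  let i : T₀ →ₐ[A] E := Subalgebra.inclusion (hT₀T.trans hTE)
  letI : Algebra T₀ E := i.toRingHom.toAlgebra
  haveI : IsScalarTower A T₀ E := IsScalarTower.of_algebraMap_eq fun a => rfl
  haveI : IsLocalHom (algebraMap T₀ E) := ⟨fun x hx => hinv x (hx.map E.val)⟩
  haveI : Module.Flat T₀ E := flat_of_intermediate_normal A T₀ E hE fun x y h =>
    Subtype.ext (congrArg (fun z : E => (z : S)) h)
  haveI : Module.FaithfullyFlat T₀ E := Module.FaithfullyFlat.of_flat_of_isLocalHom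
  have hm : Ideal.map (algebraMap A T₀) (maximalIdeal A) = maximalIdeal T₀ := by
    rw [← Ideal.comap_map_eq_self_of_faithfullyFlat (B := E) (Ideal.map (algebraMap A T₀) (maximalIdeal A)),
      Ideal.map_map, ← IsScalarTower.algebraMap_eq, EtAlg7.map_maximalIdeal hE]
    ext t
    rw [Ideal.mem_comap, mem_maximalIdeal, mem_maximalIdeal, mem_nonunits_iff, mem_nonunits_iff,
      isUnit_map_iff (algebraMap T₀ E)]
  have hTT₀ : T ≤ T₀ := fun x hx => by
    obtain ⟨y, hy0, hy⟩ := (isAlgebraic_of_unramified A E hAE ⟨x, hTE hx⟩).exists_integral_multiple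
    have hyi : IsIntegral A (algebraMap A S y * x) := by
      have := hy.map E.val
      rwa [Algebra.smul_def, map_mul, AlgHom.commutes] at this
    have hB : algebraMap A S y * x ∈ T₀ := hBT₀ ⟨T.mul_mem (T.algebraMap_mem y) hx, hyi⟩
    have h1 : (⟨_, hB⟩ : T₀) ∈ Ideal.span {algebraMap A T₀ y} := by
      rw [← Ideal.comap_map_eq_self_of_faithfullyFlat (B := E) (Ideal.span {algebraMap A T₀ y}), Ideal.mem_comap,
        Ideal.map_span, Set.image_singleton, Ideal.mem_span_singleton']
      exact ⟨⟨x, hTE hx⟩, Subtype.ext (mul_comm _ _)⟩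
    obtain ⟨d, hd⟩ := Ideal.mem_span_singleton'.1 h1
    have : (d : S) = x := mul_right_cancel₀ (fun h => hy0 (hAS (h.trans (map_zero _).symm)))
      ((congrArg Subtype.val hd).trans (mul_comm _ _))
    exact this ▸ d.2
  have key : ∃ _ : IsLocalRing T₀, IsLocalHom (algebraMap T₀ S) ∧ EGA4loc.IsEssentiallyEtale A T₀ ∧
      ∀ x ∈ T₀, ∃ b ∈ T₀, ∃ c ∈ T₀, IsIntegral A b ∧ IsIntegral A c ∧ IsUnit c ∧ x * c = b := by
    refine ⟨inferInstance, hlh, S16438.result A S T₀ hm, fun x hx => ?_⟩
    obtain ⟨b, hb, c, hc, hu, h⟩ := hx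
    exact ⟨b, hBT₀ hb, c, hBT₀ hc, hb.2, hc.2, hu, h⟩
  rwa [le_antisymm hT₀T hTT₀] at key

end Groth.Agent.SHEss
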