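import Groth.Agent.AcycFin.StrictLoc
import Groth.Agent.Hensel.HenselizationProps
import Groth.Agent.S0540
import Mathlib.RingTheory.Filtration

/-!
# A strict henselization is one of every unramified Noetherian intermediate local ring
-/

set_option autoImplicit false
set_option linter.style.haveILetI false

universe u

open IsLocalRing

namespace Groth.Agent.SHEss

/-- A strict henselization of `A` is one of every Noetherian intermediate local ring unramified over `A`. -/
theorem isStrictHenselization_of_unramified_sub (A D S : Type u) [CommRing A] [IsLocalRing A]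
    [CommRing D] [IsLocalRing D] [IsNoetherianRing D] [CommRing S] [IsLocalRing S] [Algebra A D] [Algebra A S]
    [Algebra D S] [IsScalarTower A D S] [IsLocalHom (algebraMap A S)] [IsLocalHom (algebraMap A D)]
    [IsLocalHom (algebraMap D S)] [hS : Hensel.IsStrictHenselization A S]
    (hm : (maximalIdeal A).map (algebraMap A D) = maximalIdeal D) : Hensel.IsStrictHenselization D S := by
  let T := Hensel.StrictHenz D
  have hT : Hensel.IsStrictHenselization D T := inferInstance
  haveI : IsNoetherianRing T := (S0540.result D T).1 inferInstance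
  haveI := hS.isSepClosure
  haveI := hT.isSepClosure
  haveI : Algebra.IsSeparable (ResidueField A) (ResidueField S) := IsSepClosure.separable
  haveI : IsSepClosed (ResidueField S) := IsSepClosure.sep_closed (ResidueField A)
  haveI : IsSepClosure (ResidueField D) (ResidueField S) :=
    ⟨inferInstance, Algebra.isSeparable_tower_top_of_isSeparable (ResidueField A) (ResidueField D) (ResidueField S)⟩
  let τ : ResidueField T ≃ₐ[ResidueField D] ResidueField S := IsSepClosure.equiv (ResidueField D) _ _
  haveI : HenselianLocalRing S := hS.henselian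
  haveI : HenselianLocalRing T := hT.henselian
  obtain ⟨g, ⟨hg, hgr⟩, -⟩ := hT.universal S (algebraMap D S) τ.toAlgHom.toRingHom (RingHom.ext τ.toAlgHom.commutes)
  let fA : A →+* T := (algebraMap D T).comp (algebraMap A D)
  haveI : IsLocalHom fA := RingHom.isLocalHom_comp _ _
  obtain ⟨φ, ⟨hφ, hφr⟩, -⟩ := hS.universal T fA τ.symm.toAlgHom.toRingHom (by
    refine RingHom.ext fun x => ?_
    obtain ⟨a, rfl⟩ := residue_surjective x
    show τ.symm (residue S (algebraMap A S a)) = residue T (algebraMap D T (algebraMap A D a))
    rw [IsScalarTower.algebraMap_apply A D S]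
    exact τ.symm.commutes (residue D (algebraMap A D a)))
  have hgA : g.comp fA = algebraMap A S := by
    rw [← RingHom.comp_assoc, hg, ← IsScalarTower.algebraMap_eq]
  have hgφ : g.comp φ = RingHom.id S :=
    (hS.universal S (algebraMap A S) (RingHom.id _) (RingHom.id_comp _)).unique
      ⟨by rw [RingHom.comp_assoc, hφ, hgA], fun x => by
        rw [RingHom.comp_apply, hgr, hφr]
        exact τ.apply_symm_apply _⟩
      ⟨RingHom.id_comp _, fun _ => rfl⟩
  have hmT : maximalIdeal T = (maximalIdeal A).map fA := by
    show _ = (maximalIdeal A).map ((algebraMap D T).comp (algebraMap A D))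
    rw [← Ideal.map_map, hm, Hensel.map_maximalIdeal_of_isStrictHenselization D T]
  have happrox : ∀ n : ℕ, ∀ x : T, ∃ s : S, x - φ s ∈ ((maximalIdeal A) ^ n).map fA := by
    have h1 : ∀ x : T, ∃ s : S, x - φ s ∈ maximalIdeal T := fun x => by
      obtain ⟨s, hs⟩ := residue_surjective (τ (residue T x))
      refine ⟨s, ?_⟩
      rw [← residue_eq_zero_iff, map_sub, hφr, hs, sub_eq_zero]
      exact (τ.symm_apply_apply _).symm
    intro n
    induction n with
    | zero => exact fun x => ⟨0, by rw [pow_zero, Ideal.one_eq_top, Ideal.map_top]; trivial⟩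
    | succ n ih =>
      intro x
      obtain ⟨s, hs⟩ := ih x
      have key : ∀ y ∈ ((maximalIdeal A) ^ n).map fA, ∃ s' : S, y - φ s' ∈ ((maximalIdeal A) ^ (n + 1)).map fA := by
        intro y hy
        induction hy using Submodule.span_induction with
        | mem y hy =>
          obtain ⟨a, ha, rfl⟩ := hy
          refine ⟨algebraMap A S a, ?_⟩
          rw [← RingHom.comp_apply φ, hφ, sub_self]
          exact zero_mem _
        | zero => exact ⟨0, by rw [map_zero, sub_zero]; exact zero_mem _⟩
        | add y z _ _ hy hz =>
          obtain ⟨a, ha⟩ := hy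
          obtain ⟨b, hb⟩ := hz
          exact ⟨a + b, by rw [map_add, add_sub_add_comm]; exact add_mem ha hb⟩
        | smul c y hy' hy =>
          obtain ⟨a, ha⟩ := hy
          obtain ⟨c', hc'⟩ := h1 c
          refine ⟨c' * a, ?_⟩
          have e : c • y - φ (c' * a) = (c - φ c') * y + φ c' * (y - φ a) := by rw [smul_eq_mul, map_mul]; ring
          rw [e]
          refine add_mem ?_ (Ideal.mul_mem_left _ _ ha)
          rw [Ideal.map_pow, pow_succ', ← hmT]
          refine Ideal.mul_mem_mul hc' ?_
          rw [hmT, ← Ideal.map_pow]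
          exact hy'
      obtain ⟨s', hs'⟩ := key _ hs
      exact ⟨s + s', by rwa [map_add, ← sub_sub]⟩
  have hginj : Function.Injective g := by
    rw [injective_iff_map_eq_zero]
    intro x hx
    have hx' : ∀ n, x ∈ (maximalIdeal T) ^ n := fun n => by
      obtain ⟨s, hs⟩ := happrox n x
      rw [hmT, ← Ideal.map_pow]
      have h1 := Ideal.mem_map_of_mem g hs
      rw [Ideal.map_map, hgA, map_sub, hx, ← RingHom.comp_apply g, hgφ, zero_sub, RingHom.id_apply, neg_mem_iff] at h1
      have h2 := Ideal.mem_map_of_mem φ h1
      rw [Ideal.map_map, hφ] at h2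
      simpa using add_mem hs h2
    have : x ∈ ⨅ n, (maximalIdeal T) ^ n := Submodule.mem_iInf _ |>.2 hx'
    rwa [Ideal.iInf_pow_eq_bot_of_isLocalRing _ (maximalIdeal.isMaximal T).ne_top, Ideal.mem_bot] at this
  have hgsurj : Function.Surjective g := fun s => ⟨φ s, RingHom.congr_fun hgφ s⟩
  exact AcycFin.isStrictHenselization_of_bijective (RingEquiv.ofBijective g ⟨hginj, hgsurj⟩) hg

end Groth.Agent.SHEss
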